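import Mathlib
import Cfsg.Prelude.Def_OddOrder
import Cfsg.Prelude.Def_OddOrderLocal
import Cfsg.Agent.Lib.Helper54.BGTransitivity
import Cfsg.Agent.Lib.Helper76.EqOrd1
import Cfsg.Agent.Lib.Helper23.Basic

/-!
# Small general facts used for the Bender–Glauberman chain (sections 14–16)
-/

set_option autoImplicit false

namespace Cfsg.Agent.Helper55.BGB

open Subgroup Cfsg

variable {G : Type*} [Group G]

theorem sigmaCore_le (M : Subgroup G) : Cfsg.sigmaCore M ≤ M := by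
  unfold Cfsg.sigmaCore
  intro x hx
  obtain ⟨y, -, rfl⟩ := hx
  exact y.2

theorem isPi_sigmaCore [Finite G] (M : Subgroup G) :
    ∀ r : ℕ, r.Prime → r ∣ Nat.card (Cfsg.sigmaCore M) → r ∈ Cfsg.sigma M :=
  Cfsg.Agent.Helper54.isPi_piCoreOf (Cfsg.sigma M) M

theorem not_mem_sigma_of_mem_kappa {M : Subgroup G} {p : ℕ} (h : p ∈ Cfsg.kappa M) :
    p ∉ Cfsg.sigma M := h.2.2.1

/-- A `κ(M)`-group meets a `σ(M)`-group trivially. -/
theorem inf_eq_bot_of_kappa_sigma [Finite G] {M A B : Subgroup G}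
    (hA : ∀ p : ℕ, p.Prime → p ∣ Nat.card A → p ∈ Cfsg.kappa M)
    (hB : ∀ p : ℕ, p.Prime → p ∣ Nat.card B → p ∈ Cfsg.sigma M) : A ⊓ B = ⊥ := by
  by_contra hne
  have hcard : Nat.card (A ⊓ B : Subgroup G) ≠ 1 := by
    intro h1
    exact hne ((Subgroup.card_eq_one).mp h1)
  obtain ⟨p, hp, hpd⟩ := Nat.exists_prime_and_dvd hcard
  have h1 : p ∣ Nat.card A := hpd.trans (Subgroup.card_dvd_of_le inf_le_left)
  have h2 : p ∣ Nat.card B := hpd.trans (Subgroup.card_dvd_of_le inf_le_right)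
  exact not_mem_sigma_of_mem_kappa (hA p hp h1) (hB p hp h2)

/-- If `M` is the unique maximal subgroup containing `C_G(X)`, then `N_G(X) ≤ M`. -/
theorem normalizer_le_of_unique [Finite G] [IsSimpleGroup G] {X M : Subgroup G} (hX : X ≠ ⊥)
    (hXt : X ≠ ⊤)
    (hu : ∀ L : Subgroup G, IsCoatom L → centralizer (X : Set G) ≤ L → L = M) :
    normalizer (X : Set G) ≤ M := by
  have hN : normalizer (X : Set G) ≠ ⊤ :=
    Cfsg.Agent.Helper54.normalizer_ne_top_of_isSimpleGroup X hX hXt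
  rcases eq_top_or_exists_le_coatom (normalizer (X : Set G)) with h | ⟨L, hL, hNL⟩
  · exact absurd h hN
  · have hCN : centralizer (X : Set G) ≤ normalizer (X : Set G) := Subgroup.centralizer_le_normalizer _
    rw [← hu L hL (hCN.trans hNL)]
    exact hNL

end Cfsg.Agent.Helper55.BGB
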