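import Mathlib
import Cfsg.Agent.Lib.Helper55.BGBasic
import Cfsg.Agent.Lib.Helper22.Fitting

/-!
# `F(M)`, `M_F`, `M_σ` as subgroups of `G`: normality in `M`, and `M_σ ≤ M_F` when `M_σ` is nilpotent Hall
-/

set_option autoImplicit false

namespace Cfsg.Agent.Helper55.BGB

open Subgroup Cfsg

variable {G : Type*} [Group G]

theorem le_normalizer_map_subtype (M : Subgroup G) (N : Subgroup M) [hN : N.Normal] :
    M ≤ normalizer ((N.map M.subtype : Subgroup G) : Set G) := by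
  intro m hm
  rw [mem_normalizer_iff]
  intro h
  constructor
  · rintro ⟨n, hn, rfl⟩
    refine ⟨⟨m, hm⟩ * n * ⟨m, hm⟩⁻¹, hN.conj_mem n hn _, ?_⟩
    simp
  · rintro ⟨n, hn, hnh⟩
    have h1 : (⟨m, hm⟩ : M)⁻¹ * n * (⟨m, hm⟩ : M)⁻¹⁻¹ ∈ N := hN.conj_mem n hn _
    refine ⟨(⟨m, hm⟩ : M)⁻¹ * n * (⟨m, hm⟩ : M)⁻¹⁻¹, h1, ?_⟩
    have : (M.subtype n : G) = m * h * m⁻¹ := hnh
    simp only [inv_inv, map_mul, map_inv, Subgroup.subtype_apply]
    have h2 : (n : G) = m * h * m⁻¹ := this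
    rw [h2]; group

theorem le_normalizer_fittingOf (M : Subgroup G) :
    M ≤ normalizer ((Cfsg.fittingOf M : Subgroup G) : Set G) := by
  unfold Cfsg.fittingOf
  exact le_normalizer_map_subtype M (Cfsg.fittingSubgroup M)

theorem le_normalizer_fittingHallOf (M : Subgroup G) :
    M ≤ normalizer ((Cfsg.fittingHallOf M : Subgroup G) : Set G) := by
  unfold Cfsg.fittingHallOf
  exact le_normalizer_map_subtype M (Cfsg.fittingHall M)

theorem le_normalizer_sigmaCore (M : Subgroup G) :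
    M ≤ normalizer ((Cfsg.sigmaCore M : Subgroup G) : Set G) := by
  unfold Cfsg.sigmaCore
  exact le_normalizer_map_subtype M (Cfsg.piCore (Cfsg.sigma M) M)

theorem fittingOf_le (M : Subgroup G) : Cfsg.fittingOf M ≤ M := by
  unfold Cfsg.fittingOf
  rintro _ ⟨y, -, rfl⟩
  exact y.2

theorem fittingHallOf_le (M : Subgroup G) : Cfsg.fittingHallOf M ≤ M := by
  unfold Cfsg.fittingHallOf
  rintro _ ⟨y, -, rfl⟩
  exact y.2

/-- If `M_σ = F(M)` and `M_σ` is a Hall `σ(M)`-subgroup of `M`, then `M_σ ≤ M_F`. -/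
theorem sigmaCore_le_fittingHallOf [Finite G] (M : Subgroup G)
    (hσF : Cfsg.sigmaCore M = Cfsg.fittingOf M)
    (hHall : Cfsg.IsPiHallOf (Cfsg.sigma M) (Cfsg.sigmaCore M) M) :
    Cfsg.sigmaCore M ≤ Cfsg.fittingHallOf M := by
  have hinj : Function.Injective (M.subtype) := M.subtype_injective
  have heq : Cfsg.piCore (Cfsg.sigma M) M = Cfsg.fittingSubgroup M := by
    apply Subgroup.map_injective hinj
    exact hσF
  have hnil : Group.IsNilpotent (Cfsg.piCore (Cfsg.sigma M) M) := by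
    rw [heq]; exact Cfsg.Agent.Helper22.isNilpotent_fittingSubgroup
  have hcard : Nat.card (Cfsg.piCore (Cfsg.sigma M) M) = Nat.card (Cfsg.sigmaCore M) := by
    unfold Cfsg.sigmaCore
    exact (Subgroup.card_map_of_injective hinj).symm
  have hidx : (Cfsg.piCore (Cfsg.sigma M) M).index = (Cfsg.sigmaCore M).relIndex M := by
    unfold Cfsg.sigmaCore Subgroup.relIndex
    congr 1
    exact (Subgroup.comap_map_eq_self_of_injective hinj _).symm
  have hcop : (Nat.card (Cfsg.piCore (Cfsg.sigma M) M)).Coprime (Cfsg.piCore (Cfsg.sigma M) M).index := by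
    rw [hcard, hidx]
    apply Nat.Coprime.symm
    apply Nat.Coprime.symm
    apply Nat.coprime_of_dvd
    intro k hk hk1 hk2
    exact hHall.2.2 k hk (hHall.2.1 k hk hk1) hk2
  have hle : Cfsg.piCore (Cfsg.sigma M) M ≤ Cfsg.fittingHall M :=
    le_sSup ⟨inferInstance, hnil, hcop⟩
  unfold Cfsg.sigmaCore Cfsg.fittingHallOf
  exact Subgroup.map_mono hle

end Cfsg.Agent.Helper55.BGB
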