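import Mathlib
import Cfsg.Agent.Lib.Helper55.BGFit

/-!
# Hall-type plumbing for `M_σ`, `M_α` (BG chain)
-/

set_option autoImplicit false

namespace Cfsg.Agent.Helper55.BGB

open Subgroup Cfsg

variable {G : Type*} [Group G]

theorem prankLE_of_injective {H K : Type*} [Group H] [Group K] {p k : ℕ} (f : H →* K)
    (hf : Function.Injective f) (h : Cfsg.PRankLE p k K) : Cfsg.PRankLE p k H := by
  intro A hAc hAp
  have hc : IsMulCommutative (A.map f) := by
    refine ⟨⟨?_⟩⟩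
    rintro ⟨_, ⟨a, ha, rfl⟩⟩ ⟨_, ⟨b, hb, rfl⟩⟩
    apply Subtype.ext
    have := hAc.is_comm.comm ⟨a, ha⟩ ⟨b, hb⟩
    have h2 : a * b = b * a := congrArg Subtype.val this
    show f a * f b = f b * f a
    rw [← map_mul, ← map_mul, h2]
  have hp : ∀ x ∈ A.map f, x ^ p = 1 := by
    rintro _ ⟨a, ha, rfl⟩
    rw [← map_pow, hAp a ha, map_one]
  have := h (A.map f) hc hp
  rwa [Subgroup.card_map_of_injective hf] at this

/-- A `p`-subgroup of `M` with `p ∈ σ(M)` lies in `M_σ` when `M_σ` is a Hall `σ(M)`-subgroup of `M`. -/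
theorem le_sigmaCore_of_isPGroup [Finite G] {M Q : Subgroup G} {p : ℕ} (hp : p.Prime)
    (hHall : Cfsg.IsPiHallOf (Cfsg.sigma M) (Cfsg.sigmaCore M) M) (hpσ : p ∈ Cfsg.sigma M)
    (hQM : Q ≤ M) (hQ : IsPGroup p Q) : Q ≤ Cfsg.sigmaCore M := by
  haveI := Fact.mk hp
  set N : Subgroup M := Cfsg.piCore (Cfsg.sigma M) M with hN
  have hidx : N.index = (Cfsg.sigmaCore M).relIndex M := by
    unfold Cfsg.sigmaCore Subgroup.relIndex
    congr 1
    exact (Subgroup.comap_map_eq_self_of_injective M.subtype_injective _).symm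
  have hnd : ¬ p ∣ N.index := by rw [hidx]; exact hHall.2.2 p hp hpσ
  intro x hx
  have hxM : x ∈ M := hQM hx
  obtain ⟨k, hk⟩ := hQ ⟨x, hx⟩
  have hxk : x ^ p ^ k = 1 := by
    have := congrArg Subtype.val hk
    simpa using this
  set y : M := ⟨x, hxM⟩ with hy
  have hyk : y ^ p ^ k = 1 := Subtype.ext (by simpa using hxk)
  have hq : ((QuotientGroup.mk' N) y) ^ p ^ k = 1 := by rw [← map_pow, hyk, map_one]
  have ho1 : orderOf ((QuotientGroup.mk' N) y) ∣ p ^ k := orderOf_dvd_of_pow_eq_one hq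
  have ho2 : orderOf ((QuotientGroup.mk' N) y) ∣ N.index := by
    rw [Subgroup.index_eq_card]; exact orderOf_dvd_natCard _
  have hcop : (p ^ k).Coprime N.index := by
    apply Nat.Coprime.pow_left
    exact (Nat.Prime.coprime_iff_not_dvd hp).mpr hnd
  have ho : orderOf ((QuotientGroup.mk' N) y) = 1 :=
    Nat.eq_one_of_dvd_coprimes hcop ho1 ho2
  have hyN : y ∈ N := by
    have := orderOf_eq_one_iff.mp ho
    exact (QuotientGroup.eq_one_iff y).mp this
  unfold Cfsg.sigmaCore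
  exact ⟨y, hyN, rfl⟩

/-- Schur–Zassenhaus: a complement `E` to `M_σ` in `M`. -/
theorem exists_compl_sigmaCore [Finite G] {M : Subgroup G}
    (hHall : Cfsg.IsPiHallOf (Cfsg.sigma M) (Cfsg.sigmaCore M) M) :
    ∃ E : Subgroup G, Cfsg.IsComplIn E (Cfsg.sigmaCore M) M := by
  set N : Subgroup M := Cfsg.piCore (Cfsg.sigma M) M with hN
  have hcard : Nat.card N = Nat.card (Cfsg.sigmaCore M) := by
    unfold Cfsg.sigmaCore
    exact (Subgroup.card_map_of_injective M.subtype_injective).symm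
  have hidx : N.index = (Cfsg.sigmaCore M).relIndex M := by
    unfold Cfsg.sigmaCore Subgroup.relIndex
    congr 1
    exact (Subgroup.comap_map_eq_self_of_injective M.subtype_injective _).symm
  have hcop : (Nat.card N).Coprime N.index := by
    rw [hcard, hidx]
    apply Nat.coprime_of_dvd
    intro k hk hk1 hk2
    exact hHall.2.2 k hk (hHall.2.1 k hk hk1) hk2
  obtain ⟨H, hH⟩ := Subgroup.exists_left_complement'_of_coprime hcop
  refine ⟨H.map M.subtype, Subgroup.map_subtype_le _, sigmaCore_le M, ?_, ?_⟩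
  · rw [eq_bot_iff]
    rintro x ⟨⟨h, hh, rfl⟩, hx2⟩
    unfold Cfsg.sigmaCore at hx2
    obtain ⟨n, hn, hnx⟩ := hx2
    have hnh : n = h := M.subtype_injective hnx
    have hdisj := hH.disjoint
    have : h ∈ H ⊓ N := ⟨hh, hnh ▸ hn⟩
    rw [hdisj.eq_bot] at this
    rw [Subgroup.mem_bot] at this ⊢
    rw [this]; rfl
  · intro m hm
    obtain ⟨⟨⟨h, hh⟩, ⟨n, hn⟩⟩, hmul, -⟩ := hH.existsUnique (⟨m, hm⟩ : M)
    refine ⟨(h : G), ⟨h, hh, rfl⟩, (n : G), ?_, ?_⟩
    · unfold Cfsg.sigmaCore; exact ⟨n, hn, rfl⟩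
    · have := congrArg Subtype.val hmul
      simpa using this.symm

/-- Primes outside `σ(M)` have `p`-rank at most 2 in `M`, given BG 10.2 (`M_α` Hall and `M_α ≤ M_σ`). -/
theorem prankLE_two_of_not_mem_sigma [Finite G] {M : Subgroup G} {p : ℕ} (hp : p.Prime)
    (hα : Cfsg.IsPiHallOf (Cfsg.alpha M) (Cfsg.alphaCore M) M)
    (hle : Cfsg.alphaCore M ≤ Cfsg.sigmaCore M) (hpσ : p ∉ Cfsg.sigma M) :
    Cfsg.PRankLE p 2 M := by
  by_contra hr
  have hpα : p ∈ Cfsg.alpha M := ⟨hp, hr⟩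
  have hnd : ¬ p ∣ (Cfsg.alphaCore M).relIndex M := hα.2.2 p hp hpα
  -- p divides |M|
  have hpM : p ∣ Nat.card M := by
    unfold Cfsg.PRankLE at hr
    push_neg at hr
    obtain ⟨A, hAc, hAp, hAcard⟩ := hr
    have hA1 : Nat.card A ≠ 1 := by
      intro h
      rw [h] at hAcard
      have : 1 ≤ p ^ 2 := Nat.one_le_pow _ _ hp.pos
      omega
    obtain ⟨q, hq, hqd⟩ := Nat.exists_prime_and_dvd hA1
    haveI := Fact.mk hq
    obtain ⟨a, ha⟩ := exists_prime_orderOf_dvd_card' (G := A) q hqd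
    have hap : (a : M) ^ p = 1 := hAp a a.2
    have hao : orderOf (a : M) = q := by rw [Subgroup.orderOf_coe]; exact ha
    have hqp : q ∣ p := by rw [← hao]; exact orderOf_dvd_of_pow_eq_one hap
    have hqp' : q = p := (Nat.prime_dvd_prime_iff_eq hq hp).mp hqp
    rw [← hqp']
    exact hqd.trans (Subgroup.card_subgroup_dvd_card A)
  have hmul : Nat.card (Cfsg.alphaCore M) * (Cfsg.alphaCore M).relIndex M = Nat.card M := by
    have := Subgroup.card_mul_index ((Cfsg.alphaCore M).subgroupOf M)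
    rw [← this]
    congr 1
    exact (Nat.card_congr (Subgroup.subgroupOfEquivOfLe hα.1).toEquiv).symm
  have hpa : p ∣ Nat.card (Cfsg.alphaCore M) := by
    rw [← hmul] at hpM
    rcases (Nat.Prime.dvd_mul hp).mp hpM with h | h
    · exact h
    · exact absurd h hnd
  have hps : p ∣ Nat.card (Cfsg.sigmaCore M) := hpa.trans (Subgroup.card_dvd_of_le hle)
  exact hpσ (isPi_sigmaCore M p hp hps)

end Cfsg.Agent.Helper55.BGB
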