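import Mathlib
import Cfsg.Agent.Lib.Helper55.BGHall
import Cfsg.Agent.Lib.Helper23.FittingHall
import Cfsg.Agent.Lib.Helper50.SubnormalSylow
import Cfsg.Agent.S0004

/-!
# Arithmetic of the standard factorisation `M = K U M_σ` (BG chain)
-/

set_option autoImplicit false

namespace Cfsg.Agent.Helper55.BGB

open Subgroup Cfsg
open scoped Pointwise

variable {G : Type*} [Group G]

theorem card_mul_relIndex [Finite G] {A M : Subgroup G} (h : A ≤ M) :
    Nat.card A * A.relIndex M = Nat.card M := by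
  have := Subgroup.card_mul_index (A.subgroupOf M)
  rw [← this]
  congr 1
  exact (Nat.card_congr (Subgroup.subgroupOfEquivOfLe h).toEquiv).symm

theorem K_inf_sigmaCore [Finite G] {M K U : Subgroup G} (hKU : Cfsg.IsSigmaDecomposition M K U) :
    K ⊓ Cfsg.sigmaCore M = ⊥ :=
  inf_eq_bot_of_kappa_sigma (M := M) hKU.hall.2.1 (isPi_sigmaCore M)

theorem card_K_sup_sigmaCore [Finite G] {M K U : Subgroup G}
    (hKU : Cfsg.IsSigmaDecomposition M K U) :
    Nat.card (K ⊔ Cfsg.sigmaCore M : Subgroup G) = Nat.card K * Nat.card (Cfsg.sigmaCore M) := by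
  have hKn : K ≤ normalizer ((Cfsg.sigmaCore M : Subgroup G) : Set G) :=
    hKU.hall.1.trans (le_normalizer_sigmaCore M)
  have h := Cfsg.Agent.Helper50.card_sup_mul_card_inf_of_le_normalizer (Cfsg.sigmaCore M) K hKn
  have hdisj : Cfsg.sigmaCore M ⊓ K = ⊥ := by rw [inf_comm]; exact K_inf_sigmaCore hKU
  rw [hdisj, Subgroup.card_bot, mul_one] at h
  rw [sup_comm, h, mul_comm]

theorem card_decomp [Finite G] {M K U : Subgroup G} (hKU : Cfsg.IsSigmaDecomposition M K U) :
    Nat.card M = Nat.card U * (Nat.card K * Nat.card (Cfsg.sigmaCore M)) := by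
  rw [← card_K_sup_sigmaCore hKU]
  exact Cfsg.Agent.Helper23.card_of_isComplIn hKU.compl

/-- `U` is a `(κ ∪ σ)'`-group. -/
theorem U_prime_not_mem [Finite G] {M K U : Subgroup G} (hKU : Cfsg.IsSigmaDecomposition M K U)
    (hHall : Cfsg.IsPiHallOf (Cfsg.sigma M) (Cfsg.sigmaCore M) M) {q : ℕ} (hq : q.Prime)
    (hqU : q ∣ Nat.card U) : q ∉ Cfsg.kappa M ∧ q ∉ Cfsg.sigma M := by
  have hcard := card_decomp hKU
  constructor
  · intro hk
    have h1 : ¬ q ∣ K.relIndex M := hKU.hall.2.2 q hq hk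
    have h2 := card_mul_relIndex hKU.hall.1
    have h3 : K.relIndex M = Nat.card U * Nat.card (Cfsg.sigmaCore M) := by
      have hpos : 0 < Nat.card K := Nat.card_pos
      apply Nat.eq_of_mul_eq_mul_left hpos
      rw [h2, hcard]; ring
    exact h1 (h3 ▸ Dvd.dvd.mul_right hqU _)
  · intro hs
    have h1 : ¬ q ∣ (Cfsg.sigmaCore M).relIndex M := hHall.2.2 q hq hs
    have h2 := card_mul_relIndex hHall.1
    have h3 : (Cfsg.sigmaCore M).relIndex M = Nat.card U * Nat.card K := by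
      have hpos : 0 < Nat.card (Cfsg.sigmaCore M) := Nat.card_pos
      apply Nat.eq_of_mul_eq_mul_left hpos
      rw [h2, hcard]; ring
    exact h1 (h3 ▸ Dvd.dvd.mul_right hqU _)

/-- Any Hall `(κ ∪ σ)'`-subgroup of `M` has the same order as `U`. -/
theorem card_eq_of_hall [Finite G] {M K U U' : Subgroup G}
    (hKU : Cfsg.IsSigmaDecomposition M K U)
    (hHall : Cfsg.IsPiHallOf (Cfsg.sigma M) (Cfsg.sigmaCore M) M)
    (hU' : Cfsg.IsPiHallOf {q | q.Prime ∧ q ∉ Cfsg.kappa M ∧ q ∉ Cfsg.sigma M} U' M) :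
    Nat.card U' = Nat.card U := by
  have hcard := card_decomp hKU
  have hcard' := card_mul_relIndex hU'.1
  set n := Nat.card K * Nat.card (Cfsg.sigmaCore M) with hn
  -- card U' is coprime to n
  have hcop1 : (Nat.card U').Coprime n := by
    apply Nat.coprime_of_dvd
    intro q hq hq1 hq2
    have hmem := hU'.2.1 q hq hq1
    rcases (Nat.Prime.dvd_mul hq).mp hq2 with h | h
    · exact hmem.2.1 (hKU.hall.2.1 q hq h)
    · exact hmem.2.2 (isPi_sigmaCore M q hq h)
  -- card U is coprime to relIndex U'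
  have hcop2 : (Nat.card U).Coprime (U'.relIndex M) := by
    apply Nat.coprime_of_dvd
    intro q hq hq1 hq2
    obtain ⟨h1, h2⟩ := U_prime_not_mem hKU hHall hq hq1
    exact hU'.2.2 q hq ⟨hq, h1, h2⟩ hq2
  have hd1 : Nat.card U' ∣ Nat.card U := by
    have : Nat.card U' ∣ Nat.card U * n := by
      rw [← hcard, ← hcard']; exact Dvd.intro _ rfl
    exact hcop1.dvd_of_dvd_mul_right this
  have hd2 : Nat.card U ∣ Nat.card U' := by
    have : Nat.card U ∣ Nat.card U' * U'.relIndex M := by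
      rw [hcard', hcard]; exact Dvd.intro _ rfl
    exact hcop2.dvd_of_dvd_mul_right this
  exact Nat.dvd_antisymm hd1 hd2

/-- Hall conjugacy in the solvable group `M`: `U` is an `M`-conjugate of any Hall `(κ ∪ σ)'`-subgroup. -/
theorem exists_conj_of_hall [Finite G] {M K U U' : Subgroup G} (hsol : Group.IsSolvable M)
    (hKU : Cfsg.IsSigmaDecomposition M K U)
    (hHall : Cfsg.IsPiHallOf (Cfsg.sigma M) (Cfsg.sigmaCore M) M)
    (hU' : Cfsg.IsPiHallOf {q | q.Prime ∧ q ∉ Cfsg.kappa M ∧ q ∉ Cfsg.sigma M} U' M) :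
    ∃ l ∈ M, U = U'.map (MulAut.conj l).toMonoidHom := by
  have hcard := card_decomp hKU
  have hUM : U ≤ M := hKU.compl.1
  set n := Nat.card K * Nat.card (Cfsg.sigmaCore M) with hn
  have hcop : (Nat.card U).Coprime n := by
    apply Nat.coprime_of_dvd
    intro q hq hq1 hq2
    obtain ⟨h1, h2⟩ := U_prime_not_mem hKU hHall hq hq1
    rcases (Nat.Prime.dvd_mul hq).mp hq2 with h | h
    · exact h1 (hKU.hall.2.1 q hq h)
    · exact h2 (isPi_sigmaCore M q hq h)
  have hA : Nat.card (U'.subgroupOf M) = Nat.card U := by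
    rw [← card_eq_of_hall hKU hHall hU']
    exact Nat.card_congr (Subgroup.subgroupOfEquivOfLe hU'.1).toEquiv
  have hB : Nat.card (U.subgroupOf M) = Nat.card U :=
    Nat.card_congr (Subgroup.subgroupOfEquivOfLe hUM).toEquiv
  obtain ⟨l, hl⟩ := Cfsg.Agent.S0004.result (G := M) (Nat.card U) n hcard hcop
    (U'.subgroupOf M) (U.subgroupOf M) hA hB
  refine ⟨(l : G), l.2, ?_⟩
  ext x
  constructor
  · intro hx
    have hxM : x ∈ M := hUM hx
    have hx' : (⟨x, hxM⟩ : M) ∈ U.subgroupOf M := by rw [mem_subgroupOf]; exact hx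
    rw [← hl] at hx'
    obtain ⟨y, hy, hyx⟩ := hx'
    refine ⟨(y : G), ?_, ?_⟩
    · exact mem_subgroupOf.mp hy
    · have := congrArg Subtype.val hyx
      simpa [MulAut.conj_apply] using this
  · rintro ⟨y, hy, rfl⟩
    have hyM : y ∈ M := hU'.1 hy
    have hy' : (⟨y, hyM⟩ : M) ∈ U'.subgroupOf M := by rw [mem_subgroupOf]; exact hy
    have : (MulAut.conj l) ⟨y, hyM⟩ ∈ MulAut.conj l • (U'.subgroupOf M) :=
      Subgroup.smul_mem_pointwise_smul _ _ _ hy'
    rw [hl, mem_subgroupOf] at this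
    simpa [MulAut.conj_apply] using this

end Cfsg.Agent.Helper55.BGB
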