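import Mathlib
import Cfsg.Agent.Lib.Helper55.BGDecomp

/-!
# Building a standard factorisation from Hall data (BG chain)
-/

set_option autoImplicit false

namespace Cfsg.Agent.Helper55.BGB

open Subgroup Cfsg

variable {G : Type*} [Group G]

/-- `A ∩ B = 1` and `|A| |B| = |M|` give `M = A B`. -/
theorem isComplIn_of_card [Finite G] {A B M : Subgroup G} (hA : A ≤ M) (hB : B ≤ M)
    (hdisj : A ⊓ B = ⊥) (hcard : Nat.card A * Nat.card B = Nat.card M) : Cfsg.IsComplIn A B M := by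
  refine ⟨hA, hB, hdisj, ?_⟩
  have hA' : Nat.card (A.subgroupOf M) = Nat.card A :=
    Nat.card_congr (Subgroup.subgroupOfEquivOfLe hA).toEquiv
  have hB' : Nat.card (B.subgroupOf M) = Nat.card B :=
    Nat.card_congr (Subgroup.subgroupOfEquivOfLe hB).toEquiv
  have hd : Disjoint (A.subgroupOf M) (B.subgroupOf M) := by
    rw [disjoint_iff, eq_bot_iff]
    intro x hx
    rw [Subgroup.mem_inf, mem_subgroupOf, mem_subgroupOf] at hx
    have : (x : G) ∈ A ⊓ B := hx
    rw [hdisj, Subgroup.mem_bot] at this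
    rw [Subgroup.mem_bot]
    exact Subtype.ext this
  have hc := Subgroup.isComplement'_of_card_mul_and_disjoint
    (H := A.subgroupOf M) (K := B.subgroupOf M) (by rw [hA', hB', hcard]) hd
  intro m hm
  obtain ⟨⟨⟨a, ha⟩, ⟨b, hb⟩⟩, hmul, -⟩ := hc.existsUnique (⟨m, hm⟩ : M)
  refine ⟨(a : G), mem_subgroupOf.mp ha, (b : G), mem_subgroupOf.mp hb, ?_⟩
  have := congrArg Subtype.val hmul
  simpa using this.symm

theorem map_conj_eq_self_of_mem {M : Subgroup G} {g : G} (hg : g ∈ M) :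
    M.map (MulAut.conj g).toMonoidHom = M := by
  ext x
  constructor
  · rintro ⟨y, hy, rfl⟩
    simp only [MulEquiv.coe_toMonoidHom, MulAut.conj_apply]
    exact mul_mem (mul_mem hg hy) (inv_mem hg)
  · intro hx
    refine ⟨g⁻¹ * x * g, mul_mem (mul_mem (inv_mem hg) hx) hg, ?_⟩
    simp only [MulEquiv.coe_toMonoidHom, MulAut.conj_apply]
    group

theorem le_normalizer_commutator (M : Subgroup G) :
    M ≤ normalizer ((⁅M, M⁆ : Subgroup G) : Set G) := by
  intro g hg
  rw [mem_normalizer_iff_map_conj_eq]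
  have h := Subgroup.map_commutator M M (MulAut.conj g).toMonoidHom
  rw [map_conj_eq_self_of_mem hg] at h
  exact h

/-- A Hall `(κ ∪ σ)'`-subgroup `U'` of `M` complements `K M_σ`. -/
theorem isComplIn_of_hall [Finite G] {M K U' : Subgroup G}
    (hK : Cfsg.IsPiHallOf (Cfsg.kappa M) K M)
    (hHall : Cfsg.IsPiHallOf (Cfsg.sigma M) (Cfsg.sigmaCore M) M)
    (hU' : Cfsg.IsPiHallOf {q | q.Prime ∧ q ∉ Cfsg.kappa M ∧ q ∉ Cfsg.sigma M} U' M) :
    Cfsg.IsComplIn U' (K ⊔ Cfsg.sigmaCore M) M := by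
  have hdisjK : K ⊓ Cfsg.sigmaCore M = ⊥ :=
    inf_eq_bot_of_kappa_sigma (M := M) hK.2.1 (isPi_sigmaCore M)
  have hKn : K ≤ normalizer ((Cfsg.sigmaCore M : Subgroup G) : Set G) :=
    hK.1.trans (le_normalizer_sigmaCore M)
  have hcardKS : Nat.card (K ⊔ Cfsg.sigmaCore M : Subgroup G)
      = Nat.card K * Nat.card (Cfsg.sigmaCore M) := by
    have h := Cfsg.Agent.Helper50.card_sup_mul_card_inf_of_le_normalizer (Cfsg.sigmaCore M) K hKn
    have hdisj : Cfsg.sigmaCore M ⊓ K = ⊥ := by rw [inf_comm]; exact hdisjK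
    rw [hdisj, Subgroup.card_bot, mul_one] at h
    rw [sup_comm, h, mul_comm]
  have hKSM : K ⊔ Cfsg.sigmaCore M ≤ M := sup_le hK.1 (sigmaCore_le M)
  set n := Nat.card K * Nat.card (Cfsg.sigmaCore M) with hn
  have hcop1 : (Nat.card U').Coprime n := by
    apply Nat.coprime_of_dvd
    intro q hq hq1 hq2
    have hmem := hU'.2.1 q hq hq1
    rcases (Nat.Prime.dvd_mul hq).mp hq2 with h | h
    · exact hmem.2.1 (hK.2.1 q hq h)
    · exact hmem.2.2 (isPi_sigmaCore M q hq h)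
  -- trivial intersection
  have hdisj : U' ⊓ (K ⊔ Cfsg.sigmaCore M) = ⊥ := by
    rw [← Subgroup.card_eq_one]
    have h1 : Nat.card (U' ⊓ (K ⊔ Cfsg.sigmaCore M) : Subgroup G) ∣ Nat.card U' :=
      Subgroup.card_dvd_of_le inf_le_left
    have h2 : Nat.card (U' ⊓ (K ⊔ Cfsg.sigmaCore M) : Subgroup G) ∣ n := by
      rw [← hcardKS]; exact Subgroup.card_dvd_of_le inf_le_right
    exact Nat.eq_one_of_dvd_coprimes hcop1 h1 h2
  refine isComplIn_of_card hU'.1 hKSM hdisj ?_
  rw [hcardKS]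
  -- |M| = |U'| * r', n ∣ r', r' = n * s, s = 1
  have hcard' := card_mul_relIndex hU'.1
  have hnM : n ∣ Nat.card M := by rw [← hcardKS]; exact Subgroup.card_dvd_of_le hKSM
  have hnr : n ∣ U'.relIndex M := by
    rw [← hcard'] at hnM
    exact hcop1.symm.dvd_of_dvd_mul_left hnM
  obtain ⟨s, hs⟩ := hnr
  have hM1 : Nat.card M = Nat.card U' * (n * s) := by rw [← hs, hcard']
  have hs1 : s = 1 := by
    by_contra hne
    obtain ⟨q, hq, hqs⟩ := Nat.exists_prime_and_dvd hne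
    have hqr : q ∣ U'.relIndex M := by rw [hs]; exact Dvd.dvd.mul_left hqs _
    have hnot : ¬ (q.Prime ∧ q ∉ Cfsg.kappa M ∧ q ∉ Cfsg.sigma M) := fun h => hU'.2.2 q hq h hqr
    have hor : q ∈ Cfsg.kappa M ∨ q ∈ Cfsg.sigma M := by
      by_contra hcon
      push_neg at hcon
      exact hnot ⟨hq, hcon.1, hcon.2⟩
    rcases hor with hk | hσ
    · have h1 : ¬ q ∣ K.relIndex M := hK.2.2 q hq hk
      have h2 := card_mul_relIndex hK.1
      have h3 : K.relIndex M = Nat.card U' * Nat.card (Cfsg.sigmaCore M) * s := by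
        have hpos : 0 < Nat.card K := Nat.card_pos
        apply Nat.eq_of_mul_eq_mul_left hpos
        rw [h2, hM1, hn]; ring
      exact h1 (h3 ▸ Dvd.dvd.mul_left hqs _)
    · have h1 : ¬ q ∣ (Cfsg.sigmaCore M).relIndex M := hHall.2.2 q hq hσ
      have h2 := card_mul_relIndex hHall.1
      have h3 : (Cfsg.sigmaCore M).relIndex M = Nat.card U' * Nat.card K * s := by
        have hpos : 0 < Nat.card (Cfsg.sigmaCore M) := Nat.card_pos
        apply Nat.eq_of_mul_eq_mul_left hpos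
        rw [h2, hM1, hn]; ring
      exact h1 (h3 ▸ Dvd.dvd.mul_left hqs _)
  rw [hM1, hs1, mul_one]

end Cfsg.Agent.Helper55.BGB
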