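import Mathlib
import Cfsg.Prelude.Def_CaseTheorems

set_option autoImplicit false

namespace Cfsg.Agent.Helper55

open Cfsg

section cores

variable {G : Type*} [Group G]

theorem card_sup_coprime [Finite G] {p : ℕ} (H K : Subgroup G) [K.Normal]
    (hH : (Nat.card H).Coprime p) (hK : (Nat.card K).Coprime p) :
    (Nat.card ↥(H ⊔ K)).Coprime p := by
  have h1 : Nat.card ↥(H ⊔ K) = Nat.card K * K.relIndex (H ⊔ K) := by
    rw [← Subgroup.relIndex_bot_left, ← Subgroup.relIndex_bot_left,
      Subgroup.relIndex_mul_relIndex ⊥ K (H ⊔ K) bot_le le_sup_right]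
  rw [h1, Subgroup.relIndex_sup_right]
  exact Nat.Coprime.mul_left hK (Nat.Coprime.coprime_dvd_left (Subgroup.relIndex_dvd_card K H) hH)

theorem pPrimeCore_mem [Finite G] (p : ℕ) :
    (pPrimeCore p G).Normal ∧ (Nat.card (pPrimeCore p G)).Coprime p := by
  refine ⟨inferInstance, ?_⟩
  set X : Set (Subgroup G) := {N : Subgroup G | N.Normal ∧ (Nat.card N).Coprime p} with hX
  have hfin : X.Finite := Set.toFinite X
  have hne : X.Nonempty := ⟨⊥, inferInstance, by simp⟩
  obtain ⟨M, hM, hmax⟩ := Set.exists_max_image X (fun N => Nat.card N) hfin hne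
  have hle : ∀ K ∈ X, K ≤ M := by
    intro K hK
    have := hM.1
    have hKM : K ⊔ M ∈ X := ⟨by have := hK.1; infer_instance, card_sup_coprime K M hK.2 hM.2⟩
    have h1 := hmax _ hKM
    have h2 : M = K ⊔ M := Subgroup.eq_of_le_of_card_ge le_sup_right h1
    rw [h2]; exact le_sup_left
  have heq : pPrimeCore p G = M := le_antisymm (sSup_le hle) (le_sSup hM)
  rw [heq]; exact hM.2

theorem pPrimeCore_coprime [Finite G] (p : ℕ) : (Nat.card (pPrimeCore p G)).Coprime p :=
  (pPrimeCore_mem p).2

theorem le_pPrimeCore {p : ℕ} {N : Subgroup G} (hN : N.Normal) (h : (Nat.card N).Coprime p) :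
    N ≤ pPrimeCore p G :=
  le_sSup ⟨hN, h⟩

theorem le_pCore {p : ℕ} {N : Subgroup G} (hN : N.Normal) (h : IsPGroup p N) : N ≤ pCore p G :=
  le_sSup ⟨hN, h⟩

theorem pCore_le_sylow {p : ℕ} (P : Sylow p G) : pCore p G ≤ (P : Subgroup G) := by
  apply sSup_le
  rintro N ⟨hN, hp⟩
  have := hN
  exact hp.le_sylow_of_normal P

theorem isPGroup_pCore {p : ℕ} : IsPGroup p (pCore p G) := by
  have P : Sylow p G := Classical.arbitrary _
  exact P.isPGroup'.to_le (pCore_le_sylow P)

/-- `O_{p'}(G / O_{p'}(G)) = 1`. -/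
theorem pPrimeCore_quotient_eq_bot [Finite G] (p : ℕ) :
    pPrimeCore p (G ⧸ pPrimeCore p G) = ⊥ := by
  rw [eq_bot_iff]
  apply sSup_le
  rintro M ⟨hM, hcop⟩
  set K := pPrimeCore p G with hK
  set D := M.comap (QuotientGroup.mk' K) with hD
  have hKD : K ≤ D := by
    intro k hk
    rw [hD, Subgroup.mem_comap, QuotientGroup.mk'_apply, (QuotientGroup.eq_one_iff k).mpr hk]
    exact one_mem _
  have hDn : D.Normal := hM.comap _
  have hmap : D.map (QuotientGroup.mk' K) = M :=
    Subgroup.map_comap_eq_self_of_surjective (QuotientGroup.mk'_surjective K) M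
  have hcard : Nat.card D = Nat.card K * Nat.card M := by
    have h1 : K.relIndex D = Nat.card M := by
      have h2 := Subgroup.relIndex_comap (⊥ : Subgroup (G ⧸ K)) (QuotientGroup.mk' K) D
      rw [hmap, Subgroup.relIndex_bot_left] at h2
      rw [← h2]
      congr 1
      rw [MonoidHom.comap_bot, QuotientGroup.ker_mk']
    rw [← Subgroup.relIndex_bot_left, ← Subgroup.relIndex_mul_relIndex ⊥ K D bot_le hKD,
      Subgroup.relIndex_bot_left, h1]
  have hDcop : (Nat.card D).Coprime p := by
    rw [hcard]; exact Nat.Coprime.mul_left (pPrimeCore_coprime p) hcop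
  have hDK : D ≤ K := le_pPrimeCore hDn hDcop
  intro m hm
  obtain ⟨d, rfl⟩ := QuotientGroup.mk'_surjective K m
  have : d ∈ K := hDK (by rwa [hD, Subgroup.mem_comap])
  rw [Subgroup.mem_bot, QuotientGroup.mk'_apply]
  exact (QuotientGroup.eq_one_iff _).mpr this

instance pPrimeCore_characteristic (p : ℕ) : (pPrimeCore p G).Characteristic := by
  rw [Subgroup.characteristic_iff_map_le]
  intro φ
  rw [Subgroup.map_le_iff_le_comap]
  apply sSup_le
  rintro N ⟨hN, hcop⟩
  rw [← Subgroup.map_le_iff_le_comap]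
  apply le_sSup
  refine ⟨hN.map _ φ.surjective, ?_⟩
  rw [← Nat.card_congr (N.equivMapOfInjective φ.toMonoidHom φ.injective).toEquiv]
  exact hcop

instance pCore_characteristic (p : ℕ) : (pCore p G).Characteristic := by
  rw [Subgroup.characteristic_iff_map_le]
  intro φ
  rw [Subgroup.map_le_iff_le_comap]
  apply sSup_le
  rintro N ⟨hN, hp⟩
  rw [← Subgroup.map_le_iff_le_comap]
  apply le_sSup
  exact ⟨hN.map _ φ.surjective, hp.map _⟩

/-- The `p'`-core of a normal subgroup lies in the `p'`-core of the group. -/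
theorem pPrimeCore_map_le [Finite G] (p : ℕ) (N : Subgroup G) [N.Normal] :
    (pPrimeCore p N).map N.subtype ≤ pPrimeCore p G := by
  apply le_pPrimeCore
  · exact ConjAct.normal_of_characteristic_of_normal
  · rw [← Nat.card_congr ((pPrimeCore p N).equivMapOfInjective N.subtype N.subtype_injective).toEquiv]
    exact pPrimeCore_coprime p

/-- The `p`-core of a normal subgroup lies in the `p`-core of the group. -/
theorem pCore_map_le (p : ℕ) (N : Subgroup G) [N.Normal] :
    (pCore p N).map N.subtype ≤ pCore p G := by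
  apply le_pCore
  · exact ConjAct.normal_of_characteristic_of_normal
  · exact isPGroup_pCore.map _

theorem pPrimeCore_eq_bot_of_normal [Finite G] (p : ℕ) (N : Subgroup G) [N.Normal]
    (h : pPrimeCore p G = ⊥) : pPrimeCore p N = ⊥ := by
  have h1 := pPrimeCore_map_le p N
  rw [h, le_bot_iff] at h1
  exact (Subgroup.map_eq_bot_iff_of_injective _ N.subtype_injective).mp h1

end cores

end Cfsg.Agent.Helper55
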