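import Mathlib
import Cfsg.Agent.Lib.Helper55.Cores

set_option autoImplicit false

namespace Cfsg.Agent.Helper55

open Cfsg

/-- A nontrivial finite solvable group has a normal subgroup of prime index. -/
theorem exists_normal_prime_index {X : Type*} [Group X] [Finite X] [Nontrivial X]
    (hs : Group.IsSolvable X) : ∃ N : Subgroup X, N.Normal ∧ N.index.Prime := by
  have hlt : commutator X < ⊤ := Group.IsSolvable.commutator_lt_top_of_nontrivial X
  rcases eq_top_or_exists_le_coatom (commutator X) with h | ⟨N, hN, hle⟩
  · exact absurd h hlt.ne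
  · have hNn : N.Normal := by
      rw [← Subgroup.commutator_top_left_le_iff]
      refine le_trans ?_ hle
      rw [commutator_def]
      exact Subgroup.commutator_mono le_top le_top
    refine ⟨N, hNn, ?_⟩
    have hcomm : IsMulCommutative (X ⧸ N) :=
      Subgroup.Normal.quotient_commutative_iff_commutator_le.mpr hle
    have hsimple : IsSimpleGroup (X ⧸ N) := by
      rw [isSimpleGroup_iff]
      constructor
      · rw [QuotientGroup.nontrivial_iff]
        exact hN.1
      · intro H _
        have h1 : N ≤ H.comap (QuotientGroup.mk' N) := by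
          intro n hn
          rw [Subgroup.mem_comap, QuotientGroup.mk'_apply, (QuotientGroup.eq_one_iff n).mpr hn]
          exact one_mem _
        rcases eq_or_lt_of_le h1 with h2 | h2
        · left
          rw [eq_bot_iff]
          intro x hx
          obtain ⟨y, rfl⟩ := QuotientGroup.mk'_surjective N x
          have : y ∈ N := by rw [h2]; exact hx
          rw [Subgroup.mem_bot, QuotientGroup.mk'_apply]
          exact (QuotientGroup.eq_one_iff _).mpr this
        · right
          have h3 := hN.2 _ h2
          rw [eq_top_iff]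
          intro x _
          obtain ⟨y, rfl⟩ := QuotientGroup.mk'_surjective N x
          have : y ∈ H.comap (QuotientGroup.mk' N) := by rw [h3]; exact Subgroup.mem_top y
          exact this
    have := (Group.is_simple_iff_prime_card (α := X ⧸ N)).mp hsimple
    rwa [Subgroup.index_eq_card]

universe u

/-- If a normal cyclic `2`-subgroup `N` has odd prime index `q`, then it is central. -/
theorem le_center_of_cyclic_two_of_odd_index {X : Type*} [Group X] [Finite X]
    (N : Subgroup X) [N.Normal] (hN2 : IsPGroup 2 N) (hNc : IsCyclic N)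
    (q : ℕ) (hq : q.Prime) (hq2 : q ≠ 2) (hidx : N.index = q) : N ≤ Subgroup.center X := by
  have hNcomm : ∀ a b : N, a * b = b * a := fun a b => mul_comm' a b
  -- φ : X →* MulAut N
  set φ : X →* MulAut N := MulAut.conjNormal with hφ
  have hφN : ∀ n : N, φ (n : X) = 1 := by
    intro n
    ext m
    rw [MulAut.conjNormal_apply, MulAut.one_apply]
    have := hNcomm n m
    have h2 : ((n * m : N) : X) = ((m * n : N) : X) := by rw [this]
    rw [Subgroup.coe_mul, Subgroup.coe_mul] at h2
    rw [h2]; group
  have hxq : ∀ x : X, x ^ q ∈ N := by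
    intro x
    rw [← QuotientGroup.eq_one_iff, QuotientGroup.mk_pow]
    have hc : Nat.card (X ⧸ N) = q := by rw [← Subgroup.index_eq_card, hidx]
    rw [← hc]
    exact pow_card_eq_one'
  obtain ⟨k, hk⟩ := IsPGroup.iff_card.mp hN2
  have hcardAut : ∃ j : ℕ, Nat.card (MulAut N) = 2 ^ j := by
    rw [IsCyclic.card_mulAut, hk]
    rcases Nat.eq_zero_or_pos k with h0 | hpos
    · exact ⟨0, by rw [h0]; simp⟩
    · exact ⟨k - 1, by rw [Nat.totient_prime_pow Nat.prime_two hpos]; simp⟩
  obtain ⟨j, hj⟩ := hcardAut
  have hφ1 : ∀ x : X, φ x = 1 := by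
    intro x
    have h1 : (φ x) ^ q = 1 := by
      rw [← map_pow]
      exact hφN ⟨x ^ q, hxq x⟩
    have h2 : (φ x) ^ (2 ^ j) = 1 := by
      rw [← hj]; exact pow_card_eq_one'
    have hcop : Nat.Coprime q (2 ^ j) :=
      Nat.Coprime.pow_right j ((Nat.coprime_primes hq Nat.prime_two).mpr hq2)
    have h3 : orderOf (φ x) ∣ Nat.gcd q (2 ^ j) :=
      Nat.dvd_gcd (orderOf_dvd_of_pow_eq_one h1) (orderOf_dvd_of_pow_eq_one h2)
    rw [hcop.gcd_eq_one, Nat.dvd_one, orderOf_eq_one_iff] at h3
    exact h3
  intro n hn
  rw [Subgroup.mem_center_iff]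
  intro x
  have h1 : φ x ⟨n, hn⟩ = ⟨n, hn⟩ := by rw [hφ1 x, MulAut.one_apply]
  have h2 := congrArg Subtype.val h1
  rw [MulAut.conjNormal_apply] at h2
  -- h2 : x * n * x⁻¹ = n
  calc x * n = x * n * x⁻¹ * x := by group
    _ = n * x := by rw [h2]

/-- A finite solvable group with trivial odd core and cyclic `O_2` is a `2`-group. -/
theorem isPGroup_two_of_cyclic_core_aux (n : ℕ) :
    ∀ (X : Type u) [Group X] [Finite X], Nat.card X = n → Group.IsSolvable X →
      pPrimeCore 2 X = ⊥ → IsCyclic (pCore 2 X) → IsPGroup 2 X := by
  induction n using Nat.strong_induction_on with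
  | _ n ih =>
    intro X _ _ hcard hs hO hcyc
    rcases subsingleton_or_nontrivial X with hsub | hnt
    · apply IsPGroup.of_card (n := 0)
      rw [pow_zero]; exact Nat.card_unique
    · obtain ⟨N, hNn, hq⟩ := exists_normal_prime_index hs
      have hmul : Nat.card N * N.index = Nat.card X := Subgroup.card_mul_index N
      have hXpos : 0 < Nat.card X := Nat.card_pos
      have hNcard : Nat.card N < n := by
        rw [← hcard, ← hmul]
        have h2 : 2 ≤ N.index := hq.two_le
        have hNpos : 0 < Nat.card N := Nat.card_pos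
        nlinarith
      have hNs : Group.IsSolvable N := inferInstance
      have hNO : pPrimeCore 2 N = ⊥ := pPrimeCore_eq_bot_of_normal 2 N hO
      have hNcyc : IsCyclic (pCore 2 N) := by
        let f : pCore 2 N →* pCore 2 X :=
          (N.subtype.comp (pCore 2 N).subtype).codRestrict (pCore 2 X)
            (fun x => pCore_map_le 2 N ⟨x, x.2, rfl⟩)
        apply isCyclic_of_injective f
        intro a b hab
        have h1 := congrArg Subtype.val hab
        exact Subtype.ext (Subtype.ext h1)
      have hN2 : IsPGroup 2 N := ih _ hNcard N rfl hNs hNO hNcyc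
      obtain ⟨k, hk⟩ := IsPGroup.iff_card.mp hN2
      by_cases hq2 : N.index = 2
      · apply IsPGroup.of_card (n := k + 1)
        rw [← hmul, hk, hq2, pow_succ]
      · exfalso
        have hNle : N ≤ pCore 2 X := le_pCore hNn hN2
        have hNc : IsCyclic N :=
          isCyclic_of_injective (Subgroup.inclusion hNle) (Subgroup.inclusion_injective hNle)
        have hcen : N ≤ Subgroup.center X :=
          le_center_of_cyclic_two_of_odd_index N hN2 hNc N.index hq hq2 rfl
        have : Fact N.index.Prime := ⟨hq⟩
        have hcq : IsCyclic (X ⧸ N) :=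
          isCyclic_of_prime_card (p := N.index) (by rw [Subgroup.index_eq_card])
        have hXcomm : IsMulCommutative X :=
          (QuotientGroup.mk' N).isMulCommutative_of_isCyclic_of_ker_le_center
            (by rw [QuotientGroup.ker_mk']; exact hcen)
        have hdvd : N.index ∣ Nat.card X := ⟨Nat.card N, by rw [← hmul, mul_comm]⟩
        obtain ⟨g, hg⟩ := exists_prime_orderOf_dvd_card' N.index hdvd
        have hgn : (Subgroup.zpowers g).Normal := inferInstance
        have hgc : (Nat.card (Subgroup.zpowers g)).Coprime 2 := by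
          rw [Nat.card_zpowers, hg]
          exact (Nat.coprime_primes hq Nat.prime_two).mpr hq2
        have hle := le_pPrimeCore hgn hgc
        rw [hO, le_bot_iff, Subgroup.zpowers_eq_bot] at hle
        rw [hle, orderOf_one] at hg
        exact hq.one_lt.ne hg

theorem isPGroup_two_of_cyclic_core {X : Type u} [Group X] [Finite X] (hs : Group.IsSolvable X)
    (hO : pPrimeCore 2 X = ⊥) (hcyc : IsCyclic (pCore 2 X)) : IsPGroup 2 X :=
  isPGroup_two_of_cyclic_core_aux _ X rfl hs hO hcyc

end Cfsg.Agent.Helper55
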