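import Mathlib

/-!
# Semilinear Galois actions give free modules

Let a finite group `H` act faithfully by automorphisms on a field `E`, and semilinearly on a
finite-dimensional `E`-vector space `U`.  Then `U` is a free `kH`-module for every subfield `k`
fixed by `H` (more generally for every field `k` such that the action is `k`-linear):
there is a `k`-subspace `W` with `U = ⨁ h W`.  We state the conclusion numerically
(`⨆ h, h W = ⊤` and `|H| * dim W ≤ dim U`).

Proof: Galois descent plus the normal basis theorem.
-/

namespace Cfsg.Agent.Helper55.GaloisFree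

open Module

section Field

variable {E H : Type*} [Field E] [Group H] [Finite H] [MulSemiringAction H E] [FaithfulSMul H E]

/-- Normal basis element for a faithful action of a finite group on a field. -/
theorem exists_normal_element :
    ∃ θ : E, LinearIndependent (FixedPoints.subfield H E) (fun h : H => h • θ) := by
  obtain ⟨θ, hθ⟩ := exists_linearIndependent_algEquiv_apply (FixedPoints.subfield H E) E
  refine ⟨θ, ?_⟩
  have := hθ.comp (FixedPoints.toAlgAutMulEquiv H E) (FixedPoints.toAlgAutMulEquiv H E).injective
  exact this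

end Field

section Dual

variable {E H : Type*} [Field E] [Group H] [Fintype H] [MulSemiringAction H E]
  [FaithfulSMul H E]

/-- Dedekind: the automorphisms `x ↦ g • x` are `E`-linearly independent. -/
theorem dedekind (a : H → E) (ha : ∀ x : E, ∑ g : H, a g * (g • x) = 0) : a = 0 := by
  have hli := linearIndependent_monoidHom E E
  have hinj : Function.Injective (fun g : H => MulDistribMulAction.toMonoidHom E g) := by
    intro g g' hgg'
    apply eq_of_smul_eq_smul (α := E)
    intro x
    have := DFunLike.congr_fun hgg' x
    simpa using this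
  have hli' := hli.comp _ hinj
  rw [Fintype.linearIndependent_iff] at hli'
  funext g
  apply hli' a
  funext x
  simpa [Finset.sum_apply] using ha x

variable (θ : E) (hθ : LinearIndependent (FixedPoints.subfield H E) (fun h : H => h • θ))

variable [DecidableEq H]

include hθ in
/-- The dual family of a normal basis with respect to the trace form. -/
theorem exists_dual :
    ∃ c : H → E, (∀ g : H, ∑ h : H, c h * (g • (h • θ)) = if g = 1 then 1 else 0) ∧
      (∀ h h' : H, ∑ a : H, a • (c h * (h' • θ)) = if h = h' then 1 else 0) := by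
  classical
  set K := FixedPoints.subfield H E with hK
  have hcard : Fintype.card H = finrank K E := (FixedPoints.finrank_eq_card H E).symm
  let b : Basis H K E := basisOfLinearIndependentOfCardEqFinrank hθ hcard
  have hb : ∀ h, b h = h • θ := fun h => by
    simp [b, coe_basisOfLinearIndependentOfCardEqFinrank]
  let N : Matrix H H E := fun g h => g • (h • θ)
  have hinj : Function.Injective N.vecMul := by
    intro a a' haa'
    have h0 : Matrix.vecMul (a - a') N = 0 := by
      rw [Matrix.sub_vecMul]; exact sub_eq_zero.mpr haa'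
    have : a - a' = 0 := by
      apply dedekind
      intro x
      have hx : x = ∑ h : H, ((b.repr x h : K) : E) * (h • θ) := by
        conv_lhs => rw [← b.sum_repr x]
        refine Finset.sum_congr rfl fun h _ => ?_
        rw [hb, Subfield.smul_def, smul_eq_mul]
      have hg : ∀ g : H, g • x = ∑ h : H, ((b.repr x h : K) : E) * (g • (h • θ)) := by
        intro g
        conv_lhs => rw [hx]
        rw [Finset.smul_sum]
        refine Finset.sum_congr rfl fun h _ => ?_
        rw [smul_mul']
        congr 1
        exact (b.repr x h).2 g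
      simp_rw [hg, Finset.mul_sum]
      rw [Finset.sum_comm]
      refine Finset.sum_eq_zero fun h _ => ?_
      have h1 := congrFun h0 h
      simp only [Matrix.vecMul, dotProduct, Pi.zero_apply] at h1
      calc ∑ g : H, (a - a') g * (((b.repr x h : K) : E) * (g • (h • θ)))
          = ((b.repr x h : K) : E) * ∑ g : H, (a - a') g * N g h := by
            rw [Finset.mul_sum]
            refine Finset.sum_congr rfl fun g _ => ?_
            simp only [N]; ring
        _ = 0 := by rw [h1, mul_zero]
    exact sub_eq_zero.mp this
  have hunit : IsUnit N := Matrix.vecMul_injective_iff_isUnit.mp hinj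
  have hdet : IsUnit N.det := (Matrix.isUnit_iff_isUnit_det N).mp hunit
  let c : H → E := N⁻¹.mulVec (Pi.single 1 1)
  have hc : N.mulVec c = Pi.single 1 1 := by
    simp only [c, Matrix.mulVec_mulVec, Matrix.mul_nonsing_inv N hdet, Matrix.one_mulVec]
  have hc1 : ∀ g : H, ∑ h : H, c h * (g • (h • θ)) = if g = 1 then 1 else 0 := by
    intro g
    have := congrFun hc g
    simp only [Matrix.mulVec, dotProduct, Pi.single_apply] at this
    rw [← this]
    refine Finset.sum_congr rfl fun h _ => ?_
    simp only [N]; ring
  refine ⟨c, hc1, ?_⟩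
  let C' : Matrix H H E := fun h a => a • c h
  have hNC : N * C' = 1 := by
    ext g a
    rw [Matrix.mul_apply, Matrix.one_apply]
    -- apply `a` to the identity `hc1 (a⁻¹ * g)`
    have h1 := congrArg (fun x : E => a • x) (hc1 (a⁻¹ * g))
    simp only [Finset.smul_sum, smul_mul'] at h1
    have h2 : (a • (if a⁻¹ * g = 1 then (1 : E) else 0)) = if g = a then 1 else 0 := by
      by_cases hga : g = a
      · subst hga; simp
      · have : a⁻¹ * g ≠ 1 := by
          intro h; apply hga
          have := congrArg (fun x => a * x) h
          simpa using this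
        simp [hga, this]
    rw [h2] at h1
    rw [← h1]
    refine Finset.sum_congr rfl fun h _ => ?_
    show g • (h • θ) * a • c h = a • c h * a • ((a⁻¹ * g) • (h • θ))
    rw [mul_comm]
    congr 1
    rw [← mul_smul, ← mul_smul, ← mul_smul]
    congr 1
    group
  have hCN : C' * N = 1 := mul_eq_one_comm.mp hNC
  intro h h'
  have := congrFun (congrFun hCN h) h'
  rw [Matrix.mul_apply, Matrix.one_apply] at this
  rw [← this]
  refine Finset.sum_congr rfl fun a _ => ?_
  show a • (c h * h' • θ) = a • c h * a • (h' • θ)
  rw [smul_mul']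

end Dual

section Main

variable {k E U H : Type*} [Field k] [Field E] [Group H] [Finite H] [MulSemiringAction H E]
  [FaithfulSMul H E] [AddCommGroup U] [Module k U] [Module E U] [SMulCommClass k E U]
  [FiniteDimensional k U]

/-- **Galois descent + normal basis**: a semilinear action of a finite group `H ≤ Aut(E)` on an
`E`-vector space is free over `kH`. -/
theorem galois_free (τ : Representation k H U)
    (hsemi : ∀ (h : H) (x : E) (u : U), τ h (x • u) = (h • x) • τ h u) :
    ∃ W : Submodule k U, (⨆ h : H, W.map (τ h)) = ⊤ ∧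
      Nat.card H * finrank k W ≤ finrank k U := by
  classical
  have := Fintype.ofFinite H
  obtain ⟨θ, hθ⟩ := exists_normal_element (E := E) (H := H)
  obtain ⟨c, hc1, hc2⟩ := exists_dual θ hθ
  set K := FixedPoints.subfield H E with hK
  have hcard : Fintype.card H = finrank K E := (FixedPoints.finrank_eq_card H E).symm
  let b : Basis H K E := basisOfLinearIndependentOfCardEqFinrank hθ hcard
  have hb : ∀ h, b h = h • θ := fun h => by
    simp [b, coe_basisOfLinearIndependentOfCardEqFinrank]
  -- the invariants
  let inv : Submodule k U :=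
    { carrier := {u | ∀ h : H, τ h u = u}
      add_mem' := fun {a b} ha hb h => by rw [map_add, ha h, hb h]
      zero_mem' := fun h => map_zero _
      smul_mem' := fun a u hu h => by rw [map_smul, hu h] }
  have hinv : ∀ u, u ∈ inv ↔ ∀ h : H, τ h u = u := fun u => Iff.rfl
  -- multiplication by an element of `E`
  let mulE : E → (U →ₗ[k] U) := fun x =>
    { toFun := fun u => x • u
      map_add' := fun u v => smul_add x u v
      map_smul' := fun a u => (smul_comm a x u).symm }
  have hmulE : ∀ x u, mulE x u = x • u := fun _ _ => rfl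
  let W : Submodule k U := inv.map (mulE θ)
  -- scalars from the fixed field preserve the invariants
  have hKinv : ∀ (a : K) (w : U), w ∈ inv → ((a : E) • w) ∈ inv := by
    intro a w hw h
    rw [hsemi, hw h, a.2 h]
  -- the trace
  have hT : ∀ u : U, (∑ g : H, τ g u) ∈ inv := by
    intro u h
    rw [map_sum]
    simp_rw [← Module.End.mul_apply, ← map_mul]
    exact Fintype.sum_equiv (Equiv.mulLeft h) _ _ (fun g => rfl)
  -- every `x • w` with `w` invariant lies in the span of the translates of `W`
  have hxw : ∀ (x : E) (w : U), w ∈ inv → x • w ∈ ⨆ h : H, W.map (τ h) := by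
    intro x w hw
    have hx : x = ∑ h : H, ((b.repr x h : K) : E) * (h • θ) := by
      conv_lhs => rw [← b.sum_repr x]
      refine Finset.sum_congr rfl fun h _ => ?_
      rw [hb, Subfield.smul_def, smul_eq_mul]
    rw [hx, Finset.sum_smul]
    refine Submodule.sum_mem _ fun h _ => ?_
    refine Submodule.mem_iSup_of_mem h ?_
    refine ⟨θ • (((b.repr x h : K) : E) • w), ⟨_, hKinv _ w hw, rfl⟩, ?_⟩
    rw [hsemi, hKinv _ w hw h, smul_smul, mul_comm]
  refine ⟨W, ?_, ?_⟩
  · rw [eq_top_iff]
    intro u _
    have hu : u = ∑ h : H, c h • ∑ g : H, τ g ((h • θ) • u) := by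
      simp_rw [hsemi, Finset.smul_sum, smul_smul]
      rw [Finset.sum_comm]
      have hg : ∀ g : H, ∑ h : H, (c h * (g * h) • θ) • τ g u =
          (if g = 1 then (1 : E) else 0) • τ g u := by
        intro g; rw [← Finset.sum_smul]; simp_rw [mul_smul]; rw [hc1]
      simp_rw [hg]
      simp
    rw [hu]
    exact Submodule.sum_mem _ fun h _ => hxw _ _ (hT _)
  · -- the injective map `(H → inv) → U`
    let Φ : (H → inv) →ₗ[k] U :=
      { toFun := fun f => ∑ h : H, (h • θ) • (f h : U)
        map_add' := fun f f' => by
          simp only [Pi.add_apply, Submodule.coe_add, smul_add, Finset.sum_add_distrib]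
        map_smul' := fun a f => by
          simp only [Pi.smul_apply, Submodule.coe_smul, RingHom.id_apply, Finset.smul_sum]
          refine Finset.sum_congr rfl fun h _ => (smul_comm a (h • θ) _).symm }
    have hΦ : Function.Injective Φ := by
      rw [← LinearMap.ker_eq_bot, LinearMap.ker_eq_bot']
      intro f hf
      funext h₀
      have hf' : ∑ h : H, (h • θ) • (f h : U) = 0 := hf
      have h1 : ∑ g : H, τ g (c h₀ • ∑ h : H, (h • θ) • (f h : U)) = 0 := by
        rw [hf']; simp
      have h2 : ∑ g : H, τ g (c h₀ • ∑ h : H, (h • θ) • (f h : U)) = (f h₀ : U) := by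
        simp_rw [Finset.smul_sum, smul_smul, map_sum, hsemi]
        have : ∀ g h : H, τ g (f h : U) = (f h : U) := fun g h => (f h).2 g
        simp_rw [this]
        rw [Finset.sum_comm]
        have hg : ∀ h : H, ∑ g : H, (g • (c h₀ * h • θ)) • (f h : U) =
            (if h₀ = h then (1 : E) else 0) • (f h : U) := by
          intro h; rw [← Finset.sum_smul, hc2]
        simp_rw [hg]
        simp
      rw [h2] at h1
      exact Subtype.ext h1
    have h3 := LinearMap.finrank_le_finrank_of_injective hΦ
    rw [Module.finrank_pi_fintype, Finset.sum_const, Finset.card_univ, smul_eq_mul] at h3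
    have h4 : finrank k W ≤ finrank k inv := Submodule.finrank_map_le _ _
    rw [Nat.card_eq_fintype_card]
    exact (Nat.mul_le_mul_left _ h4).trans h3

end Main

section Act

variable {k E U H : Type*} [Field k] [Field E] [Group H] [Finite H] [MulSemiringAction H E]
  [FaithfulSMul H E] [AddCommGroup U] [Module k U] [FiniteDimensional k U]

/-- Version of `galois_free` where `E` acts on `U` through a ring homomorphism into the
`k`-linear endomorphisms. -/
theorem galois_free_act (τ : Representation k H U) (act : E →+* Module.End k U)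
    (hsemi : ∀ (h : H) (x : E) (u : U), τ h (act x u) = act (h • x) (τ h u)) :
    ∃ W : Submodule k U, (⨆ h : H, W.map (τ h)) = ⊤ ∧
      Nat.card H * finrank k W ≤ finrank k U := by
  letI : Module E U := Module.compHom U act
  have hsmul : ∀ (x : E) (u : U), x • u = act x u := fun _ _ => rfl
  haveI : SMulCommClass k E U := ⟨fun a x u => by
    rw [hsmul, hsmul, map_smul]⟩
  exact galois_free τ (fun h x u => by rw [hsmul, hsmul]; exact hsemi h x u)

end Act

section Op

variable {k U H : Type*} [Field k] [AddCommGroup U] [Module k U] [FiniteDimensional k U]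
  [Nontrivial U] [Group H] [Finite H]

/-- Operator form: `E` is a commutative subalgebra of `End_k(U)` which is a field, normalised by
the representation `τ` of `H`, and no nonidentity `h` centralises `E`.  Then `U` is `kH`-free. -/
theorem galois_free_op (τ : Representation k H U) (E : Subalgebra k (Module.End k U))
    (hcomm : ∀ x ∈ E, ∀ y ∈ E, x * y = y * x)
    (hinv : ∀ x ∈ E, x ≠ 0 → ∃ y ∈ E, x * y = 1)
    (hnorm : ∀ h : H, ∀ x ∈ E, τ h * x * τ h⁻¹ ∈ E)
    (hfaith : ∀ h : H, h ≠ 1 → ∃ x ∈ E, τ h * x * τ h⁻¹ ≠ x) :
    ∃ W : Submodule k U, (⨆ h : H, W.map (τ h)) = ⊤ ∧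
      Nat.card H * finrank k W ≤ finrank k U := by
  have hE : IsField ↥E :=
    { exists_pair_ne := ⟨0, 1, by
        intro h
        have h1 : ((0 : ↥E) : Module.End k U) = ((1 : ↥E) : Module.End k U) := congrArg _ h
        rw [Subalgebra.coe_zero, Subalgebra.coe_one] at h1
        exact zero_ne_one h1⟩
      mul_comm := fun x y => Subtype.ext (hcomm x x.2 y y.2)
      mul_inv_cancel := fun {x} hx => by
        obtain ⟨y, hy, hxy⟩ := hinv x x.2 (fun h => hx (Subtype.ext h))
        exact ⟨⟨y, hy⟩, Subtype.ext hxy⟩ }
  letI : Field ↥E := hE.toField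
  have hττ : ∀ h : H, τ h * τ h⁻¹ = 1 := fun h => by rw [← map_mul, mul_inv_cancel, map_one]
  have hττ' : ∀ h : H, τ h⁻¹ * τ h = 1 := fun h => by rw [← map_mul, inv_mul_cancel, map_one]
  letI : MulSemiringAction H ↥E :=
    { smul := fun h x => ⟨τ h * x * τ h⁻¹, hnorm h x x.2⟩
      one_smul := fun x => Subtype.ext (by
        show τ 1 * (x : Module.End k U) * τ 1⁻¹ = x
        rw [inv_one, map_one, one_mul, mul_one])
      mul_smul := fun g h x => Subtype.ext (by
        show τ (g * h) * (x : Module.End k U) * τ (g * h)⁻¹ = τ g * (τ h * x * τ h⁻¹) * τ g⁻¹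
        rw [mul_inv_rev, map_mul, map_mul]; simp only [mul_assoc])
      smul_zero := fun h => Subtype.ext (by
        show τ h * ((0 : ↥E) : Module.End k U) * τ h⁻¹ = ((0 : ↥E) : Module.End k U)
        rw [Subalgebra.coe_zero, mul_zero, zero_mul])
      smul_add := fun h x y => Subtype.ext (by
        show τ h * ((x + y : ↥E) : Module.End k U) * τ h⁻¹ =
          τ h * (x : Module.End k U) * τ h⁻¹ + τ h * (y : Module.End k U) * τ h⁻¹
        rw [Subalgebra.coe_add, mul_add, add_mul])
      smul_one := fun h => Subtype.ext (by
        show τ h * ((1 : ↥E) : Module.End k U) * τ h⁻¹ = ((1 : ↥E) : Module.End k U)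
        rw [Subalgebra.coe_one, mul_one, hττ])
      smul_mul := fun h x y => Subtype.ext (by
        show τ h * ((x * y : ↥E) : Module.End k U) * τ h⁻¹ =
          (τ h * (x : Module.End k U) * τ h⁻¹) * (τ h * (y : Module.End k U) * τ h⁻¹)
        rw [Subalgebra.coe_mul]
        calc τ h * ((x : Module.End k U) * y) * τ h⁻¹
            = τ h * x * 1 * y * τ h⁻¹ := by simp only [mul_one, mul_assoc]
          _ = τ h * x * (τ h⁻¹ * τ h) * y * τ h⁻¹ := by rw [hττ']
          _ = _ := by simp only [mul_assoc]) }
  have hsmul : ∀ (h : H) (x : ↥E), ((h • x : ↥E) : Module.End k U) = τ h * x * τ h⁻¹ :=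
    fun _ _ => rfl
  haveI : FaithfulSMul H ↥E := ⟨by
    intro g g' hgg'
    by_contra hne
    have h1 : g⁻¹ * g' ≠ 1 := fun h => hne (by
      have := congrArg (fun x => g * x) h
      simp only [mul_inv_cancel_left, mul_one] at this
      exact this.symm)
    obtain ⟨x, hx, hxne⟩ := hfaith _ h1
    apply hxne
    have h2 := hgg' ⟨x, hx⟩
    have h3 : τ g * x * τ g⁻¹ = τ g' * x * τ g'⁻¹ := congrArg Subtype.val h2
    calc τ (g⁻¹ * g') * x * τ (g⁻¹ * g')⁻¹
        = τ g⁻¹ * (τ g' * x * τ g'⁻¹) * τ g := by
          rw [mul_inv_rev, inv_inv, map_mul, map_mul]; simp only [mul_assoc]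
      _ = τ g⁻¹ * (τ g * x * τ g⁻¹) * τ g := by rw [h3]
      _ = (τ g⁻¹ * τ g) * x * (τ g⁻¹ * τ g) := by simp only [mul_assoc]
      _ = x := by rw [hττ', one_mul, mul_one]⟩
  refine galois_free_act τ (E.val : ↥E →+* Module.End k U) ?_
  intro h x u
  show τ h ((x : Module.End k U) u) = ((h • x : ↥E) : Module.End k U) (τ h u)
  rw [hsmul]
  simp only [Module.End.mul_apply]
  rw [← Module.End.mul_apply (τ h⁻¹), hττ', Module.End.one_apply]

end Op

end Cfsg.Agent.Helper55.GaloisFree
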