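import Mathlib
import Cfsg.Agent.Lib.Helper55.GaloisFree

/-!
# Freeness of modules for groups permuting a commutative semisimple algebra

`Good τ U` says that the `H`-invariant subspace `U` is a free `kH`-module (numeric formulation).
The main theorem `good_top_of_semisimple` proves freeness from the existence of a commutative
semisimple subalgebra `R ⊆ End_k(V)` normalised by `H`, on which `H` acts "locally faithfully".
-/

namespace Cfsg.Agent.Helper55.FrobFree

open Module

section Good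

variable {k V H : Type*} [Field k] [AddCommGroup V] [Module k V] [FiniteDimensional k V]
  [Group H] [Finite H]

/-- `U` is spanned by the `H`-translates of a subspace `W` with `|H| * dim W ≤ dim U`
(so that `U` is a free `kH`-module on a basis of `W`). -/
def Good (τ : Representation k H V) (U : Submodule k V) : Prop :=
  ∃ W : Submodule k V, (⨆ h : H, W.map (τ h)) = U ∧ Nat.card H * finrank k W ≤ finrank k U

theorem good_bot (τ : Representation k H V) : Good τ ⊥ :=
  ⟨⊥, by simp, by simp⟩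

theorem good_sup (τ : Representation k H V) {U₁ U₂ : Submodule k V} (h₁ : Good τ U₁)
    (h₂ : Good τ U₂) (hd : U₁ ⊓ U₂ = ⊥) : Good τ (U₁ ⊔ U₂) := by
  obtain ⟨W₁, hW₁, hn₁⟩ := h₁
  obtain ⟨W₂, hW₂, hn₂⟩ := h₂
  refine ⟨W₁ ⊔ W₂, ?_, ?_⟩
  · simp_rw [Submodule.map_sup]
    rw [iSup_sup_eq, hW₁, hW₂]
  · have hle : ∀ (W U : Submodule k V), (⨆ h : H, W.map (τ h)) = U → W ≤ U := by
      intro W U hWU
      rw [← hWU]
      refine le_trans ?_ (le_iSup _ (1 : H))
      rw [map_one]
      exact (Submodule.map_id W).ge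
    have hW : W₁ ⊓ W₂ = ⊥ := by
      rw [eq_bot_iff, ← hd]
      exact inf_le_inf (hle _ _ hW₁) (hle _ _ hW₂)
    have e1 := Submodule.finrank_sup_add_finrank_inf_eq W₁ W₂
    have e2 := Submodule.finrank_sup_add_finrank_inf_eq U₁ U₂
    rw [hW, finrank_bot, add_zero] at e1
    rw [hd, finrank_bot, add_zero] at e2
    rw [e1, e2, mul_add]
    exact add_le_add hn₁ hn₂

/-- Restriction of a representation to an invariant subspace. -/
def subRep (τ : Representation k H V) (U : Submodule k V) (hU : ∀ h : H, ∀ u ∈ U, τ h u ∈ U) :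
    Representation k H ↥U where
  toFun h := (τ h).restrict (hU h)
  map_one' := by
    ext u
    simp
  map_mul' g h := by
    ext u
    simp

@[simp]
theorem subRep_apply (τ : Representation k H V) (U : Submodule k V)
    (hU : ∀ h : H, ∀ u ∈ U, τ h u ∈ U) (h : H) (u : ↥U) :
    ((subRep τ U hU h u : ↥U) : V) = τ h (u : V) := rfl

theorem good_of_subRep (τ : Representation k H V) (U : Submodule k V)
    (hU : ∀ h : H, ∀ u ∈ U, τ h u ∈ U) (hg : Good (subRep τ U hU) ⊤) : Good τ U := by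
  obtain ⟨W, hW, hn⟩ := hg
  refine ⟨W.map U.subtype, ?_, ?_⟩
  · have : ∀ h : H, (W.map U.subtype).map (τ h) = (W.map (subRep τ U hU h)).map U.subtype := by
      intro h
      rw [← Submodule.map_comp, ← Submodule.map_comp]
      congr 1
    simp_rw [this]
    rw [← Submodule.map_iSup, hW, Submodule.map_subtype_top]
  · rw [finrank_top] at hn
    rwa [Submodule.finrank_map_subtype_eq]

end Good

section Idem

variable {k V : Type*} [Field k] [AddCommGroup V] [Module k V] [FiniteDimensional k V]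

/-- `e` is an idempotent of `R` with `eU ≠ 0` of minimal dimension. -/
def IsMinIdem (R : Subalgebra k (Module.End k V)) (U : Submodule k V) (e : Module.End k V) :
    Prop :=
  e ∈ R ∧ e * e = e ∧ U.map e ≠ ⊥ ∧
    ∀ e' ∈ R, e' * e' = e' → U.map e' ≠ ⊥ → finrank k (U.map e) ≤ finrank k (U.map e')

variable {R : Subalgebra k (Module.End k V)} {U : Submodule k V}

theorem zero_or_id_of_min (hcomm : ∀ x ∈ R, ∀ y ∈ R, x * y = y * x)
    (hUR : ∀ x ∈ R, ∀ u ∈ U, x u ∈ U) {e : Module.End k V} (he : IsMinIdem R U e)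
    {f : Module.End k V} (hf : f ∈ R) (hff : f * f = f) :
    (∀ u ∈ U, f (e u) = 0) ∨ (∀ u ∈ U, f (e u) = e u) := by
  obtain ⟨heR, hee, hne, hmin⟩ := he
  have hfe : f * e = e * f := hcomm f hf e heR
  have hg : e * f ∈ R := R.mul_mem heR hf
  have hgg : (e * f) * (e * f) = e * f := by
    calc (e * f) * (e * f) = e * (f * e) * f := by simp only [mul_assoc]
      _ = e * (e * f) * f := by rw [hfe]
      _ = (e * e) * (f * f) := by simp only [mul_assoc]
      _ = e * f := by rw [hee, hff]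
  have hle : U.map (e * f) ≤ U.map e := by
    rintro _ ⟨u, hu, rfl⟩
    exact ⟨f u, hUR f hf u hu, rfl⟩
  by_cases hb : U.map (e * f) = ⊥
  · left
    intro u hu
    have h1 : (e * f) u ∈ U.map (e * f) := ⟨u, hu, rfl⟩
    rw [hb, Submodule.mem_bot] at h1
    rw [← Module.End.mul_apply, hfe]
    exact h1
  · right
    have h1 := hmin _ hg hgg hb
    have heq : U.map (e * f) = U.map e := Submodule.eq_of_le_of_finrank_le hle h1
    intro u hu
    have h2 : e u ∈ U.map (e * f) := heq ▸ ⟨u, hu, rfl⟩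
    obtain ⟨u', _, h'⟩ := h2
    rw [← h', ← Module.End.mul_apply]
    have : f * (e * f) = e * f := by
      calc f * (e * f) = (f * e) * f := by simp only [mul_assoc]
        _ = e * (f * f) := by rw [hfe, mul_assoc]
        _ = e * f := by rw [hff]
    rw [this]

theorem eq_or_kill_of_min (hcomm : ∀ x ∈ R, ∀ y ∈ R, x * y = y * x)
    (hUR : ∀ x ∈ R, ∀ u ∈ U, x u ∈ U) {e₁ e₂ : Module.End k V} (h₁ : IsMinIdem R U e₁)
    (h₂ : IsMinIdem R U e₂) :
    U.map e₁ = U.map e₂ ∨ ∀ u ∈ U, e₂ (e₁ u) = 0 := by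
  have hc : e₂ * e₁ = e₁ * e₂ := hcomm e₂ h₂.1 e₁ h₁.1
  rcases zero_or_id_of_min hcomm hUR h₁ h₂.1 h₂.2.1 with h | h
  · exact Or.inr h
  · rcases zero_or_id_of_min hcomm hUR h₂ h₁.1 h₁.2.1 with h' | h'
    · exfalso
      apply h₁.2.2.1
      rw [eq_bot_iff]
      rintro _ ⟨u, hu, rfl⟩
      rw [Submodule.mem_bot, ← h u hu, ← Module.End.mul_apply, hc, Module.End.mul_apply, h' u hu]
    · left
      have key : ∀ u ∈ U, e₁ u = e₂ u := by
        intro u hu
        rw [← h u hu, ← Module.End.mul_apply, hc, Module.End.mul_apply, h' u hu]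
      ext v
      constructor
      · rintro ⟨u, hu, rfl⟩
        exact ⟨u, hu, (key u hu).symm⟩
      · rintro ⟨u, hu, rfl⟩
        exact ⟨u, hu, key u hu⟩

theorem zero_or_inv_of_min (hcomm : ∀ x ∈ R, ∀ y ∈ R, x * y = y * x)
    (hss : ∀ x ∈ R, ∃ f ∈ R, f * f = f ∧ (∃ a ∈ R, x = a * f) ∧ (∃ b ∈ R, f = b * x))
    (hUR : ∀ x ∈ R, ∀ u ∈ U, x u ∈ U) {e : Module.End k V} (he : IsMinIdem R U e)
    {x : Module.End k V} (hx : x ∈ R) :
    (∀ u ∈ U, x (e u) = 0) ∨ ∃ b ∈ R, ∀ u ∈ U, b (x (e u)) = e u := by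
  obtain ⟨f, hf, hff, ⟨a, _, hxa⟩, ⟨b, hb, hfb⟩⟩ := hss x hx
  rcases zero_or_id_of_min hcomm hUR he hf hff with h | h
  · left
    intro u hu
    rw [hxa, Module.End.mul_apply, h u hu, map_zero]
  · right
    refine ⟨b, hb, fun u hu => ?_⟩
    rw [← Module.End.mul_apply, ← hfb, h u hu]

end Idem

section Conj

variable {k V H : Type*} [Field k] [AddCommGroup V] [Module k V] [FiniteDimensional k V]
  [Group H]

theorem tau_mul_inv (τ : Representation k H V) (h : H) : τ h * τ h⁻¹ = 1 := by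
  rw [← map_mul, mul_inv_cancel, map_one]

theorem tau_inv_mul (τ : Representation k H V) (h : H) : τ h⁻¹ * τ h = 1 := by
  rw [← map_mul, inv_mul_cancel, map_one]

theorem tau_injective (τ : Representation k H V) (h : H) : Function.Injective (τ h) :=
  Function.LeftInverse.injective (g := τ h⁻¹) (fun v => by
    rw [← Module.End.mul_apply, tau_inv_mul, Module.End.one_apply])

theorem map_tau_eq (τ : Representation k H V) {U : Submodule k V}
    (hUH : ∀ h : H, ∀ u ∈ U, τ h u ∈ U) (h : H) : U.map (τ h) = U := by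
  apply le_antisymm
  · rintro _ ⟨u, hu, rfl⟩
    exact hUH h u hu
  · intro u hu
    refine ⟨τ h⁻¹ u, hUH _ u hu, ?_⟩
    rw [← Module.End.mul_apply, tau_mul_inv, Module.End.one_apply]

theorem finrank_map_tau (τ : Representation k H V) (S : Submodule k V) (h : H) :
    finrank k (S.map (τ h)) = finrank k S :=
  (LinearEquiv.finrank_eq (Submodule.equivMapOfInjective (τ h) (tau_injective τ h) S)).symm

theorem map_tau_mul (τ : Representation k H V) (S : Submodule k V) (g h : H) :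
    S.map (τ (g * h)) = (S.map (τ h)).map (τ g) := by
  rw [map_mul, Module.End.mul_eq_comp, Submodule.map_comp]

/-- Conjugate of an endomorphism by `τ h`. -/
def cj (τ : Representation k H V) (h : H) (e : Module.End k V) : Module.End k V :=
  τ h * e * τ h⁻¹

theorem cj_idem (τ : Representation k H V) (h : H) {e : Module.End k V} (he : e * e = e) :
    cj τ h e * cj τ h e = cj τ h e := by
  unfold cj
  calc τ h * e * τ h⁻¹ * (τ h * e * τ h⁻¹) = τ h * e * (τ h⁻¹ * τ h) * e * τ h⁻¹ := by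
        simp only [mul_assoc]
    _ = τ h * (e * e) * τ h⁻¹ := by rw [tau_inv_mul, mul_one]; simp only [mul_assoc]
    _ = τ h * e * τ h⁻¹ := by rw [he]

theorem map_cj (τ : Representation k H V) {U : Submodule k V}
    (hUH : ∀ h : H, ∀ u ∈ U, τ h u ∈ U) (h : H) (e : Module.End k V) :
    U.map (cj τ h e) = (U.map e).map (τ h) := by
  unfold cj
  rw [Module.End.mul_eq_comp, Module.End.mul_eq_comp, Submodule.map_comp, Submodule.map_comp,
    map_tau_eq τ hUH h⁻¹]

theorem cj_apply (τ : Representation k H V) (h : H) (e : Module.End k V) (v : V) :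
    cj τ h e v = τ h (e (τ h⁻¹ v)) := rfl

theorem cj_mul (τ : Representation k H V) (g h : H) (e : Module.End k V) :
    cj τ (g * h) e = cj τ g (cj τ h e) := by
  unfold cj
  rw [mul_inv_rev, map_mul, map_mul]
  simp only [mul_assoc]

theorem isMinIdem_cj (τ : Representation k H V) {R : Subalgebra k (Module.End k V)}
    (hconj : ∀ h : H, ∀ x ∈ R, τ h * x * τ h⁻¹ ∈ R) {U : Submodule k V}
    (hUH : ∀ h : H, ∀ u ∈ U, τ h u ∈ U) {e : Module.End k V} (he : IsMinIdem R U e) (h : H) :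
    IsMinIdem R U (cj τ h e) := by
  obtain ⟨heR, hee, hne, hmin⟩ := he
  refine ⟨hconj h e heR, cj_idem τ h hee, ?_, ?_⟩
  · rw [map_cj τ hUH]
    intro hb
    apply hne
    rw [← Submodule.finrank_eq_zero (R := k), ← finrank_map_tau τ _ h, hb, finrank_bot]
  · intro e' he' hee' hne'
    rw [map_cj τ hUH, finrank_map_tau]
    exact hmin e' he' hee' hne'

/-- The stabiliser of a subspace. -/
def stab (τ : Representation k H V) (S : Submodule k V) : Subgroup H where
  carrier := {h | S.map (τ h) = S}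
  mul_mem' := by
    intro g h hg hh
    show S.map (τ (g * h)) = S
    rw [map_tau_mul, hh, hg]
  one_mem' := by
    show S.map (τ 1) = S
    rw [map_one]
    exact Submodule.map_id S
  inv_mem' := by
    intro h hh
    show S.map (τ h⁻¹) = S
    have h1 : S.map (τ (h⁻¹ * h)) = S := by
      rw [inv_mul_cancel, map_one]
      exact Submodule.map_id S
    rw [map_tau_mul, hh] at h1
    exact h1

theorem mem_stab (τ : Representation k H V) (S : Submodule k V) (h : H) :
    h ∈ stab τ S ↔ S.map (τ h) = S := Iff.rfl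

/-- The algebra of restrictions of elements of `R` to an `R`-invariant subspace. -/
def resAlg (R : Subalgebra k (Module.End k V)) (S : Submodule k V) :
    Subalgebra k (Module.End k ↥S) where
  carrier := {y | ∃ x ∈ R, ∀ v : ↥S, ((y v : ↥S) : V) = x v}
  mul_mem' := by
    rintro y₁ y₂ ⟨x₁, h₁, e₁⟩ ⟨x₂, h₂, e₂⟩
    exact ⟨x₁ * x₂, R.mul_mem h₁ h₂, fun v => by
      rw [Module.End.mul_apply, e₁, e₂, Module.End.mul_apply]⟩
  one_mem' := ⟨1, R.one_mem, fun v => rfl⟩
  add_mem' := by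
    rintro y₁ y₂ ⟨x₁, h₁, e₁⟩ ⟨x₂, h₂, e₂⟩
    exact ⟨x₁ + x₂, R.add_mem h₁ h₂, fun v => by
      rw [LinearMap.add_apply, Submodule.coe_add, e₁, e₂, LinearMap.add_apply]⟩
  zero_mem' := ⟨0, R.zero_mem, fun v => rfl⟩
  algebraMap_mem' := fun c => ⟨algebraMap k _ c, R.algebraMap_mem c, fun v => by
    rw [Module.algebraMap_end_apply, Module.algebraMap_end_apply, Submodule.coe_smul]⟩

end Conj

section Orbit

variable {k V H : Type*} [Field k] [AddCommGroup V] [Module k V] [FiniteDimensional k V]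
  [Group H] [Finite H]

/-- Restriction of a representation to a subgroup. -/
def resRep (τ : Representation k H V) (K : Subgroup H) : Representation k ↥K V :=
  MonoidHom.comp τ K.subtype

omit [FiniteDimensional k V] [Finite H] in
@[simp]
theorem resRep_apply (τ : Representation k H V) (K : Subgroup H) (h : ↥K) :
    resRep τ K h = τ (h : H) := rfl

theorem le_of_iSup_map_eq (τ : Representation k H V) {W U : Submodule k V}
    (hWU : (⨆ h : H, W.map (τ h)) = U) : W ≤ U := by
  rw [← hWU]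
  refine le_trans ?_ (le_iSup _ (1 : H))
  rw [map_one]
  exact (Submodule.map_id W).ge

theorem inv_of_min {R : Subalgebra k (Module.End k V)}
    (hcomm : ∀ x ∈ R, ∀ y ∈ R, x * y = y * x) {U : Submodule k V}
    (hUR : ∀ x ∈ R, ∀ u ∈ U, x u ∈ U) {e : Module.End k V} (he : e ∈ R) :
    ∀ x ∈ R, ∀ v ∈ U.map e, x v ∈ U.map e := by
  rintro x hx _ ⟨u, hu, rfl⟩
  refine ⟨x u, hUR x hx u hu, ?_⟩
  rw [← Module.End.mul_apply, ← Module.End.mul_apply, hcomm e he x hx]

theorem good_block (τ : Representation k H V) (R : Subalgebra k (Module.End k V))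
    (hcomm : ∀ x ∈ R, ∀ y ∈ R, x * y = y * x)
    (hconj : ∀ h : H, ∀ x ∈ R, τ h * x * τ h⁻¹ ∈ R)
    (hss : ∀ x ∈ R, ∃ f ∈ R, f * f = f ∧ (∃ a ∈ R, x = a * f) ∧ (∃ b ∈ R, f = b * x))
    (hfaith : ∀ h : H, h ≠ 1 → ∀ U : Submodule k V, U ≠ ⊥ → (∀ x ∈ R, ∀ u ∈ U, x u ∈ U) →
      (∀ u ∈ U, τ h u ∈ U) → ∃ x ∈ R, ∃ u ∈ U, τ h (x u) ≠ x (τ h u))
    {U : Submodule k V} (hUR : ∀ x ∈ R, ∀ u ∈ U, x u ∈ U)
    {e : Module.End k V} (he : IsMinIdem R U e) :
    Good (resRep τ (stab τ (U.map e))) (U.map e) := by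
  set S := U.map e with hS
  set K := stab τ S with hK
  have hSK : ∀ h : ↥K, ∀ v ∈ S, resRep τ K h v ∈ S := by
    intro h v hv
    have h1 : S.map (τ (h : H)) = S := h.2
    rw [← h1]
    exact ⟨v, hv, rfl⟩
  have hSR : ∀ x ∈ R, ∀ v ∈ S, x v ∈ S := inv_of_min hcomm hUR he.1
  apply good_of_subRep (resRep τ K) S hSK
  haveI : Nontrivial ↥S := Submodule.nontrivial_iff_ne_bot.mpr he.2.2.1
  have hmain := GaloisFree.galois_free_op (subRep (resRep τ K) S hSK) (resAlg R S) ?_ ?_ ?_ ?_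
  · obtain ⟨W, hW, hn⟩ := hmain
    exact ⟨W, hW, by rwa [finrank_top]⟩
  · -- commutativity
    rintro y₁ ⟨x₁, h₁, e₁⟩ y₂ ⟨x₂, h₂, e₂⟩
    refine LinearMap.ext fun v => Subtype.ext ?_
    show ((y₁ (y₂ v) : ↥S) : V) = ((y₂ (y₁ v) : ↥S) : V)
    rw [e₁, e₂, e₂, e₁]
    exact LinearMap.congr_fun (hcomm x₁ h₁ x₂ h₂) v
  · -- inverses
    rintro y ⟨x, hx, ex⟩ hy
    rcases zero_or_inv_of_min hcomm hss hUR he hx with h0 | ⟨b, hb, hbx⟩
    · exfalso
      apply hy
      refine LinearMap.ext fun v => Subtype.ext ?_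
      obtain ⟨u, hu, huv⟩ := v.2
      rw [ex, ← huv, h0 u hu]
      rfl
    · refine ⟨b.restrict (hSR b hb), ⟨b, hb, fun v => rfl⟩, ?_⟩
      refine LinearMap.ext fun v => Subtype.ext ?_
      show ((y (b.restrict (hSR b hb) v) : ↥S) : V) = v
      rw [ex]
      show x (b (v : V)) = v
      obtain ⟨u, hu, huv⟩ := v.2
      rw [← Module.End.mul_apply, hcomm x hx b hb, Module.End.mul_apply, ← huv, hbx u hu]
  · -- normalised
    rintro h y ⟨x, hx, ex⟩
    refine ⟨τ (h : H) * x * τ (h : H)⁻¹, hconj _ x hx, fun v => ?_⟩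
    show ((subRep (resRep τ K) S hSK h (y (subRep (resRep τ K) S hSK h⁻¹ v)) : ↥S) : V) = _
    rw [subRep_apply, ex, subRep_apply]
    rfl
  · -- faithful
    intro h hne
    have hh : (h : H) ≠ 1 := fun hc => hne (Subtype.ext hc)
    obtain ⟨x, hx, u, hu, hxu⟩ := hfaith h hh S he.2.2.1 hSR (fun v hv => hSK h v hv)
    refine ⟨x.restrict (hSR x hx), ⟨x, hx, fun v => rfl⟩, ?_⟩
    intro heq
    apply hxu
    have h1 := congrArg (fun z : Module.End k ↥S =>
      ((z (subRep (resRep τ K) S hSK h ⟨u, hu⟩) : ↥S) : V)) heq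
    simp only [Module.End.mul_apply, subRep_apply, resRep_apply, LinearMap.coe_restrict_apply,
      Subgroup.coe_inv] at h1
    rw [← Module.End.mul_apply (τ (h : H)⁻¹), tau_inv_mul, Module.End.one_apply] at h1
    exact h1

theorem finrank_sum_le_of_distinct (τ : Representation k H V)
    {R : Subalgebra k (Module.End k V)}
    (hcomm : ∀ x ∈ R, ∀ y ∈ R, x * y = y * x)
    (hconj : ∀ h : H, ∀ x ∈ R, τ h * x * τ h⁻¹ ∈ R)
    {U : Submodule k V} (hUR : ∀ x ∈ R, ∀ u ∈ U, x u ∈ U) (hUH : ∀ h : H, ∀ u ∈ U, τ h u ∈ U)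
    {e : Module.End k V} (he : IsMinIdem R U e) (T : Finset (Submodule k V))
    (hT : ∀ S ∈ T, ∃ h : H, S = (U.map e).map (τ h)) :
    ∑ S ∈ T, finrank k S ≤ finrank k ↥(⨆ S ∈ T, S) := by
  classical
  induction T using Finset.induction_on with
  | empty => simp
  | insert S₀ T hS₀ ih =>
    rw [Finset.sum_insert hS₀, Finset.iSup_insert]
    have ih' := ih (fun S hS => hT S (Finset.mem_insert_of_mem hS))
    obtain ⟨a, ha⟩ := hT S₀ (Finset.mem_insert_self _ _)
    have hmina := isMinIdem_cj τ hconj hUH he a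
    have hS₀' : S₀ = U.map (cj τ a e) := by rw [map_cj τ hUH, ha]
    have hdisj : S₀ ⊓ (⨆ S ∈ T, S) = ⊥ := by
      rw [eq_bot_iff]
      rintro v ⟨hv1, hv2⟩
      have h1 : cj τ a e v = v := by
        rw [hS₀'] at hv1
        obtain ⟨u, hu, rfl⟩ := hv1
        rw [← Module.End.mul_apply, cj_idem τ a he.2.1]
      have h2 : (⨆ S ∈ T, S) ≤ LinearMap.ker (cj τ a e) := by
        refine iSup₂_le fun S hS => ?_
        obtain ⟨h, hh⟩ := hT S (Finset.mem_insert_of_mem hS)
        have hminh := isMinIdem_cj τ hconj hUH he h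
        have hS' : S = U.map (cj τ h e) := by rw [map_cj τ hUH, hh]
        rcases eq_or_kill_of_min hcomm hUR hminh hmina with heq | hk
        · exfalso
          apply hS₀
          rw [hS₀', ← heq, ← hS']
          exact hS
        · rw [hS']
          rintro _ ⟨u, hu, rfl⟩
          exact hk u hu
      have h3 : cj τ a e v = 0 := h2 hv2
      rw [Submodule.mem_bot, ← h1, h3]
    have e1 := Submodule.finrank_sup_add_finrank_inf_eq S₀ (⨆ S ∈ T, S)
    rw [hdisj, finrank_bot, add_zero] at e1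
    rw [e1]
    exact Nat.add_le_add_left ih' _

theorem good_orbit (τ : Representation k H V) (R : Subalgebra k (Module.End k V))
    (hcomm : ∀ x ∈ R, ∀ y ∈ R, x * y = y * x)
    (hconj : ∀ h : H, ∀ x ∈ R, τ h * x * τ h⁻¹ ∈ R)
    (hss : ∀ x ∈ R, ∃ f ∈ R, f * f = f ∧ (∃ a ∈ R, x = a * f) ∧ (∃ b ∈ R, f = b * x))
    (hfaith : ∀ h : H, h ≠ 1 → ∀ U : Submodule k V, U ≠ ⊥ → (∀ x ∈ R, ∀ u ∈ U, x u ∈ U) →
      (∀ u ∈ U, τ h u ∈ U) → ∃ x ∈ R, ∃ u ∈ U, τ h (x u) ≠ x (τ h u))
    {U : Submodule k V} (hUR : ∀ x ∈ R, ∀ u ∈ U, x u ∈ U) (hUH : ∀ h : H, ∀ u ∈ U, τ h u ∈ U)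
    {e : Module.End k V} (he : IsMinIdem R U e) :
    Good τ (⨆ h : H, (U.map e).map (τ h)) := by
  classical
  obtain ⟨W, hW, hn⟩ := good_block τ R hcomm hconj hss hfaith hUR he
  set S := U.map e with hS
  set K := stab τ S with hK
  have hWS : W ≤ S := le_of_iSup_map_eq _ hW
  refine ⟨W, ?_, ?_⟩
  · apply le_antisymm
    · exact iSup_le fun h => le_trans (Submodule.map_mono hWS) (le_iSup (fun h => S.map (τ h)) h)
    · refine iSup_le fun h => ?_
      rw [← hW, Submodule.map_iSup]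
      refine iSup_le fun h' => ?_
      rw [resRep_apply, ← map_tau_mul]
      exact le_iSup (fun g => W.map (τ g)) (h * (h' : H))
  · haveI : Fintype H := Fintype.ofFinite H
    set T : Finset (Submodule k V) := Finset.image (fun h : H => S.map (τ h)) Finset.univ with hT
    have hA := finrank_sum_le_of_distinct τ hcomm hconj hUR hUH he T (by
      intro S' hS'
      obtain ⟨h, _, rfl⟩ := Finset.mem_image.mp hS'
      exact ⟨h, rfl⟩)
    have hB : ∑ S' ∈ T, finrank k S' = T.card * finrank k S := by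
      rw [Finset.sum_const_nat]
      intro S' hS'
      obtain ⟨h, _, rfl⟩ := Finset.mem_image.mp hS'
      exact finrank_map_tau τ S h
    have hC : Fintype.card H ≤ Nat.card ↥K * T.card := by
      have := Finset.card_le_mul_card_image (f := fun h : H => S.map (τ h)) Finset.univ
        (Nat.card ↥K) (by
        intro S' hS'
        obtain ⟨h₀, _, rfl⟩ := Finset.mem_image.mp hS'
        haveI : Fintype ↥K := Fintype.ofFinite _
        have hsub : (Finset.univ.filter fun x : H => S.map (τ x) = S.map (τ h₀)) ⊆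
            Finset.image (fun x : ↥K => h₀ * (x : H)) Finset.univ := by
          intro x hx
          rw [Finset.mem_filter] at hx
          have hxK : h₀⁻¹ * x ∈ K := by
            show S.map (τ (h₀⁻¹ * x)) = S
            rw [map_tau_mul, hx.2, ← map_tau_mul, inv_mul_cancel, map_one]
            exact Submodule.map_id S
          exact Finset.mem_image.mpr ⟨⟨h₀⁻¹ * x, hxK⟩, Finset.mem_univ _, by simp⟩
        calc _ ≤ (Finset.image (fun x : ↥K => h₀ * (x : H)) Finset.univ).card :=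
              Finset.card_le_card hsub
          _ ≤ (Finset.univ : Finset ↥K).card := Finset.card_image_le
          _ = Nat.card ↥K := by rw [Finset.card_univ, Nat.card_eq_fintype_card])
      rwa [Finset.card_univ] at this
    have hD : (⨆ S' ∈ T, S') ≤ ⨆ h : H, S.map (τ h) := by
      refine iSup₂_le fun S' hS' => ?_
      obtain ⟨h, _, rfl⟩ := Finset.mem_image.mp hS'
      exact le_iSup (fun h => S.map (τ h)) h
    rw [Nat.card_eq_fintype_card]
    calc Fintype.card H * finrank k W ≤ (Nat.card ↥K * T.card) * finrank k W :=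
          Nat.mul_le_mul_right _ hC
      _ = T.card * (Nat.card ↥K * finrank k W) := by ring
      _ ≤ T.card * finrank k S := Nat.mul_le_mul_left _ hn
      _ = ∑ S' ∈ T, finrank k S' := hB.symm
      _ ≤ finrank k ↥(⨆ S' ∈ T, S') := hA
      _ ≤ _ := Submodule.finrank_mono hD

end Orbit

section Compl

variable {k V H : Type*} [Field k] [AddCommGroup V] [Module k V] [FiniteDimensional k V]
  [Group H] [Finite H]

theorem exists_compl_orbit (τ : Representation k H V) {R : Subalgebra k (Module.End k V)}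
    (hcomm : ∀ x ∈ R, ∀ y ∈ R, x * y = y * x)
    (hconj : ∀ h : H, ∀ x ∈ R, τ h * x * τ h⁻¹ ∈ R)
    {U : Submodule k V} (hUR : ∀ x ∈ R, ∀ u ∈ U, x u ∈ U) (hUH : ∀ h : H, ∀ u ∈ U, τ h u ∈ U)
    {e : Module.End k V} (he : e ∈ R) (hee : e * e = e) :
    ∃ U'' : Submodule k V, (⨆ h : H, (U.map e).map (τ h)) ⊓ U'' = ⊥ ∧
      (⨆ h : H, (U.map e).map (τ h)) ⊔ U'' = U ∧ (∀ x ∈ R, ∀ u ∈ U'', x u ∈ U'') ∧
      (∀ h : H, ∀ u ∈ U'', τ h u ∈ U'') := by
  classical
  haveI : Fintype H := Fintype.ofFinite H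
  set E : H → Module.End k V := fun h => cj τ h e with hE
  have hER : ∀ h, E h ∈ R := fun h => hconj h e he
  have hEE : ∀ h, E h * E h = E h := fun h => cj_idem τ h hee
  have hEc : ∀ g h, E g * E h = E h * E g := fun g h => hcomm _ (hER g) _ (hER h)
  have hSE : ∀ h, (U.map e).map (τ h) = U.map (E h) := fun h => (map_cj τ hUH h e).symm
  have hfix : ∀ h, ∀ v ∈ U.map (E h), E h v = v := by
    rintro h _ ⟨u, hu, rfl⟩
    rw [← Module.End.mul_apply, hEE]
  -- invariance of partial sums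
  have hXinv : ∀ (s : Finset H), ∀ y ∈ R, ∀ v ∈ (⨆ h ∈ s, U.map (E h)), y v ∈ (⨆ h ∈ s, U.map (E h)) := by
    intro s y hy
    have : (⨆ h ∈ s, U.map (E h)) ≤ (⨆ h ∈ s, U.map (E h)).comap y := by
      refine iSup₂_le fun h hh => ?_
      intro v hv
      rw [Submodule.mem_comap]
      have h1 : y v ∈ U.map (E h) := inv_of_min hcomm hUR (hER h) y hy v hv
      exact (le_biSup (fun h => U.map (E h)) hh) h1
    exact fun v hv => this hv
  have claim1 : ∀ s : Finset H, (⨆ h ∈ s, U.map (E h)) ⊓ (⨅ h ∈ s, LinearMap.ker (E h)) = ⊥ := by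
    intro s
    induction s using Finset.induction_on with
    | empty => simp
    | insert a s ha ih =>
      rw [eq_bot_iff]
      rintro v ⟨hv1, hv2⟩
      rw [Finset.iSup_insert] at hv1
      rw [Finset.iInf_insert] at hv2
      obtain ⟨hva, hvY⟩ := hv2
      obtain ⟨x, hx, r, hr, hxr⟩ := Submodule.mem_sup.mp hv1
      have h1 : E a v = 0 := hva
      have h2 : E a x = x := hfix a x hx
      have h3 : v = r - E a r := by
        have : E a v = x + E a r := by rw [← hxr, map_add, h2]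
        rw [h1] at this
        rw [← hxr]
        have hx' : x = - E a r := eq_neg_of_add_eq_zero_left this.symm
        rw [hx']
        abel
      have h4 : v ∈ (⨆ h ∈ s, U.map (E h)) := by
        rw [h3]
        exact Submodule.sub_mem _ hr (hXinv s (E a) (hER a) r hr)
      have : v ∈ (⨆ h ∈ s, U.map (E h)) ⊓ (⨅ h ∈ s, LinearMap.ker (E h)) := ⟨h4, hvY⟩
      rw [ih] at this
      exact this
  have claim2 : ∀ s : Finset H,
      U ≤ (⨆ h ∈ s, U.map (E h)) ⊔ (U ⊓ ⨅ h ∈ s, LinearMap.ker (E h)) := by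
    intro s
    induction s using Finset.induction_on with
    | empty => simp
    | insert a s ha ih =>
      intro u hu
      obtain ⟨x, hx, y, hy, hxy⟩ := Submodule.mem_sup.mp (ih hu)
      obtain ⟨hyU, hyY⟩ := hy
      rw [Finset.iSup_insert, Finset.iInf_insert]
      have hyY' : ∀ h ∈ s, E h y = 0 := by
        intro h hh
        have := hyY
        simp only [Submodule.mem_iInf, LinearMap.mem_ker, SetLike.mem_coe] at this
        exact this h hh
      have h1 : E a y + x ∈ U.map (E a) ⊔ ⨆ h ∈ s, U.map (E h) :=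
        Submodule.add_mem_sup ⟨y, hyU, rfl⟩ hx
      have h2 : y - E a y ∈ U ⊓ (LinearMap.ker (E a) ⊓ ⨅ h ∈ s, LinearMap.ker (E h)) := by
        refine ⟨Submodule.sub_mem _ hyU (hUR _ (hER a) y hyU), ?_, ?_⟩
        · show E a (y - E a y) = 0
          rw [map_sub, ← Module.End.mul_apply, hEE, sub_self]
        · simp only [Submodule.mem_iInf, LinearMap.mem_ker, SetLike.mem_coe]
          intro h hh
          rw [map_sub, ← Module.End.mul_apply, hEc, Module.End.mul_apply, hyY' h hh, map_zero,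
            sub_zero]
      have h3 : u = (E a y + x) + (y - E a y) := by
        rw [← hxy]; abel
      rw [h3]
      exact Submodule.add_mem_sup h1 h2
  have hU' : (⨆ h : H, (U.map e).map (τ h)) = ⨆ h ∈ (Finset.univ : Finset H), U.map (E h) := by
    simp only [hSE, Finset.mem_univ, iSup_pos]
  have hK : (⨅ h : H, LinearMap.ker (E h)) =
      ⨅ h ∈ (Finset.univ : Finset H), LinearMap.ker (E h) := by
    simp only [Finset.mem_univ, iInf_pos]
  refine ⟨U ⊓ ⨅ h : H, LinearMap.ker (E h), ?_, ?_, ?_, ?_⟩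
  · rw [eq_bot_iff, ← claim1 Finset.univ, hU', hK]
    exact inf_le_inf_left _ inf_le_right
  · apply le_antisymm
    · refine sup_le (iSup_le fun h => ?_) inf_le_left
      rintro _ ⟨_, ⟨u, hu, rfl⟩, rfl⟩
      exact hUH h _ (hUR e he u hu)
    · rw [hU', hK]
      exact claim2 Finset.univ
  · rintro x hx u ⟨huU, huK⟩
    refine ⟨hUR x hx u huU, ?_⟩
    simp only [Submodule.mem_iInf, LinearMap.mem_ker, SetLike.mem_coe] at huK ⊢
    intro h
    rw [← Module.End.mul_apply, hcomm _ (hER h) x hx, Module.End.mul_apply, huK h, map_zero]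
  · rintro g u ⟨huU, huK⟩
    refine ⟨hUH g u huU, ?_⟩
    simp only [Submodule.mem_iInf, LinearMap.mem_ker, SetLike.mem_coe] at huK ⊢
    intro h
    have h1 : E h = cj τ g (E (g⁻¹ * h)) := by
      show cj τ h e = cj τ g (cj τ (g⁻¹ * h) e)
      rw [← cj_mul, mul_inv_cancel_left]
    rw [h1, cj_apply, ← Module.End.mul_apply (τ g⁻¹), tau_inv_mul, Module.End.one_apply,
      huK (g⁻¹ * h), map_zero]

theorem good_of_inv (τ : Representation k H V) (R : Subalgebra k (Module.End k V))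
    (hcomm : ∀ x ∈ R, ∀ y ∈ R, x * y = y * x)
    (hconj : ∀ h : H, ∀ x ∈ R, τ h * x * τ h⁻¹ ∈ R)
    (hss : ∀ x ∈ R, ∃ f ∈ R, f * f = f ∧ (∃ a ∈ R, x = a * f) ∧ (∃ b ∈ R, f = b * x))
    (hfaith : ∀ h : H, h ≠ 1 → ∀ U : Submodule k V, U ≠ ⊥ → (∀ x ∈ R, ∀ u ∈ U, x u ∈ U) →
      (∀ u ∈ U, τ h u ∈ U) → ∃ x ∈ R, ∃ u ∈ U, τ h (x u) ≠ x (τ h u)) :
    ∀ (n : ℕ) (U : Submodule k V), finrank k U ≤ n → (∀ x ∈ R, ∀ u ∈ U, x u ∈ U) →
      (∀ h : H, ∀ u ∈ U, τ h u ∈ U) → Good τ U := by
  intro n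
  induction n with
  | zero =>
    intro U hn _ _
    have : U = ⊥ := Submodule.finrank_eq_zero.mp (Nat.le_zero.mp hn)
    rw [this]
    exact good_bot τ
  | succ n ih =>
    intro U hn hUR hUH
    by_cases hU : U = ⊥
    · rw [hU]; exact good_bot τ
    classical
    have hP : ∃ m, ∃ e' ∈ R, e' * e' = e' ∧ U.map e' ≠ ⊥ ∧ finrank k (U.map e') = m :=
      ⟨finrank k (U.map (1 : Module.End k V)), 1, R.one_mem, one_mul 1, by
        rw [Module.End.one_eq_id, Submodule.map_id]; exact hU, rfl⟩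
    obtain ⟨e, heR, hee, hne, hm⟩ := Nat.find_spec hP
    have he : IsMinIdem R U e := ⟨heR, hee, hne, fun e' he' hee' hne' => by
      rw [hm]; exact Nat.find_min' hP ⟨e', he', hee', hne', rfl⟩⟩
    obtain ⟨U'', hd, hs, hR'', hH''⟩ := exists_compl_orbit τ hcomm hconj hUR hUH heR hee
    have hU' := good_orbit τ R hcomm hconj hss hfaith hUR hUH he
    have hpos : 0 < finrank k ↥(⨆ h : H, (U.map e).map (τ h)) := by
      rw [Nat.pos_iff_ne_zero, Ne, Submodule.finrank_eq_zero]
      intro hb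
      apply hne
      rw [eq_bot_iff, ← hb]
      refine le_trans ?_ (le_iSup (fun h => (U.map e).map (τ h)) (1 : H))
      rw [map_one]
      exact (Submodule.map_id _).ge
    have e2 := Submodule.finrank_sup_add_finrank_inf_eq (⨆ h : H, (U.map e).map (τ h)) U''
    rw [hd, hs, finrank_bot, add_zero] at e2
    have hlt : finrank k U'' ≤ n := by omega
    have hg'' := ih U'' hlt hR'' hH''
    rw [← hs]
    exact good_sup τ hU' hg'' hd

/-- **Main abstract freeness theorem.** -/
theorem good_top_of_semisimple (τ : Representation k H V) (R : Subalgebra k (Module.End k V))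
    (hcomm : ∀ x ∈ R, ∀ y ∈ R, x * y = y * x)
    (hconj : ∀ h : H, ∀ x ∈ R, τ h * x * τ h⁻¹ ∈ R)
    (hss : ∀ x ∈ R, ∃ f ∈ R, f * f = f ∧ (∃ a ∈ R, x = a * f) ∧ (∃ b ∈ R, f = b * x))
    (hfaith : ∀ h : H, h ≠ 1 → ∀ U : Submodule k V, U ≠ ⊥ → (∀ x ∈ R, ∀ u ∈ U, x u ∈ U) →
      (∀ u ∈ U, τ h u ∈ U) → ∃ x ∈ R, ∃ u ∈ U, τ h (x u) ≠ x (τ h u)) :
    Good τ ⊤ :=
  good_of_inv τ R hcomm hconj hss hfaith _ ⊤ le_rfl (fun _ _ _ _ => Submodule.mem_top)
    (fun _ _ _ => Submodule.mem_top)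

end Compl

end Cfsg.Agent.Helper55.FrobFree
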