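import Mathlib
import Cfsg.Agent.Lib.Helper55.FrobFree
import Cfsg.Agent.Lib.Helper55.Cores

/-!
# Frobenius-type actions and free modules

If `H` acts fixed-point-freely on a normal nilpotent subgroup `F` of `A` and `F` has no nonzero
fixed vector on the `kA`-module `V`, then `V` is a free `kH`-module.
-/

namespace Cfsg.Agent.Helper55.FrobFree

open Module

open scoped commutatorElement

section GroupLemmas

variable {A : Type*} [Group A]

/-- If conjugation by `h` has no nontrivial fixed points on `B` and `K ≤ B` is a finite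
`h`-invariant subgroup, then `[h, b] ∈ K` forces `b ∈ K`. -/
theorem mem_of_commutator_mem (h : A) (B K : Subgroup A) [Finite K] (hKB : K ≤ B)
    (hK : ∀ c ∈ K, h * c * h⁻¹ ∈ K) (hfpf : ∀ c ∈ B, h * c = c * h → c = 1)
    {b : A} (hb : b ∈ B) (hbK : h * b * h⁻¹ * b⁻¹ ∈ K) : b ∈ K := by
  have key : ∀ c ∈ B, ∀ d ∈ B, h * c * h⁻¹ * c⁻¹ = h * d * h⁻¹ * d⁻¹ → c = d := by
    intro c hc d hd hcd
    have h1 : h * (d⁻¹ * c) = (d⁻¹ * c) * h := by
      have h2 : c * h⁻¹ * c⁻¹ = d * h⁻¹ * d⁻¹ := by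
        have := congrArg (fun x => h⁻¹ * x) hcd
        simpa [mul_assoc] using this
      have h3 : d⁻¹ * c * h⁻¹ = h⁻¹ * (d⁻¹ * c) := by
        have := congrArg (fun x => d⁻¹ * x * c) h2
        simpa [mul_assoc] using this
      have h4 := congrArg (fun x => h * x * h) h3
      simp only [mul_assoc, inv_mul_cancel, mul_one, mul_inv_cancel_left] at h4
      simpa [mul_assoc] using h4
    have h5 := hfpf _ (B.mul_mem (B.inv_mem hd) hc) h1
    have : c = d * (d⁻¹ * c) := by group
    rw [this, h5, mul_one]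
  let ψ : ↥K → ↥K := fun c => ⟨h * c * h⁻¹ * (c : A)⁻¹, K.mul_mem (hK c c.2) (K.inv_mem c.2)⟩
  have hinj : Function.Injective ψ := by
    intro c d hcd
    have := congrArg Subtype.val hcd
    exact Subtype.ext (key c (hKB c.2) d (hKB d.2) this)
  obtain ⟨c, hc⟩ := Finite.surjective_of_injective hinj ⟨_, hbK⟩
  have := congrArg Subtype.val hc
  have hcb := key c (hKB c.2) b hb this
  rw [← hcb]
  exact c.2

end GroupLemmas

section LemmaB

variable {k V A : Type*} [Field k] [AddCommGroup V] [Module k V] [FiniteDimensional k V]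
  [Group A] [Finite A]

/-- The image of the group algebra `kB` in `End_k(V)`. -/
noncomputable def algOf (ρ : Representation k A V) (B : Subgroup A) :
    Subalgebra k (Module.End k V) :=
  (Representation.asAlgebraHom (resRep ρ B)).range

theorem rho_mem_algOf (ρ : Representation k A V) (B : Subgroup A) {b : A} (hb : b ∈ B) :
    ρ b ∈ algOf ρ B :=
  (AlgHom.mem_range _).mpr ⟨MonoidAlgebra.of k ↥B ⟨b, hb⟩, by
    rw [Representation.asAlgebraHom_of]; rfl⟩

theorem algOf_le_span (ρ : Representation k A V) (B : Subgroup A) :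
    ∀ x ∈ algOf ρ B, x ∈ Submodule.span k (Set.range fun b : ↥B => ρ (b : A)) := by
  intro x hx
  obtain ⟨a, rfl⟩ := (AlgHom.mem_range _).mp hx
  rw [Representation.asAlgebraHom_def]
  show (MonoidAlgebra.lift k (V →ₗ[k] V) ↥B (resRep ρ B)) a ∈ _
  rw [MonoidAlgebra.lift_apply]
  unfold Finsupp.sum
  exact Submodule.sum_mem _ fun g _ =>
    Submodule.smul_mem _ _ (Submodule.subset_span ⟨g, rfl⟩)

theorem algOf_comm (ρ : Representation k A V) (B : Subgroup A)
    (hBc : ∀ b ∈ B, ∀ b' ∈ B, ρ b * ρ b' = ρ b' * ρ b) :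
    ∀ x ∈ algOf ρ B, ∀ y ∈ algOf ρ B, x * y = y * x := by
  have step1 : ∀ x ∈ Submodule.span k (Set.range fun b : ↥B => ρ (b : A)), ∀ b ∈ B,
      ρ b * x = x * ρ b := by
    intro x hx' b hb
    induction hx' using Submodule.span_induction with
    | mem x h =>
      obtain ⟨b', rfl⟩ := h
      exact hBc b hb b' b'.2
    | zero => simp
    | add x y _ _ ihx ihy => rw [mul_add, add_mul, ihx, ihy]
    | smul a x _ ih => rw [mul_smul_comm, smul_mul_assoc, ih]
  have step2 : ∀ x ∈ Submodule.span k (Set.range fun b : ↥B => ρ (b : A)),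
      ∀ y ∈ Submodule.span k (Set.range fun b : ↥B => ρ (b : A)), x * y = y * x := by
    intro x hx y hy'
    induction hy' using Submodule.span_induction with
    | mem y h =>
      obtain ⟨b', rfl⟩ := h
      exact (step1 x hx b' b'.2).symm
    | zero => simp
    | add y z _ _ ihy ihz => rw [mul_add, add_mul, ihy, ihz]
    | smul a y _ ih => rw [mul_smul_comm, smul_mul_assoc, ih]
  intro x hx y hy
  exact step2 x (algOf_le_span ρ B x hx) y (algOf_le_span ρ B y hy)

theorem algOf_conj (ρ : Representation k A V) (B : Subgroup A) {g : A}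
    (hg : ∀ b ∈ B, g * b * g⁻¹ ∈ B) :
    ∀ x ∈ algOf ρ B, ρ g * x * ρ g⁻¹ ∈ algOf ρ B := by
  have step : ∀ x ∈ Submodule.span k (Set.range fun b : ↥B => ρ (b : A)),
      ρ g * x * ρ g⁻¹ ∈ algOf ρ B := by
    intro x hx'
    induction hx' using Submodule.span_induction with
    | mem x h =>
      obtain ⟨b, rfl⟩ := h
      have : ρ g * ρ (b : A) * ρ g⁻¹ = ρ (g * b * g⁻¹) := by rw [map_mul, map_mul]
      rw [this]
      exact rho_mem_algOf ρ B (hg b b.2)
    | zero =>
      rw [mul_zero, zero_mul]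
      exact (algOf ρ B).zero_mem
    | add x y _ _ ihx ihy =>
      rw [mul_add, add_mul]
      exact (algOf ρ B).add_mem ihx ihy
    | smul a x _ ih =>
      rw [mul_smul_comm, smul_mul_assoc]
      exact (algOf ρ B).smul_mem ih a
  intro x hx
  exact step x (algOf_le_span ρ B x hx)

theorem algOf_ss (ρ : Representation k A V) (B : Subgroup A) (hcard : (Nat.card B : k) ≠ 0) :
    ∀ x ∈ algOf ρ B, ∃ f ∈ algOf ρ B, f * f = f ∧ (∃ a ∈ algOf ρ B, x = a * f) ∧
      (∃ b ∈ algOf ρ B, f = b * x) := by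
  haveI : NeZero (Nat.card ↥B : k) := ⟨hcard⟩
  haveI : IsSemisimpleRing ↥(algOf ρ B) :=
    RingHom.isSemisimpleRing_of_surjective
      ((Representation.asAlgebraHom (resRep ρ B)).rangeRestrict :
        MonoidAlgebra k ↥B →+* ↥(Representation.asAlgebraHom (resRep ρ B)).range)
      (Representation.asAlgebraHom (resRep ρ B)).rangeRestrict_surjective
  intro x hx
  obtain ⟨f, hf, hI⟩ := IsSemisimpleRing.ideal_eq_span_idempotent
    (Ideal.span {(⟨x, hx⟩ : ↥(algOf ρ B))})
  have h1 : (⟨x, hx⟩ : ↥(algOf ρ B)) ∈ Ideal.span {f} :=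
    hI ▸ Ideal.subset_span (Set.mem_singleton _)
  have h2 : f ∈ Ideal.span {(⟨x, hx⟩ : ↥(algOf ρ B))} :=
    hI.symm ▸ Ideal.subset_span (Set.mem_singleton _)
  obtain ⟨a, ha⟩ := Ideal.mem_span_singleton'.mp h1
  obtain ⟨b, hb⟩ := Ideal.mem_span_singleton'.mp h2
  exact ⟨f, f.2, congrArg Subtype.val hf.eq, ⟨a, a.2, (congrArg Subtype.val ha).symm⟩,
    ⟨b, b.2, (congrArg Subtype.val hb).symm⟩⟩

theorem algOf_faith (ρ : Representation k A V) (H B : Subgroup A)
    (hBH : ∀ h ∈ H, ∀ b ∈ B, h * b * h⁻¹ ∈ B)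
    (hfix : ∀ v : V, (∀ b ∈ B, ρ b v = v) → v = 0)
    (hfpf : ∀ h ∈ H, h ≠ 1 → ∀ b ∈ B, h * b = b * h → b = 1) :
    ∀ h : ↥H, h ≠ 1 → ∀ U : Submodule k V, U ≠ ⊥ → (∀ x ∈ algOf ρ B, ∀ u ∈ U, x u ∈ U) →
      (∀ u ∈ U, resRep ρ H h u ∈ U) →
      ∃ x ∈ algOf ρ B, ∃ u ∈ U, resRep ρ H h (x u) ≠ x (resRep ρ H h u) := by
  intro h hne U hU hUR hUh
  by_contra hcon
  push Not at hcon
  obtain ⟨g, hgH⟩ := h
  have hg1 : g ≠ 1 := fun hc => hne (Subtype.ext hc)
  have hUg : ∀ u ∈ U, ρ g u ∈ U := hUh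
  have hcon' : ∀ x ∈ algOf ρ B, ∀ u ∈ U, ρ g (x u) = x (ρ g u) := hcon
  have hgg : ∀ v : V, ρ g (ρ g⁻¹ v) = v := fun v => by
    rw [← Module.End.mul_apply, tau_mul_inv, Module.End.one_apply]
  have hgg' : ∀ v : V, ρ g⁻¹ (ρ g v) = v := fun v => by
    rw [← Module.End.mul_apply, tau_inv_mul, Module.End.one_apply]
  have hUg' : ∀ u ∈ U, ρ g⁻¹ u ∈ U := by
    have hle : U.map (ρ g) ≤ U := by
      rintro _ ⟨u, hu, rfl⟩
      exact hUg u hu
    have heq : U.map (ρ g) = U :=
      Submodule.eq_of_le_of_finrank_eq hle (finrank_map_tau ρ U g)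
    intro u hu
    rw [← heq] at hu
    obtain ⟨u', hu', rfl⟩ := hu
    rw [hgg']
    exact hu'
  let K : Subgroup A :=
    { carrier := {b | b ∈ B ∧ ∀ u ∈ U, ρ b u = u}
      mul_mem' := by
        rintro b b' ⟨hb, hbu⟩ ⟨hb', hbu'⟩
        refine ⟨B.mul_mem hb hb', fun u hu => ?_⟩
        rw [map_mul, Module.End.mul_apply, hbu' u hu, hbu u hu]
      one_mem' := ⟨B.one_mem, fun u _ => by rw [map_one, Module.End.one_apply]⟩
      inv_mem' := by
        rintro b ⟨hb, hbu⟩
        refine ⟨B.inv_mem hb, fun u hu => ?_⟩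
        conv_lhs => rw [← hbu u hu]
        rw [← Module.End.mul_apply, tau_inv_mul, Module.End.one_apply] }
  have hKB : K ≤ B := fun b hb => hb.1
  have hKg : ∀ c ∈ K, g * c * g⁻¹ ∈ K := by
    rintro c ⟨hc, hcu⟩
    refine ⟨hBH g hgH c hc, fun u hu => ?_⟩
    rw [map_mul, map_mul, Module.End.mul_apply, Module.End.mul_apply, hcu _ (hUg' u hu), hgg]
  have hall : ∀ b ∈ B, b ∈ K := by
    intro b hb
    apply mem_of_commutator_mem g B K hKB hKg (hfpf g hgH hg1) hb
    refine ⟨B.mul_mem (hBH g hgH b hb) (B.inv_mem hb), fun u hu => ?_⟩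
    have hu' : ρ b⁻¹ u ∈ U := hUR _ (rho_mem_algOf ρ B (B.inv_mem hb)) u hu
    have hu'' : ρ g⁻¹ (ρ b⁻¹ u) ∈ U := hUg' _ hu'
    rw [map_mul, map_mul, map_mul, Module.End.mul_apply, Module.End.mul_apply,
      Module.End.mul_apply, hcon' _ (rho_mem_algOf ρ B hb) _ hu'', hgg,
      ← Module.End.mul_apply, tau_mul_inv, Module.End.one_apply]
  obtain ⟨u, hu, hu0⟩ := Submodule.exists_mem_ne_zero_of_ne_bot hU
  exact hu0 (hfix u fun b hb => (hall b hb).2 u hu)

/-- **Lemma B**: if `B` is normalised by `H`, acts commutatively on `V` without nonzero fixed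
vectors, `|B|` is invertible in `k`, and `H` acts fixed-point-freely on `B`, then `V` is a free
`kH`-module. -/
theorem good_of_comm (ρ : Representation k A V) (H B : Subgroup A)
    (hBH : ∀ h ∈ H, ∀ b ∈ B, h * b * h⁻¹ ∈ B)
    (hBc : ∀ b ∈ B, ∀ b' ∈ B, ρ b * ρ b' = ρ b' * ρ b)
    (hcard : (Nat.card B : k) ≠ 0)
    (hfix : ∀ v : V, (∀ b ∈ B, ρ b v = v) → v = 0)
    (hfpf : ∀ h ∈ H, h ≠ 1 → ∀ b ∈ B, h * b = b * h → b = 1) :
    Good (resRep ρ H) ⊤ :=
  good_top_of_semisimple (resRep ρ H) (algOf ρ B) (algOf_comm ρ B hBc)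
    (fun h x hx => algOf_conj ρ B (hBH h.1 h.2) x hx) (algOf_ss ρ B hcard)
    (algOf_faith ρ H B hBH hfix hfpf)

end LemmaB

section FixedVector

variable {k V A : Type*} [Field k] [AddCommGroup V] [Module k V] [Group A]

/-- A group acting on a nonzero subspace in characteristic `p` through a `p`-group has a nonzero
fixed vector. -/
theorem exists_fixed_of_pow_trivial {p : ℕ} [Fact p.Prime] [CharP k p]
    (ρ : Representation k A V) (P : Subgroup A) [Finite P] (U : Submodule k V)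
    (hU : ∀ g ∈ P, ∀ u ∈ U, ρ g u ∈ U) (hne : U ≠ ⊥)
    (hp : ∀ g ∈ P, ∃ n : ℕ, ∀ u ∈ U, ρ (g ^ p ^ n) u = u) :
    ∃ v ∈ U, v ≠ 0 ∧ ∀ g ∈ P, ρ g v = v := by
  classical
  haveI : Fintype ↥P := Fintype.ofFinite _
  obtain ⟨v₀, hv₀U, hv₀⟩ := Submodule.exists_mem_ne_zero_of_ne_bot hne
  let c : ZMod p →+* k := ZMod.castHom (dvd_refl p) k
  let φ : (↥P → ZMod p) →+ V := AddMonoidHom.mk' (fun f => ∑ g : ↥P, c (f g) • ρ (g : A) v₀) (by
    intro f f'
    simp only [Pi.add_apply, map_add, add_smul, Finset.sum_add_distrib])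
  have hφ : ∀ f, φ f = ∑ g : ↥P, c (f g) • ρ (g : A) v₀ := fun f => rfl
  let M : AddSubgroup V := φ.range
  have hMU : ∀ m ∈ M, m ∈ U := by
    rintro _ ⟨f, rfl⟩
    rw [hφ]
    exact Submodule.sum_mem _ fun g _ => Submodule.smul_mem _ _ (hU g g.2 v₀ hv₀U)
  have hMinv : ∀ g : ↥P, ∀ m ∈ M, ρ (g : A) m ∈ M := by
    rintro g _ ⟨f, rfl⟩
    refine ⟨fun x => f (g⁻¹ * x), ?_⟩
    rw [hφ, hφ, map_sum]
    rw [← Equiv.sum_comp (Equiv.mulLeft g)]
    refine Finset.sum_congr rfl fun x _ => ?_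
    simp only [Equiv.coe_mulLeft, inv_mul_cancel_left, map_smul, Subgroup.coe_mul, map_mul,
      Module.End.mul_apply]
  have hv₀M : v₀ ∈ M := by
    refine ⟨Pi.single 1 1, ?_⟩
    rw [hφ, Finset.sum_eq_single (1 : ↥P)]
    · simp [c]
    · intro g _ hg
      rw [Pi.single_eq_of_ne hg, map_zero, zero_smul]
    · intro h; exact absurd (Finset.mem_univ _) h
  haveI : Finite ↥M := by
    have : Finite (Set.range φ) := inferInstance
    exact this
  letI : MulAction ↥P ↥M :=
    { smul := fun g m => ⟨ρ (g : A) m, hMinv g m m.2⟩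
      one_smul := fun m => Subtype.ext (by
        show ρ ((1 : ↥P) : A) (m : V) = m
        rw [Subgroup.coe_one, map_one, Module.End.one_apply])
      mul_smul := fun g h m => Subtype.ext (by
        show ρ ((g * h : ↥P) : A) (m : V) = ρ (g : A) (ρ (h : A) (m : V))
        rw [Subgroup.coe_mul, map_mul, Module.End.mul_apply]) }
  have hsmul : ∀ (g : ↥P) (m : ↥M), ((g • m : ↥M) : V) = ρ (g : A) (m : V) := fun _ _ => rfl
  -- the image of `P` in the permutation group of `M` is a `p`-group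
  let G' : Subgroup (Equiv.Perm ↥M) := (MulAction.toPermHom ↥P ↥M).range
  have hG' : IsPGroup p ↥G' := by
    rintro ⟨σ, g, rfl⟩
    obtain ⟨n, hn⟩ := hp g g.2
    refine ⟨n, Subtype.ext ?_⟩
    show (MulAction.toPermHom ↥P ↥M g) ^ p ^ n = 1
    rw [← map_pow]
    ext m
    show (((g ^ p ^ n) • m : ↥M) : V) = m
    rw [hsmul, Subgroup.coe_pow]
    exact hn _ (hMU _ m.2)
  have hdvd : p ∣ Nat.card ↥M := by
    have h1 : addOrderOf (⟨v₀, hv₀M⟩ : ↥M) = p := by
      apply addOrderOf_eq_prime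
      · apply Subtype.ext
        show p • v₀ = 0
        rw [← Nat.cast_smul_eq_nsmul k, CharP.cast_eq_zero k p, zero_smul]
      · intro h
        exact hv₀ (congrArg Subtype.val h)
    rw [← h1]
    exact addOrderOf_dvd_natCard _
  have h0 : (0 : ↥M) ∈ MulAction.fixedPoints ↥G' ↥M := by
    rintro ⟨σ, g, rfl⟩
    apply Subtype.ext
    show ρ (g : A) ((0 : ↥M) : V) = ((0 : ↥M) : V)
    rw [AddSubgroup.coe_zero, map_zero]
  obtain ⟨b, hb, hb0⟩ := hG'.exists_fixed_point_of_prime_dvd_card_of_fixed_point ↥M hdvd h0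
  refine ⟨(b : V), hMU _ b.2, fun h => hb0 (Subtype.ext h.symm), fun g hg => ?_⟩
  have := hb ⟨MulAction.toPermHom ↥P ↥M ⟨g, hg⟩, ⟨g, hg⟩, rfl⟩
  exact congrArg Subtype.val this

end FixedVector

section PPrime

variable {A : Type*} [Group A] [Finite A]

/-- The normal `p`-complement of a normal nilpotent subgroup, as a normal subgroup of the
ambient group. -/
theorem exists_pprime_normal (Fk : Subgroup A) [hFn : Fk.Normal] (hnil : Group.IsNilpotent ↥Fk)
    (p : ℕ) [hp : Fact p.Prime] :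
    ∃ Q : Subgroup A, Q.Normal ∧ Q ≤ Fk ∧ (Nat.card Q).Coprime p ∧
      ∃ a : ℕ, ∀ f ∈ Fk, f ^ p ^ a ∈ Q := by
  set K : Subgroup ↥Fk := Cfsg.pPrimeCore p ↥Fk with hK
  have hKc : (Nat.card K).Coprime p := pPrimeCore_coprime p
  have hsyl : ∀ (q : ℕ) (_hq : Fact q.Prime) (Q : Sylow q ↥Fk), (Q : Subgroup ↥Fk).Normal :=
    ((Group.isNilpotent_of_finite_tfae (G := ↥Fk)).out 0 3).mp hnil
  have hidx : K.index = p ^ K.index.primeFactorsList.length := by
    apply Nat.eq_prime_pow_of_unique_prime_dvd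
    · exact Subgroup.index_ne_zero_of_finite
    · intro q hq hqd
      by_contra hne
      have : Fact q.Prime := ⟨hq⟩
      let Q : Sylow q ↥Fk := default
      have hQn := hsyl q ⟨hq⟩ Q
      have hQc : (Nat.card (Q : Subgroup ↥Fk)).Coprime p := by
        obtain ⟨m, hm⟩ := IsPGroup.iff_card.mp Q.isPGroup'
        rw [hm]
        exact Nat.Coprime.pow_left m ((Nat.coprime_primes hq hp.out).mpr hne)
      have hQK : (Q : Subgroup ↥Fk) ≤ K := le_pPrimeCore hQn hQc
      have h1 : K.index ∣ (Q : Subgroup ↥Fk).index := Subgroup.index_dvd_of_le hQK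
      exact Q.not_dvd_index (hqd.trans h1)
  set a := K.index.primeFactorsList.length with ha
  have hpow : ∀ f : ↥Fk, f ^ p ^ a ∈ K := by
    intro f
    rw [← hidx]
    exact Subgroup.pow_index_mem K f
  have hmemK : ∀ y : ↥Fk, (orderOf y).Coprime p → y ∈ K := by
    intro y hy
    have hc : (p ^ a).Coprime (orderOf y) := Nat.Coprime.pow_left a hy.symm
    obtain ⟨m, hm⟩ := exists_pow_eq_self_of_coprime hc
    rw [← hm]
    exact K.pow_mem (hpow y) m
  refine ⟨K.map Fk.subtype, ?_, Subgroup.map_subtype_le K, ?_, a, ?_⟩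
  · constructor
    rintro _ ⟨x, hx, rfl⟩ g
    have hxg : g * (x : A) * g⁻¹ ∈ Fk := hFn.conj_mem _ x.2 g
    refine ⟨⟨_, hxg⟩, hmemK _ ?_, rfl⟩
    have h1 : orderOf (⟨g * (x : A) * g⁻¹, hxg⟩ : ↥Fk) = orderOf x := by
      rw [Subgroup.orderOf_mk, ← Subgroup.orderOf_coe x]
      exact (MulAut.conj g).orderOf_eq (x : A)
    rw [h1]
    have h2 : orderOf x ∣ Nat.card ↥K := by
      have := orderOf_dvd_natCard (⟨x, hx⟩ : ↥K)
      rwa [Subgroup.orderOf_mk] at this
    exact Nat.Coprime.coprime_dvd_left h2 hKc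
  · rw [Subgroup.card_map_of_injective Fk.subtype_injective]
    exact hKc
  · intro f hf
    exact ⟨⟨f, hf⟩ ^ p ^ a, hpow _, rfl⟩

end PPrime

section Nilpotent

universe u v w

theorem averageMap_apply' {k : Type*} {V : Type*} {G : Type*} [Field k] [AddCommGroup V]
    [Module k V] [Group G] [Fintype G] [Invertible (Fintype.card G : k)]
    (ρ : Representation k G V) (v : V) :
    ρ.averageMap v = ⅟(Fintype.card G : k) • ∑ g : G, ρ g v := by
  unfold Representation.averageMap GroupAlgebra.average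
  simp [map_smul, map_sum, LinearMap.smul_apply, LinearMap.sum_apply]

variable {k : Type u} {A : Type w} [Field k] [Group A] [Finite A]

theorem good_resRep_of_subRep {V : Type v} [AddCommGroup V] [Module k V] [FiniteDimensional k V]
    (ρ : Representation k A V) (H : Subgroup A) (U : Submodule k V)
    (hU : ∀ a : A, ∀ u ∈ U, ρ a u ∈ U) (hg : Good (resRep (subRep ρ U hU) H) ⊤) :
    Good (resRep ρ H) U :=
  good_of_subRep (resRep ρ H) U (fun h => hU h) hg

theorem good_of_nilpotent_aux (F₁ H : Subgroup A) [hFn : F₁.Normal]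
    (hfpf : ∀ h ∈ H, h ≠ 1 → ∀ f ∈ F₁, h * f = f * h → f = 1)
    (hcard : (Nat.card F₁ : k) ≠ 0) :
    ∀ (j i : ℕ), Subgroup.upperCentralSeries ↥F₁ (i + j) = ⊤ →
    ∀ (V : Type v) [AddCommGroup V] [Module k V] [FiniteDimensional k V]
      (ρ : Representation k A V),
      (∀ z ∈ (Subgroup.upperCentralSeries ↥F₁ i).map F₁.subtype, ρ z = 1) →
      (∀ v : V, (∀ f ∈ F₁, ρ f v = v) → v = 0) → Good (resRep ρ H) ⊤ := by
  intro j
  induction j with
  | zero =>
    intro i hi V _ _ _ ρ htriv hfix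
    rw [add_zero] at hi
    have hall : ∀ v : V, v = 0 := by
      intro v
      apply hfix v
      intro f hf
      have : f ∈ (Subgroup.upperCentralSeries ↥F₁ i).map F₁.subtype := by
        rw [hi]
        exact ⟨⟨f, hf⟩, Subgroup.mem_top _, rfl⟩
      rw [htriv f this, Module.End.one_apply]
    haveI : Subsingleton V := ⟨fun a b => by rw [hall a, hall b]⟩
    exact ⟨⊥, Subsingleton.elim _ _, by simp⟩
  | succ j ih =>
    intro i hi V _ _ _ ρ htriv hfix
    classical
    have hi' : Subgroup.upperCentralSeries ↥F₁ ((i + 1) + j) = ⊤ := by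
      have : i + 1 + j = i + (j + 1) := by omega
      rw [this]; exact hi
    set B : Subgroup A := (Subgroup.upperCentralSeries ↥F₁ (i + 1)).map F₁.subtype with hB
    haveI hBn : B.Normal := ConjAct.normal_of_characteristic_of_normal
    have hBF : B ≤ F₁ := Subgroup.map_subtype_le _
    have hBcard : (Nat.card B : k) ≠ 0 := by
      intro h0
      obtain ⟨c, hc⟩ := Subgroup.card_dvd_of_le hBF
      apply hcard
      rw [hc, Nat.cast_mul, h0, zero_mul]
    have hBc : ∀ b ∈ B, ∀ b' ∈ B, ρ b * ρ b' = ρ b' * ρ b := by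
      rintro _ ⟨x, hx, rfl⟩ _ ⟨y, hy, rfl⟩
      have h1 : ⁅x⁻¹, y⁻¹⁆ ∈ Subgroup.upperCentralSeries ↥F₁ i :=
        Subgroup.mem_upperCentralSeries_succ_iff.mp (inv_mem hx) y⁻¹
      have h2 : ρ ((⁅x⁻¹, y⁻¹⁆ : ↥F₁) : A) = 1 := htriv _ ⟨_, h1, rfl⟩
      have h3 : F₁.subtype x * F₁.subtype y =
          F₁.subtype y * F₁.subtype x * ((⁅x⁻¹, y⁻¹⁆ : ↥F₁) : A) := by
        rw [commutatorElement_def]
        simp only [Subgroup.coe_subtype, Subgroup.coe_mul, Subgroup.coe_inv, inv_inv]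
        group
      rw [← map_mul ρ, ← map_mul ρ, h3, map_mul ρ, h2, mul_one]
    haveI : Fintype ↥B := Fintype.ofFinite _
    haveI : Invertible (Fintype.card ↥B : k) :=
      invertibleOfNonzero (by rwa [← Nat.card_eq_fintype_card])
    set ρB : Representation k ↥B V := resRep ρ B with hρB
    have hproj := ρB.isProj_averageMap
    set U₁ : Submodule k V := ρB.invariants with hU₁def
    set U₂ : Submodule k V := LinearMap.ker ρB.averageMap with hU₂def
    have hcompl : IsCompl U₁ U₂ := hproj.isCompl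
    have hU₁ : ∀ a : A, ∀ u ∈ U₁, ρ a u ∈ U₁ := by
      intro a u hu
      rw [hU₁def, Representation.mem_invariants] at hu ⊢
      intro b
      have h1 := hu ⟨a⁻¹ * b * a, hBn.conj_mem' b b.2 a⟩
      show ρ (b : A) (ρ a u) = ρ a u
      have h2 : ρ (a⁻¹ * b * a) u = u := h1
      have h3 : (b : A) * a = a * (a⁻¹ * b * a) := by group
      rw [← Module.End.mul_apply, ← map_mul, h3, map_mul, Module.End.mul_apply, h2]
    have hU₂ : ∀ a : A, ∀ u ∈ U₂, ρ a u ∈ U₂ := by
      intro a u hu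
      rw [hU₂def, LinearMap.mem_ker] at hu ⊢
      rw [averageMap_apply'] at hu ⊢
      have h1 : ∑ g : ↥B, ρB g (ρ a u) = ρ a (∑ g : ↥B, ρB g u) := by
        rw [map_sum, ← Equiv.sum_comp (MulAut.conjNormal a : ↥B ≃* ↥B).toEquiv]
        refine Finset.sum_congr rfl fun b _ => ?_
        show ρ ((MulAut.conjNormal a b : ↥B) : A) (ρ a u) = ρ a (ρ (b : A) u)
        rw [MulAut.conjNormal_apply, ← Module.End.mul_apply, ← map_mul,
          ← Module.End.mul_apply, ← map_mul]
        congr 2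
        group
      rw [h1, ← map_smul, hu, map_zero]
    -- the fixed part
    have g₁ : Good (resRep ρ H) U₁ := by
      apply good_resRep_of_subRep ρ H U₁ hU₁
      apply ih (i + 1) hi' ↥U₁ (subRep ρ U₁ hU₁)
      · intro z hz
        refine LinearMap.ext fun u => Subtype.ext ?_
        show ρ z (u : V) = u
        exact (Representation.mem_invariants ρB (u : V)).mp u.2 ⟨z, hz⟩
      · intro v hv
        exact Subtype.ext (hfix v fun f hf => congrArg Subtype.val (hv f hf))
    -- the commutator part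
    have g₂ : Good (resRep ρ H) U₂ := by
      apply good_resRep_of_subRep ρ H U₂ hU₂
      apply good_of_comm (subRep ρ U₂ hU₂) H B
      · intro h _ b hb
        exact hBn.conj_mem b hb h
      · intro b hb b' hb'
        rw [← map_mul, ← map_mul]
        refine LinearMap.ext fun u => Subtype.ext ?_
        show ρ (b * b') (u : V) = ρ (b' * b) (u : V)
        rw [map_mul, map_mul, hBc b hb b' hb']
      · exact hBcard
      · intro v hv
        have h1 : (v : V) ∈ U₁ := by
          rw [hU₁def, Representation.mem_invariants]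
          intro b
          exact congrArg Subtype.val (hv b b.2)
        have h2 : (v : V) ∈ U₁ ⊓ U₂ := ⟨h1, v.2⟩
        rw [hcompl.inf_eq_bot, Submodule.mem_bot] at h2
        exact Subtype.ext h2
      · intro h hh hne b hb
        exact hfpf h hh hne b (hBF hb)
    have := good_sup (resRep ρ H) g₁ g₂ hcompl.inf_eq_bot
    rwa [hcompl.sup_eq_top] at this

/-- Freeness for a nilpotent normal subgroup of order invertible in `k`. -/
theorem good_of_nilpotent (F₁ H : Subgroup A) [hFn : F₁.Normal] (hnil : Group.IsNilpotent ↥F₁)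
    (hfpf : ∀ h ∈ H, h ≠ 1 → ∀ f ∈ F₁, h * f = f * h → f = 1)
    (hcard : (Nat.card F₁ : k) ≠ 0)
    {V : Type v} [AddCommGroup V] [Module k V] [FiniteDimensional k V]
    (ρ : Representation k A V) (hfix : ∀ v : V, (∀ f ∈ F₁, ρ f v = v) → v = 0) :
    Good (resRep ρ H) ⊤ := by
  obtain ⟨n, hn⟩ := hnil.nilpotent
  refine good_of_nilpotent_aux F₁ H hfpf hcard n 0 (by rwa [zero_add]) V ρ ?_ hfix
  intro z hz
  rw [Subgroup.upperCentralSeries_zero, Subgroup.map_bot, Subgroup.mem_bot] at hz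
  rw [hz, map_one]

end Nilpotent

section Final

theorem isInternal_of_good {k V H : Type*} [Field k] [AddCommGroup V] [Module k V]
    [FiniteDimensional k V] [Group H] [Finite H] [DecidableEq H] (τ : Representation k H V)
    (hg : Good τ ⊤) :
    ∃ W : Submodule k V, DirectSum.IsInternal (fun h : H => W.map (τ h)) := by
  obtain ⟨W, hW, hn⟩ := hg
  refine ⟨W, ?_⟩
  haveI : Fintype H := Fintype.ofFinite H
  apply DirectSum.isInternal_submodule_of_iSupIndep_of_iSup_eq_top _ hW
  rw [iSupIndep_iff_dfinsupp_lsum_injective]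
  have hsurj : Function.Surjective
      (DFinsupp.lsum ℕ (fun h : H => (W.map (τ h)).subtype) :
        (Π₀ h : H, ↥(W.map (τ h))) →ₗ[k] V) := by
    rw [← LinearMap.range_eq_top, ← Submodule.iSup_eq_range_dfinsupp_lsum, hW]
  have hfin : finrank k (Π₀ h : H, ↥(W.map (τ h))) = Nat.card H * finrank k W := by
    have h1 : finrank k (Π₀ h : H, ↥(W.map (τ h))) = ∑ h, finrank k ↥(W.map (τ h)) :=
      Module.finrank_directSum k (fun h : H => ↥(W.map (τ h)))
    rw [h1, Finset.sum_congr rfl (fun h _ => finrank_map_tau τ W h), Finset.sum_const,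
      Finset.card_univ, smul_eq_mul, Nat.card_eq_fintype_card]
  rw [finrank_top] at hn
  have h2 := LinearMap.finrank_le_finrank_of_surjective hsurj
  have heq : finrank k (Π₀ h : H, ↥(W.map (τ h))) = finrank k V := by omega
  exact (LinearMap.injective_iff_surjective_of_finrank_eq_finrank heq).mpr hsurj

/-- **Free modules for Frobenius-type actions.** -/
theorem frobenius_free {k V A : Type*} [Field k] [AddCommGroup V] [Module k V]
    [FiniteDimensional k V] [Group A] [Finite A] [DecidableEq A] (ρ : Representation k A V)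
    (Fk H : Subgroup A) [hFn : Fk.Normal] (hnil : Group.IsNilpotent ↥Fk)
    (hfpf : ∀ h ∈ H, h ≠ 1 → ∀ f ∈ Fk, h * f = f * h → f = 1)
    (hfix : ∀ v : V, (∀ f ∈ Fk, ρ f v = v) → v = 0) :
    ∃ W : Submodule k V, DirectSum.IsInternal (fun h : ↥H => W.map (ρ (h : A))) := by
  apply isInternal_of_good (resRep ρ H)
  by_cases hcard : (Nat.card Fk : k) = 0
  · -- positive characteristic dividing `|F|`
    obtain ⟨p, hpc⟩ := CharP.exists k
    have hp0 : p ≠ 0 := by
      intro h0
      subst h0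
      haveI := CharP.charP_to_charZero k
      exact Nat.card_pos.ne' (Nat.cast_eq_zero.mp hcard)
    haveI : Fact p.Prime := ⟨(CharP.char_is_prime_or_zero k p).resolve_right hp0⟩
    obtain ⟨Q, hQn, hQF, hQc, a, hQa⟩ := exists_pprime_normal Fk hnil p
    haveI := hQn
    have hQnil : Group.IsNilpotent ↥Q := by
      haveI := hnil
      have h1 : Group.IsNilpotent ↥(Q.subgroupOf Fk) := Subgroup.isNilpotent _
      exact Group.nilpotent_of_mulEquiv (Subgroup.subgroupOfEquivOfLe hQF)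
    have hQcard : (Nat.card Q : k) ≠ 0 := by
      intro h0
      rw [CharP.cast_eq_zero_iff k p] at h0
      have := Nat.Coprime.eq_one_of_dvd hQc.symm h0
      exact (Fact.out : p.Prime).one_lt.ne' this
    apply good_of_nilpotent Q H hQnil (fun h hh hne f hf => hfpf h hh hne f (hQF hf)) hQcard ρ
    -- no fixed vectors for `Q`
    intro v hv
    by_contra hv0
    set U : Submodule k V := (resRep ρ Q).invariants with hU
    have hvU : v ∈ U := by
      rw [hU, Representation.mem_invariants]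
      intro q
      exact hv q q.2
    have hUne : U ≠ ⊥ := fun h => hv0 (by rw [h, Submodule.mem_bot] at hvU; exact hvU)
    have hUF : ∀ g ∈ Fk, ∀ u ∈ U, ρ g u ∈ U := by
      intro g _ u hu
      rw [hU, Representation.mem_invariants] at hu ⊢
      intro q
      have h1 : ρ (g⁻¹ * q * g) u = u := hu ⟨g⁻¹ * q * g, hQn.conj_mem' q q.2 g⟩
      show ρ (q : A) (ρ g u) = ρ g u
      have h3 : (q : A) * g = g * (g⁻¹ * q * g) := by group
      rw [← Module.End.mul_apply, ← map_mul, h3, map_mul, Module.End.mul_apply, h1]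
    obtain ⟨w, hwU, hw0, hw⟩ := exists_fixed_of_pow_trivial (p := p) ρ Fk U hUF hUne (by
      intro g hg
      refine ⟨a, fun u hu => ?_⟩
      rw [hU, Representation.mem_invariants] at hu
      exact hu ⟨g ^ p ^ a, hQa g hg⟩)
    exact hw0 (hfix w hw)
  · exact good_of_nilpotent Fk H hnil hfpf hcard ρ hfix

end Final

end Cfsg.Agent.Helper55.FrobFree
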