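import Mathlib
import Cfsg.Agent.Lib.Helper55.BGBasic

/-!
# Cyclic `Z = A ⊔ B`: prime-order subgroups inside `⟨z⟩`, rigidity under conjugation
-/

set_option autoImplicit false

namespace Cfsg.Agent.Helper55.BGB

open Subgroup Cfsg

variable {G : Type*} [Group G]

theorem commute_of_isCyclic {Z : Subgroup G} (hcyc : IsCyclic Z) {x y : G} (hx : x ∈ Z) (hy : y ∈ Z) :
    x * y = y * x := by
  haveI := hcyc
  have h := (IsCyclic.commGroup (α := Z)).mul_comm ⟨x, hx⟩ ⟨y, hy⟩
  exact congrArg Subtype.val h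

/-- In a commutative `A ⊔ B` every element is killed by `|A| * |B|`. -/
theorem pow_card_mul_card_eq_one [Finite G] {A B : Subgroup G} (hcyc : IsCyclic ↥(A ⊔ B)) {z : G}
    (hz : z ∈ A ⊔ B) : z ^ (Nat.card A * Nat.card B) = 1 := by
  set m := Nat.card A * Nat.card B with hm
  let T : Subgroup G :=
    { carrier := {x | x ∈ A ⊔ B ∧ x ^ m = 1}
      one_mem' := ⟨one_mem _, one_pow _⟩
      mul_mem' := by
        rintro x y ⟨hx, hx1⟩ ⟨hy, hy1⟩
        refine ⟨mul_mem hx hy, ?_⟩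
        have hc : Commute x y := commute_of_isCyclic hcyc hx hy
        rw [hc.mul_pow, hx1, hy1, one_mul]
      inv_mem' := by
        rintro x ⟨hx, hx1⟩
        exact ⟨inv_mem hx, by rw [inv_pow, hx1, inv_one]⟩ }
  have hA : A ≤ T := by
    intro a ha
    refine ⟨le_sup_left (a := A) (b := B) ha, ?_⟩
    have h1 : a ^ Nat.card A = 1 := by
      have := pow_card_eq_one' (G := A) (x := ⟨a, ha⟩)
      exact congrArg Subtype.val this
    rw [hm, pow_mul, h1, one_pow]
  have hB : B ≤ T := by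
    intro b hb
    refine ⟨le_sup_right (a := A) (b := B) hb, ?_⟩
    have h1 : b ^ Nat.card B = 1 := by
      have := pow_card_eq_one' (G := B) (x := ⟨b, hb⟩)
      exact congrArg Subtype.val this
    rw [hm, mul_comm, pow_mul, h1, one_pow]
  exact ((sup_le hA hB) hz).2

/-- If `A ⊔ B` is cyclic and `z ∈ A ⊔ B` is not in `A`, then `⟨z⟩` contains a subgroup of prime order of `B`. -/
theorem exists_prime_sub [Finite G] {A B : Subgroup G} (hcyc : IsCyclic ↥(A ⊔ B)) {z : G}
    (hz : z ∈ A ⊔ B) (hzA : z ∉ A) :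
    ∃ X : Subgroup G, X ≤ B ∧ X ≤ zpowers z ∧ (Nat.card X).Prime := by
  set w := z ^ Nat.card A with hw
  have hwZ : w ∈ A ⊔ B := pow_mem hz _
  have hw1 : w ≠ 1 := by
    intro h
    exact hzA (Cfsg.Agent.Helper23.mem_of_pow_card_eq_one_of_isCyclic (A ⊔ B) A hcyc le_sup_left hz h)
  have hwB : w ∈ B := by
    refine Cfsg.Agent.Helper23.mem_of_pow_card_eq_one_of_isCyclic (A ⊔ B) B hcyc le_sup_right hwZ ?_
    rw [hw, ← pow_mul]
    exact pow_card_mul_card_eq_one hcyc hz
  have hord : orderOf w ≠ 1 := by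
    intro h; exact hw1 (orderOf_eq_one_iff.mp h)
  obtain ⟨q, hq, hqd⟩ := Nat.exists_prime_and_dvd hord
  have hord0 : orderOf w ≠ 0 := (orderOf_pos w).ne'
  set x := w ^ (orderOf w / q) with hx
  have hxo : orderOf x = q := orderOf_pow_orderOf_div hord0 hqd
  refine ⟨zpowers x, ?_, ?_, ?_⟩
  · rw [zpowers_le]; exact pow_mem hwB _
  · rw [zpowers_le]
    rw [hx, hw, ← pow_mul]
    exact pow_mem (mem_zpowers z) _
  · rw [Nat.card_zpowers, hxo]; exact hq

/-- Subgroups of a cyclic subgroup are rigid under conjugations keeping them inside. -/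
theorem map_conj_eq_of_le_cyclic [Finite G] {Z X : Subgroup G} (hcyc : IsCyclic Z) (hX : X ≤ Z) (g : G)
    (hg : X.map (MulAut.conj g).toMonoidHom ≤ Z) : X.map (MulAut.conj g).toMonoidHom = X := by
  haveI := hcyc
  refine Cfsg.Agent.Helper76.EqOrd.eq_of_card_eq_of_le_isCyclic Z _ _ hg hX ?_
  exact Subgroup.card_map_of_injective (MulAut.conj g).injective

theorem mem_normalizer_of_map_conj_eq {X : Subgroup G} {g : G}
    (h : X.map (MulAut.conj g).toMonoidHom = X) : g ∈ normalizer (X : Set G) := by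
  rw [mem_normalizer_iff_map_conj_eq]
  exact h

/-- conjugation sends `⟨z⟩` to `⟨g z g⁻¹⟩`. -/
theorem map_conj_le_zpowers {X : Subgroup G} {z : G} (hX : X ≤ zpowers z) (g : G) :
    X.map (MulAut.conj g).toMonoidHom ≤ zpowers (g * z * g⁻¹) := by
  rintro _ ⟨x, hx, rfl⟩
  obtain ⟨k, rfl⟩ := mem_zpowers_iff.mp (hX hx)
  rw [mem_zpowers_iff]
  refine ⟨k, ?_⟩
  simp only [MulEquiv.coe_toMonoidHom, MulAut.conj_apply]
  rw [conj_zpow]

end Cfsg.Agent.Helper55.BGB
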