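import Mathlib

set_option autoImplicit false

/-!
# Tools for counting Hall subgroups (P. Hall 1928)
-/

namespace Cfsg.Agent.Helper55.HallCount

open Pointwise

/-- A nontrivial finite solvable group has a proper normal subgroup of prime power index. -/
theorem exists_normal_prime_power_index {X : Type*} [Group X] [Finite X] [Group.IsSolvable X]
    [Nontrivial X] :
    ∃ (X₁ : Subgroup X) (q a : ℕ), X₁.Normal ∧ q.Prime ∧ 1 ≤ a ∧ X₁.index = q ^ a := by
  classical
  have hlt : commutator X < ⊤ := Group.IsSolvable.commutator_lt_top_of_nontrivial X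
  have hcardA : Nat.card (Abelianization X) ≠ 1 := by
    intro h
    have h1 : (commutator X).index = 1 := by
      rw [Subgroup.index_eq_card]; exact h
    exact hlt.ne (Subgroup.index_eq_one.mp h1)
  obtain ⟨q, hq, hqdvd⟩ := Nat.exists_prime_and_dvd hcardA
  haveI : Fact q.Prime := ⟨hq⟩
  have hApos : Nat.card (Abelianization X) ≠ 0 := Nat.card_pos.ne'
  obtain ⟨v, s, hs, hvs⟩ := Nat.exists_eq_pow_mul_and_not_dvd hApos q hq.ne_one
  set ψ : X →* Abelianization X :=
    (powMonoidHom s : Abelianization X →* Abelianization X).comp Abelianization.of with hψ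
  have hpg : IsPGroup q ↥ψ.range := by
    rintro ⟨y, x, rfl⟩
    refine ⟨v, Subtype.ext ?_⟩
    show (ψ x) ^ q ^ v = 1
    rw [hψ, MonoidHom.comp_apply, powMonoidHom_apply, ← pow_mul, mul_comm, ← hvs]
    exact pow_card_eq_one'
  obtain ⟨a, ha⟩ := IsPGroup.iff_card.mp hpg
  obtain ⟨a₀, ha₀⟩ := exists_prime_orderOf_dvd_card' (G := Abelianization X) q hqdvd
  obtain ⟨x₀, rfl⟩ := QuotientGroup.mk_surjective a₀
  have hne : ψ x₀ ≠ 1 := by
    intro h
    rw [hψ, MonoidHom.comp_apply, powMonoidHom_apply] at h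
    have h1 := orderOf_dvd_of_pow_eq_one h
    have h2 : orderOf (Abelianization.of x₀) = q := ha₀
    rw [h2] at h1
    exact hs h1
  refine ⟨ψ.ker, q, a, inferInstance, hq, ?_, ?_⟩
  · by_contra h0
    have h00 : a = 0 := by omega
    rw [h00, pow_zero] at ha
    have h1 : (⟨ψ x₀, x₀, rfl⟩ : ↥ψ.range) = 1 := by
      haveI : Subsingleton ↥ψ.range := (Nat.card_eq_one_iff_unique.mp ha).1
      exact Subsingleton.elim _ _
    exact hne (congrArg Subtype.val h1)
  · rw [Subgroup.index_ker, ha]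

/-- `conj g • H = H` iff `g` normalises `H`. -/
theorem conj_smul_eq_self_iff {G : Type*} [Group G] (H : Subgroup G) (g : G) :
    MulAut.conj g • H = H ↔ g ∈ Subgroup.normalizer (H : Set G) := by
  rw [Subgroup.mem_normalizer_iff]
  constructor
  · intro h x
    constructor
    · intro hx
      have : MulAut.conj g • x ∈ MulAut.conj g • H := Subgroup.smul_mem_pointwise_smul _ _ _ hx
      rw [h] at this
      simpa using this
    · intro hx
      have h1 : g * x * g⁻¹ ∈ MulAut.conj g • H := by rw [h]; exact hx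
      have h2 : g * x * g⁻¹ = MulAut.conj g • x := by simp
      rw [h2, Subgroup.smul_mem_pointwise_smul_iff] at h1
      exact h1
  · intro h
    ext x
    rw [Subgroup.mem_pointwise_smul_iff_inv_smul_mem]
    have h1 : (MulAut.conj g)⁻¹ • x = g⁻¹ * x * g := by
      rw [← map_inv]; simp
    rw [h1, h (g⁻¹ * x * g)]
    have h2 : g * (g⁻¹ * x * g) * g⁻¹ = x := by group
    rw [h2]

/-- If all subgroups of order `m` are conjugate to `H₀`, their number is the index of the
normaliser of `H₀`. -/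
theorem card_subgroups_eq_index_normalizer {G : Type*} [Group G] [Finite G] (H₀ : Subgroup G)
    (m : ℕ) (hH₀ : Nat.card H₀ = m)
    (hconj : ∀ H : Subgroup G, Nat.card H = m → ∃ g : G, MulAut.conj g • H₀ = H) :
    Nat.card {H : Subgroup G // Nat.card H = m} =
      (Subgroup.normalizer (H₀ : Set G)).index := by
  classical
  letI : MulAction G (Subgroup G) := MulAction.compHom (Subgroup G) (MulAut.conj : G →* MulAut G)
  have hsmul : ∀ (g : G) (H : Subgroup G), g • H = MulAut.conj g • H := fun _ _ => rfl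
  have hstab : MulAction.stabilizer G H₀ = Subgroup.normalizer (H₀ : Set G) := by
    ext g
    rw [MulAction.mem_stabilizer_iff, hsmul, conj_smul_eq_self_iff]
  have horb : MulAction.orbit G H₀ = {H : Subgroup G | Nat.card H = m} := by
    ext H
    constructor
    · rintro ⟨g, rfl⟩
      show Nat.card ↥(MulAut.conj g • H₀) = m
      rw [← hH₀]
      exact (Nat.card_congr (Subgroup.equivSMul (MulAut.conj g) H₀).toEquiv).symm
    · intro hH
      obtain ⟨g, hg⟩ := hconj H hH
      exact ⟨g, hg⟩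
  rw [← hstab, MulAction.index_stabilizer, horb, ← Nat.card_coe_set_eq]
  rfl

/-- Index of `H` in `H ⊔ K` for `K` normal. -/
theorem relIndex_sup_self_left {G : Type*} [Group G] [Finite G] (H K : Subgroup G) [K.Normal] :
    H.relIndex (H ⊔ K) = H.relIndex K := by
  have e1 := Subgroup.relIndex_mul_relIndex ⊥ H (H ⊔ K) bot_le le_sup_left
  have e2 := Subgroup.relIndex_mul_relIndex ⊥ K (H ⊔ K) bot_le le_sup_right
  have e3 := Subgroup.relIndex_mul_relIndex ⊥ (K ⊓ H) H bot_le inf_le_right
  have e4 := Subgroup.relIndex_mul_relIndex ⊥ (H ⊓ K) K bot_le inf_le_right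
  rw [Subgroup.relIndex_bot_left, Subgroup.relIndex_bot_left] at e1 e2 e3 e4
  rw [Subgroup.relIndex_sup_right] at e2
  rw [Subgroup.inf_relIndex_right] at e3 e4
  rw [inf_comm] at e3
  -- e1 : card H * H.relIndex (H ⊔ K) = card (H ⊔ K)
  -- e2 : card K * K.relIndex H = card (H ⊔ K)
  -- e3 : card (H ⊓ K) * K.relIndex H = card H
  -- e4 : card (H ⊓ K) * H.relIndex K = card K
  have hc : 0 < Nat.card ↥(H ⊓ K) := Nat.card_pos
  have hr : 0 < K.relIndex H := by
    rcases Nat.eq_zero_or_pos (K.relIndex H) with h | h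
    · rw [h, mul_zero] at e3
      exact absurd e3.symm Nat.card_pos.ne'
    · exact h
  have h5 : Nat.card ↥(H ⊓ K) * K.relIndex H * H.relIndex (H ⊔ K) =
      Nat.card ↥(H ⊓ K) * K.relIndex H * H.relIndex K := by
    calc Nat.card ↥(H ⊓ K) * K.relIndex H * H.relIndex (H ⊔ K)
        = Nat.card ↥H * H.relIndex (H ⊔ K) := by rw [e3]
      _ = Nat.card ↥(H ⊔ K) := e1
      _ = Nat.card ↥K * K.relIndex H := e2.symm
      _ = Nat.card ↥(H ⊓ K) * H.relIndex K * K.relIndex H := by rw [e4]
      _ = Nat.card ↥(H ⊓ K) * K.relIndex H * H.relIndex K := by ring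
  exact Nat.eq_of_mul_eq_mul_left (Nat.mul_pos hc hr) h5

/-- If `H₁ ≤ H` has `q`-power index and centralises the `p`-group `B` normalised by `H`, then
`|B : C_B(H)| ≡ 1 (mod q)`. -/
theorem relIndex_centralizer_modEq_one {G : Type*} [Group G] [Finite G] (B H H₁ : Subgroup G)
    (q a p j : ℕ) (hq : q.Prime) (hp : p.Prime) (hpq : p ≠ q) (hB : Nat.card B = p ^ j)
    (hH₁ : H₁ ≤ H) (hidx : H₁.relIndex H = q ^ a)
    (hnorm : ∀ h ∈ H, ∀ b ∈ B, h * b * h⁻¹ ∈ B)
    (hcent : ∀ h ∈ H₁, ∀ b ∈ B, h * b = b * h) :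
    (B ⊓ Subgroup.centralizer (H : Set G)).relIndex B ≡ 1 [MOD q] := by
  classical
  haveI : Fact q.Prime := ⟨hq⟩
  letI : MulAction ↥H ↥B :=
    { smul := fun h b => ⟨(h : G) * (b : G) * (h : G)⁻¹, hnorm h h.2 b b.2⟩
      one_smul := fun b => Subtype.ext (by
        show ((1 : ↥H) : G) * (b : G) * ((1 : ↥H) : G)⁻¹ = b
        simp)
      mul_smul := fun g h b => Subtype.ext (by
        show ((g * h : ↥H) : G) * (b : G) * ((g * h : ↥H) : G)⁻¹ =
          (g : G) * ((h : G) * (b : G) * (h : G)⁻¹) * (g : G)⁻¹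
        simp [mul_assoc]) }
  have hsmul : ∀ (h : ↥H) (b : ↥B), ((h • b : ↥B) : G) = (h : G) * (b : G) * (h : G)⁻¹ :=
    fun _ _ => rfl
  obtain ⟨Q⟩ : Nonempty (Sylow q ↥H) := inferInstance
  have hfix : ∀ b : ↥B, b ∈ MulAction.fixedPoints ↥(Q : Subgroup ↥H) ↥B → ∀ h : ↥H, h • b = b := by
    intro b hb h
    have h1 : H₁.subgroupOf H ≤ MulAction.stabilizer ↥H b := by
      intro x hx
      rw [MulAction.mem_stabilizer_iff]
      apply Subtype.ext
      rw [hsmul]
      have h0 := hcent x (Subgroup.mem_subgroupOf.mp hx) b b.2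
      rw [h0, mul_assoc, mul_inv_cancel, mul_one]
    have h2 : (Q : Subgroup ↥H) ≤ MulAction.stabilizer ↥H b := by
      intro x hx
      rw [MulAction.mem_stabilizer_iff]
      exact hb ⟨x, hx⟩
    have h3 : (MulAction.stabilizer ↥H b).index ∣ q ^ a := by
      have h0 := Subgroup.index_dvd_of_le h1
      rw [← hidx]
      exact h0
    have h4 : (MulAction.stabilizer ↥H b).index ∣ (Q : Subgroup ↥H).index :=
      Subgroup.index_dvd_of_le h2
    have h5 : ¬ q ∣ (Q : Subgroup ↥H).index := Q.not_dvd_index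
    have h6 : (MulAction.stabilizer ↥H b).index = 1 := by
      obtain ⟨k, _, hk'⟩ := (Nat.dvd_prime_pow hq).mp h3
      rcases Nat.eq_zero_or_pos k with hk0 | hkpos
      · rw [hk', hk0, pow_zero]
      · exfalso
        apply h5
        have h0 : q ∣ (MulAction.stabilizer ↥H b).index := by
          rw [hk']; exact dvd_pow_self q hkpos.ne'
        exact h0.trans h4
    have h7 := Subgroup.index_eq_one.mp h6
    have h8 : h ∈ MulAction.stabilizer ↥H b := by rw [h7]; trivial
    exact MulAction.mem_stabilizer_iff.mp h8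
  have hmod := Q.isPGroup'.card_modEq_card_fixedPoints ↥B
  -- identify the fixed points
  have hcardfix : Nat.card (MulAction.fixedPoints ↥(Q : Subgroup ↥H) ↥B) =
      Nat.card ↥(B ⊓ Subgroup.centralizer (H : Set G)) := by
    apply Nat.card_congr
    refine ⟨fun b => ⟨(b.1 : G), b.1.2, ?_⟩, fun c => ⟨⟨c.1, c.2.1⟩, ?_⟩, ?_, ?_⟩
    · show (b.1 : G) ∈ Subgroup.centralizer (H : Set G)
      rw [Subgroup.mem_centralizer_iff]
      intro h hh
      have h0 := congrArg Subtype.val (hfix b.1 b.2 ⟨h, hh⟩)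
      rw [hsmul] at h0
      exact mul_inv_eq_iff_eq_mul.mp h0
    · intro x
      apply Subtype.ext
      show ((x : ↥H) : G) * (c.1 : G) * ((x : ↥H) : G)⁻¹ = c.1
      have h0 := (Subgroup.mem_centralizer_iff.mp c.2.2) ((x : ↥H) : G) (x : ↥H).2
      rw [h0, mul_assoc, mul_inv_cancel, mul_one]
    · intro b; rfl
    · intro c; rfl
  rw [hcardfix] at hmod
  set C := B ⊓ Subgroup.centralizer (H : Set G) with hC
  have hCB : C ≤ B := inf_le_left
  have e1 := Subgroup.relIndex_mul_relIndex ⊥ C B bot_le hCB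
  rw [Subgroup.relIndex_bot_left, Subgroup.relIndex_bot_left] at e1
  -- e1 : card C * C.relIndex B = card B
  have hcop : Nat.gcd q (Nat.card ↥C) = 1 := by
    have hdvd : Nat.card ↥C ∣ p ^ j := by rw [← hB, ← e1]; exact Dvd.intro _ rfl
    have h0 : Nat.Coprime q (p ^ j) :=
      Nat.Coprime.pow_right j ((Nat.coprime_primes hq hp).mpr (Ne.symm hpq))
    exact Nat.Coprime.coprime_dvd_right hdvd h0
  have h9 : Nat.card ↥C * C.relIndex B ≡ Nat.card ↥C * 1 [MOD q] := by
    rw [e1, mul_one]; exact hmod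
  exact Nat.ModEq.cancel_left_of_coprime hcop h9

/-- Factorisation of `|K : C_K(H)|` for a solvable `p'`-group `H` acting on a normal
`p`-subgroup `K`. -/
theorem factor_centralizer_index {G : Type*} [Group G] [Finite G] (K : Subgroup G) [K.Normal]
    (p i : ℕ) (hp : p.Prime) (hK : Nat.card K = p ^ i) :
    ∀ (n : ℕ) (H : Subgroup G), Nat.card H = n → Group.IsSolvable ↥H → ¬ p ∣ Nat.card H →
      ∃ l : List ℕ, (K ⊓ Subgroup.centralizer (H : Set G)).relIndex K = l.prod ∧
        ∀ x ∈ l, (∃ e, x = p ^ e) ∧ x ∣ Nat.card K ∧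
          ∃ q : ℕ, q.Prime ∧ q ∣ Nat.card H ∧ x ≡ 1 [MOD q] := by
  intro n
  induction n using Nat.strong_induction_on with
  | _ n ih =>
  intro H hn hsol hpH
  by_cases hH : H = ⊥
  · refine ⟨[], ?_, by simp⟩
    rw [hH, List.prod_nil, Subgroup.relIndex_eq_one]
    intro k hk
    refine ⟨hk, ?_⟩
    show k ∈ Subgroup.centralizer ((⊥ : Subgroup G) : Set G)
    rw [Subgroup.mem_centralizer_iff]
    intro h hh
    rw [Subgroup.coe_bot, Set.mem_singleton_iff] at hh
    rw [hh, one_mul, mul_one]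
  · haveI : Nontrivial ↥H := (Subgroup.nontrivial_iff_ne_bot H).mpr hH
    haveI := hsol
    obtain ⟨X₁, q, a, hX₁n, hq, ha1, hX₁idx⟩ := exists_normal_prime_power_index (X := ↥H)
    set H₁ : Subgroup G := X₁.map H.subtype with hH₁def
    have hH₁le : H₁ ≤ H := Subgroup.map_subtype_le X₁
    have hsub : H₁.subgroupOf H = X₁ := by
      rw [hH₁def, Subgroup.subgroupOf, Subgroup.comap_map_eq_self_of_injective H.subtype_injective]
    have hrel : H₁.relIndex H = q ^ a := by
      rw [Subgroup.relIndex, hsub, hX₁idx]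
    have hqH : q ∣ Nat.card ↥H := by
      have e := Subgroup.relIndex_mul_relIndex ⊥ H₁ H bot_le hH₁le
      rw [Subgroup.relIndex_bot_left, Subgroup.relIndex_bot_left, hrel] at e
      rw [← e]
      exact Dvd.dvd.mul_left (dvd_pow_self q (by omega)) _
    have hpq : p ≠ q := by
      rintro rfl
      exact hpH hqH
    have hcard₁ : Nat.card ↥H₁ * q ^ a = Nat.card ↥H := by
      have e := Subgroup.relIndex_mul_relIndex ⊥ H₁ H bot_le hH₁le
      rw [Subgroup.relIndex_bot_left, Subgroup.relIndex_bot_left, hrel] at e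
      exact e
    have hlt : Nat.card ↥H₁ < n := by
      rw [← hn, ← hcard₁]
      have h1 : 0 < Nat.card ↥H₁ := Nat.card_pos
      have h2 : 2 ≤ q ^ a := by
        calc 2 ≤ q := hq.two_le
          _ = q ^ 1 := (pow_one q).symm
          _ ≤ q ^ a := Nat.pow_le_pow_right hq.pos ha1
      nlinarith
    have hsol₁ : Group.IsSolvable ↥H₁ :=
      Group.isSolvable_of_isSolvable_injective (Subgroup.inclusion_injective hH₁le)
    have hpH₁ : ¬ p ∣ Nat.card ↥H₁ := fun h => hpH (by rw [← hcard₁]; exact Dvd.dvd.mul_right h _)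
    obtain ⟨l₁, hl₁, hgood₁⟩ := ih _ hlt H₁ rfl hsol₁ hpH₁
    -- normality of `H₁` in `H`
    have hnormal : ∀ h ∈ H, ∀ x ∈ H₁, h⁻¹ * x * h ∈ H₁ := by
      intro h hh x hx
      have hx' : (⟨x, hH₁le hx⟩ : ↥H) ∈ X₁ := by
        rw [← hsub]; exact Subgroup.mem_subgroupOf.mpr hx
      have h1 := hX₁n.conj_mem _ hx' (⟨h, hh⟩ : ↥H)⁻¹
      rw [← hsub] at h1
      have h2 := Subgroup.mem_subgroupOf.mp h1
      simpa using h2
    set B := K ⊓ Subgroup.centralizer (H₁ : Set G) with hBdef
    have hBK : B ≤ K := inf_le_left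
    have hCB : K ⊓ Subgroup.centralizer (H : Set G) ≤ B := by
      apply le_inf inf_le_left
      exact inf_le_right.trans (Subgroup.centralizer_le hH₁le)
    have hCeq : B ⊓ Subgroup.centralizer (H : Set G) = K ⊓ Subgroup.centralizer (H : Set G) := by
      apply le_antisymm
      · exact le_inf (inf_le_left.trans hBK) inf_le_right
      · exact le_inf hCB inf_le_right
    -- `B` is a `p`-group
    obtain ⟨j, hj⟩ : ∃ j, Nat.card ↥B = p ^ j := by
      have e := Subgroup.relIndex_mul_relIndex ⊥ B K bot_le hBK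
      rw [Subgroup.relIndex_bot_left, Subgroup.relIndex_bot_left, hK] at e
      obtain ⟨j, _, hj⟩ := (Nat.dvd_prime_pow hp).mp (Dvd.intro _ e)
      exact ⟨j, hj⟩
    have hmodeq := relIndex_centralizer_modEq_one B H H₁ q a p j hq hp hpq hj hH₁le hrel
      (by
        intro h hh b hb
        refine ⟨(inferInstance : K.Normal).conj_mem b hb.1 h, ?_⟩
        show h * b * h⁻¹ ∈ Subgroup.centralizer (H₁ : Set G)
        rw [Subgroup.mem_centralizer_iff]
        intro x hx
        have h1 := (Subgroup.mem_centralizer_iff.mp hb.2) (h⁻¹ * x * h) (hnormal h hh x hx)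
        calc x * (h * b * h⁻¹) = h * ((h⁻¹ * x * h) * b) * h⁻¹ := by group
          _ = h * (b * (h⁻¹ * x * h)) * h⁻¹ := by rw [h1]
          _ = h * b * h⁻¹ * x := by group)
      (by
        intro h hh b hb
        exact (Subgroup.mem_centralizer_iff.mp hb.2) h hh)
    rw [hCeq] at hmodeq
    set t := (K ⊓ Subgroup.centralizer (H : Set G)).relIndex B with ht
    have hprod : (K ⊓ Subgroup.centralizer (H : Set G)).relIndex K = t * B.relIndex K :=
      (Subgroup.relIndex_mul_relIndex _ B K hCB hBK).symm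
    have htdvd : t ∣ Nat.card ↥K := by
      have e1 := Subgroup.relIndex_mul_relIndex ⊥ (K ⊓ Subgroup.centralizer (H : Set G)) K bot_le
        inf_le_left
      rw [Subgroup.relIndex_bot_left, Subgroup.relIndex_bot_left, hprod] at e1
      rw [← e1]
      exact Dvd.dvd.mul_left (Dvd.intro _ rfl) _
    have htpow : ∃ e, t = p ^ e := by
      rw [hK] at htdvd
      obtain ⟨e, _, he⟩ := (Nat.dvd_prime_pow hp).mp htdvd
      exact ⟨e, he⟩
    refine ⟨t :: l₁, ?_, ?_⟩
    · rw [List.prod_cons, hprod, hl₁]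
    · intro x hx
      rw [List.mem_cons] at hx
      rcases hx with rfl | hx
      · exact ⟨htpow, htdvd, q, hq, hqH, hmodeq⟩
      · obtain ⟨h1, h2, q', hq', hq'd, hq'm⟩ := hgood₁ x hx
        refine ⟨h1, h2, q', hq', ?_, hq'm⟩
        rw [← hcard₁]
        exact Dvd.dvd.mul_right hq'd _

end Cfsg.Agent.Helper55.HallCount
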