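import Mathlib

/-!
# Order 2520: shared definitions of the lemma server `O2520` (row S0984)
-/

set_option autoImplicit false

namespace Cfsg.Agent.Helper55.O2520

universe u

/-- SUCCESS: the group has a subgroup of order `360` (index `7` when `|G| = 2520`). -/
def Done (G : Type u) [Group G] : Prop := ∃ K : Subgroup G, Nat.card K = 360

/-- The main local configuration: `P` elementary abelian of order `9`, `u` of order `4`
normalizing `P` with `u ^ 2` inverting `P`, `w` an involution inverting `u`, and the four
involutions `w * u ^ k` of the dihedral group `⟨u, w⟩` all conjugate to `u ^ 2`. -/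
structure Config {G : Type u} [Group G] (P : Subgroup G) (u w : G) : Prop where
  cardP : Nat.card P = 9
  expP : ∀ x ∈ P, x ^ 3 = 1
  ordu : orderOf u = 4
  norm : ∀ x ∈ P, u * x * u⁻¹ ∈ P
  inv : ∀ x ∈ P, u ^ 2 * x * (u ^ 2)⁻¹ = x⁻¹
  ordw : orderOf w = 2
  wu : w * u * w⁻¹ = u⁻¹
  conj : ∀ k : ℕ, IsConj (w * u ^ k) (u ^ 2)

end Cfsg.Agent.Helper55.O2520
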