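import Mathlib

set_option autoImplicit false

/-!
# Centralizers in generalized quaternion groups
-/

namespace Cfsg.Agent.Helper55.QuatCent

open QuaternionGroup

/-- In `ZMod (2n)`, `2j = 0` implies `j = 0 ∨ j = n`. -/
theorem zmod_two_mul_eq_zero {n : ℕ} [NeZero n] (j : ZMod (2 * n)) (h : 2 * j = 0) :
    j = 0 ∨ j = (n : ZMod (2 * n)) := by
  have hn : 0 < n := NeZero.pos n
  have hj := ZMod.val_lt j
  have h1 : ((2 * j.val : ℕ) : ZMod (2 * n)) = 0 := by
    push_cast
    rw [ZMod.natCast_zmod_val]
    exact h
  rw [ZMod.natCast_eq_zero_iff] at h1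
  have h2 : n ∣ j.val := (Nat.mul_dvd_mul_iff_left two_pos).mp h1
  obtain ⟨c, hc⟩ := h2
  have hc01 : c = 0 ∨ c = 1 := by
    have : n * c < n * 2 := by rw [← hc]; omega
    have := Nat.lt_of_mul_lt_mul_left this
    omega
  rcases hc01 with rfl | rfl
  · left
    rw [← ZMod.natCast_zmod_val j, hc]
    simp
  · right
    rw [← ZMod.natCast_zmod_val j, hc]
    simp

theorem two_n_eq_zero {n : ℕ} : ((n : ZMod (2 * n)) + n) = 0 := by
  have : ((2 * n : ℕ) : ZMod (2 * n)) = 0 := ZMod.natCast_self _
  rw [← this]
  push_cast
  ring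

/-- The centralizer of a non-central element of a generalized quaternion group lies in a cyclic
subgroup. -/
theorem exists_zpowers_of_noncentral {n : ℕ} [NeZero n] (q : QuaternionGroup n)
    (hq : q ∉ Subgroup.center (QuaternionGroup n)) :
    ∃ g : QuaternionGroup n, ∀ y, y * q = q * y → y ∈ Subgroup.zpowers g := by
  rcases q with i | i
  · refine ⟨a 1, ?_⟩
    rintro (j | j) hy
    · rw [← ZMod.natCast_zmod_val j, ← a_one_pow]
      exact Subgroup.npow_mem_zpowers _ _
    · exfalso
      apply hq
      rw [xa_mul_a, a_mul_xa] at hy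
      have hy' : j + i = j - i := by injection hy
      have h2i : i = -i := by linear_combination hy'
      rw [Subgroup.mem_center_iff]
      rintro (l | l)
      · rw [a_mul_a, a_mul_a, add_comm]
      · rw [xa_mul_a, a_mul_xa]
        congr 1
        rw [sub_eq_add_neg, ← h2i]
  · refine ⟨xa i, ?_⟩
    rintro (j | j) hy
    · rw [a_mul_xa, xa_mul_a] at hy
      have hy' : i - j = i + j := by injection hy
      have h2j : 2 * j = 0 := by linear_combination (-1 : ZMod (2 * n)) * hy'
      rcases zmod_two_mul_eq_zero j h2j with rfl | rfl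
      · rw [a_zero]; exact one_mem _
      · rw [← xa_sq i]; exact Subgroup.npow_mem_zpowers _ _
    · rw [xa_mul_xa, xa_mul_xa] at hy
      have hy' : (n : ZMod (2 * n)) + i - j = n + j - i := by injection hy
      have h2 : 2 * (j - i) = 0 := by linear_combination (-1 : ZMod (2 * n)) * hy'
      rcases zmod_two_mul_eq_zero (j - i) h2 with h | h
      · have : j = i := sub_eq_zero.mp h
        rw [this]; exact Subgroup.mem_zpowers _
      · have hj : j = i + n := by rw [← h]; ring
        have h3 : (xa i : QuaternionGroup n) ^ 3 = xa j := by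
          rw [pow_succ, xa_sq, a_mul_xa, hj]
          congr 1
          have := two_n_eq_zero (n := n)
          have e : i + (n : ZMod (2 * n)) = i - n + (n + n) := by ring
          rw [e, this, add_zero]
        rw [← h3]; exact Subgroup.npow_mem_zpowers _ _

end Cfsg.Agent.Helper55.QuatCent
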