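import Mathlib
import Cfsg.Agent.S1446
import Cfsg.Agent.S0586
import Cfsg.Agent.Lib.Helper52.Coprime
import Cfsg.Agent.Lib.Helper20.BG13A
import Cfsg.Agent.Lib.Helper24.CharSub
import Cfsg.Agent.Lib.Helper46.PCore
import Cfsg.Agent.Lib.Helper55.Cores
import Cfsg.Agent.Lib.Helper55.BGFit
import Cfsg.Prelude.Def_Amalgam

/-!
# Frobenius actions on sections (BG chain)

`frob_section`: the landed S1446 (B-G Thm 3.10) applied to a section `V / P`.
`centralizes_of_fpf`: a Frobenius group `D K` acting coprimely on a nilpotent group `A` on which every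
non-identity element of `K` is fixed-point-free: then `D` centralizes `A`.
-/

set_option autoImplicit false

namespace Cfsg.Agent.Helper55.BGFrob

open Subgroup
open scoped commutatorElement

variable {X : Type*} [Group X]

theorem frob_section [Finite X] (D K V P : Subgroup X)
    (hD1 : D ≠ ⊥) (hK1 : K ≠ ⊥) (hDK : D ⊓ K = ⊥) (hKD : K ≤ normalizer (D : Set X))
    (hfrob : ∀ r ∈ K, r ≠ 1 → D ⊓ centralizer ({r} : Set X) = ⊥)
    (hsolv : Group.IsSolvable ↥(D ⊔ K)) (hodd : Odd (Nat.card ↥(D ⊔ K)))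
    (hPV : P ≤ V) (hPn : V ≤ normalizer (P : Set X))
    (hVn : Group.IsNilpotent V)
    (hDV : D ≤ normalizer (V : Set X)) (hKV : K ≤ normalizer (V : Set X))
    (hDP : D ≤ normalizer (P : Set X)) (hKP : K ≤ normalizer (P : Set X))
    (hcop : (Nat.card ↥(D ⊔ K)).Coprime (Nat.card V))
    (hCD : V ⊓ centralizer (D : Set X) ≤ P)
    (hpr : ∀ x ∈ K, x ≠ 1 → V ⊓ centralizer ({x} : Set X) = V ⊓ centralizer (K : Set X))
    (hne : ¬ V ≤ P) :
    (Nat.card K).Prime ∧ ∃ c : ℕ, c ∣ Nat.card ↥(V ⊓ centralizer (K : Set X)) ∧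
      (V ⊓ centralizer (K : Set X) ≤ P → c = 1) ∧ Nat.card V = Nat.card P * c ^ Nat.card K := by
  classical
  set L : Subgroup X := normalizer (P : Set X) with hL
  have hPL : P ≤ L := le_normalizer
  have hDKL : D ⊔ K ≤ L := sup_le hDP hKP
  have hDL : D ≤ L := hDP
  have hKL : K ≤ L := hKP
  have hVL : V ≤ L := hPn
  haveI hPLn : (P.subgroupOf L).Normal := Subgroup.normal_in_normalizer
  set f : ↥L →* ↥L ⧸ P.subgroupOf L := QuotientGroup.mk' (P.subgroupOf L) with hf
  have hf1 : ∀ z : ↥L, f z = 1 ↔ (z : X) ∈ P := by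
    intro z
    rw [hf, QuotientGroup.mk'_apply, QuotientGroup.eq_one_iff, mem_subgroupOf]
  have hfeq : ∀ z w : ↥L, f z = f w ↔ (z : X)⁻¹ * (w : X) ∈ P := by
    intro z w
    rw [hf, QuotientGroup.mk'_apply, QuotientGroup.mk'_apply, QuotientGroup.eq, mem_subgroupOf]
    simp
  -- coprimality consequences
  have hcopP : (Nat.card ↥(D ⊔ K)).Coprime (Nat.card P) :=
    Nat.Coprime.coprime_dvd_right (card_dvd_of_le hPV) hcop
  have hbot : (D ⊔ K) ⊓ P = ⊥ := (disjoint_of_coprime_natCard hcopP).eq_bot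
  have hbot' : ∀ x ∈ D ⊔ K, x ∈ P → x = 1 := by
    intro x hx hxP
    have : x ∈ (D ⊔ K) ⊓ P := ⟨hx, hxP⟩
    rw [hbot] at this
    exact mem_bot.mp this
  have hDcopV : (Nat.card D).Coprime (Nat.card V) :=
    Nat.Coprime.coprime_dvd_left (card_dvd_of_le le_sup_left) hcop
  have hKcopV : (Nat.card K).Coprime (Nat.card V) :=
    Nat.Coprime.coprime_dvd_left (card_dvd_of_le le_sup_right) hcop
  haveI hDsolv : Group.IsSolvable ↥D := by
    haveI := hsolv
    have hle : D ≤ D ⊔ K := le_sup_left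
    exact solvable_of_solvable_injective (f := Subgroup.inclusion hle) (Subgroup.inclusion_injective hle)
  haveI hKsolv : Group.IsSolvable ↥K := by
    haveI := hsolv
    have hle : K ≤ D ⊔ K := le_sup_right
    exact solvable_of_solvable_injective (f := Subgroup.inclusion hle) (Subgroup.inclusion_injective hle)
  -- images
  set D' : Subgroup (↥L ⧸ P.subgroupOf L) := (D.subgroupOf L).map f with hD'
  set K' : Subgroup (↥L ⧸ P.subgroupOf L) := (K.subgroupOf L).map f with hK'
  set V' : Subgroup (↥L ⧸ P.subgroupOf L) := (V.subgroupOf L).map f with hV'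
  have hsup' : D' ⊔ K' = ((D ⊔ K).subgroupOf L).map f := by
    rw [hD', hK', ← Subgroup.map_sup, ← subgroupOf_sup hDL hKL]
  -- lifting lemma
  have lift : ∀ (A : Subgroup X), A ≤ normalizer (V : Set X) → A ≤ normalizer (P : Set X) →
      (Nat.card A).Coprime (Nat.card V) → Group.IsSolvable ↥A →
      ∀ z : ↥L, (z : X) ∈ V → (∀ a : ↥L, (a : X) ∈ A → f z * f a = f a * f z) →
      ∃ c : ↥L, (c : X) ∈ V ⊓ centralizer (A : Set X) ∧ f c = f z := by
    intro A hAV hAP hAcop hAsolv z hzV hcomm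
    have hcomm' : ∀ a ∈ A, (z : X) * a * (z : X)⁻¹ * a⁻¹ ∈ P := by
      intro a ha
      have haL : a ∈ L := hAP ha
      have h1 := hcomm ⟨a, haL⟩ ha
      have h2 : f (z * ⟨a, haL⟩ * z⁻¹ * (⟨a, haL⟩ : ↥L)⁻¹) = 1 := by
        rw [map_mul, map_mul, map_mul, map_inv, map_inv, h1]
        group
      have h3 := (hf1 _).mp h2
      simpa using h3
    obtain ⟨n, hn, c, hc, hzc⟩ := Cfsg.Agent.Helper52.exists_mul_centralizer_of_comm_mem V P A hPV hAV hAP
      hAcop (Or.inr hAsolv) (z : X) hzV hcomm'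
    have hcL : c ∈ L := hVL hc.1
    refine ⟨⟨c, hcL⟩, hc, ?_⟩
    rw [hfeq]
    have : (c : X)⁻¹ * (z : X) = c⁻¹ * n * c := by rw [hzc]; group
    simp only
    rw [this]
    have hcn : c ∈ normalizer (P : Set X) := hcL
    have := (mem_normalizer_iff.mp (inv_mem hcn) n).mp hn
    simpa using this
  -- S1446 hypotheses
  have h1 : D' ≠ ⊥ := by
    intro h
    apply hD1
    rw [eq_bot_iff]
    intro d hd
    have hfd : f ⟨d, hDL hd⟩ ∈ D' := by
      rw [hD']; exact mem_map_of_mem f (by rw [mem_subgroupOf]; exact hd)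
    rw [h, mem_bot, hf1] at hfd
    exact mem_bot.mpr (hbot' d (le_sup_left (a := D) (b := K) hd) hfd)
  have h2 : K' ≠ ⊥ := by
    intro h
    apply hK1
    rw [eq_bot_iff]
    intro d hd
    have hfd : f ⟨d, hKL hd⟩ ∈ K' := by
      rw [hK']; exact mem_map_of_mem f (by rw [mem_subgroupOf]; exact hd)
    rw [h, mem_bot, hf1] at hfd
    exact mem_bot.mpr (hbot' d (le_sup_right (a := D) (b := K) hd) hfd)
  have h3 : D' ⊓ K' = ⊥ := by
    rw [eq_bot_iff]
    rintro y ⟨hyD, hyK⟩
    obtain ⟨d, hd, rfl⟩ := hyD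
    obtain ⟨k, hk, hkd⟩ := hyK
    replace hd : (d : X) ∈ D := hd
    replace hk : (k : X) ∈ K := hk
    have h := (hfeq k d).mp hkd
    have hdk : (k : X)⁻¹ * (d : X) ∈ D ⊔ K :=
      mul_mem (inv_mem (le_sup_right (a := D) (b := K) hk)) (le_sup_left (a := D) (b := K) hd)
    have h1' := hbot' _ hdk h
    have hkd' : (k : X) = d := by
      have := inv_mul_eq_one.mp h1'
      exact this
    have hdDK : (d : X) ∈ D ⊓ K := ⟨hd, hkd' ▸ hk⟩
    rw [hDK, mem_bot] at hdDK
    rw [mem_bot]
    have : d = 1 := Subtype.ext hdDK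
    rw [this, map_one]
  have h4 : K' ≤ normalizer (D' : Set (↥L ⧸ P.subgroupOf L)) := by
    have hle : K.subgroupOf L ≤ normalizer ((D.subgroupOf L : Subgroup ↥L) : Set ↥L) := by
      intro k hk
      rw [mem_subgroupOf] at hk
      rw [mem_normalizer_iff]
      intro d
      rw [mem_subgroupOf, mem_subgroupOf]
      have := mem_normalizer_iff.mp (hKD hk) (d : X)
      simpa using this
    exact (Subgroup.map_mono hle).trans (le_normalizer_map f)
  have h5 : ∀ r ∈ K', r ≠ 1 → D' ⊓ centralizer ({r} : Set (↥L ⧸ P.subgroupOf L)) = ⊥ := by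
    rintro r ⟨k, hk, rfl⟩ hr1
    replace hk : (k : X) ∈ K := hk
    have hk1 : (k : X) ≠ 1 := by
      intro h
      apply hr1
      have : k = 1 := Subtype.ext h
      rw [this, map_one]
    rw [eq_bot_iff]
    rintro y ⟨⟨d, hd, rfl⟩, hyc⟩
    replace hd : (d : X) ∈ D := hd
    replace hyc : f d ∈ centralizer ({f k} : Set (↥L ⧸ P.subgroupOf L)) := hyc
    rw [mem_centralizer_singleton_iff] at hyc
    -- f d commutes with f k
    have h2' : f (d * k * d⁻¹ * k⁻¹) = 1 := by
      rw [map_mul, map_mul, map_mul, map_inv, map_inv, hyc]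
      group
    have h3' := (hf1 _).mp h2'
    have hmem : (d : X) * k * (d : X)⁻¹ * (k : X)⁻¹ ∈ D := by
      have : (k : X) * (d : X)⁻¹ * (k : X)⁻¹ ∈ D :=
        (mem_normalizer_iff.mp (hKD hk) _).mp (inv_mem hd)
      have h := mul_mem hd this
      have e : (d : X) * ((k : X) * (d : X)⁻¹ * (k : X)⁻¹) = (d : X) * k * (d : X)⁻¹ * (k : X)⁻¹ := by group
      rwa [e] at h
    have h4' := hbot' _ (le_sup_left (a := D) (b := K) hmem) (by simpa using h3')
    have hcomm : (d : X) * k = k * d := by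
      have := mul_inv_eq_one.mp h4'
      calc (d : X) * k = ((d : X) * k * (d : X)⁻¹) * d := by group
        _ = k * d := by rw [this]
    have hdc : (d : X) ∈ D ⊓ centralizer ({(k : X)} : Set X) := by
      refine ⟨hd, ?_⟩
      show (d : X) ∈ centralizer ({(k : X)} : Set X)
      rw [mem_centralizer_singleton_iff]
      exact hcomm
    rw [hfrob _ hk hk1, mem_bot] at hdc
    rw [mem_bot]
    have : d = 1 := Subtype.ext hdc
    rw [this, map_one]
  have hDKsolv' : Group.IsSolvable ↥((D ⊔ K).subgroupOf L) := by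
    haveI := hsolv
    exact solvable_of_solvable_injective (f := (subgroupOfEquivOfLe hDKL).toMonoidHom)
      (subgroupOfEquivOfLe hDKL).injective
  have h6 : Group.IsSolvable ↥(D' ⊔ K') := by
    rw [hsup']
    haveI := hDKsolv'
    exact solvable_of_surjective (f.subgroupMap_surjective _)
  have hcard_sup : Nat.card ↥(D' ⊔ K') ∣ Nat.card ↥(D ⊔ K) := by
    rw [hsup']
    have := card_map_dvd ((D ⊔ K).subgroupOf L) f
    rwa [Nat.card_congr (subgroupOfEquivOfLe hDKL).toEquiv] at this
  have h7 : Odd (Nat.card ↥(D' ⊔ K')) := by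
    obtain ⟨m, hm⟩ := hcard_sup
    rw [hm] at hodd
    exact (Nat.odd_mul.mp hodd).1
  have hcardV' : Nat.card ↥V' ∣ Nat.card V := by
    have := card_map_dvd (V.subgroupOf L) f
    rwa [Nat.card_congr (subgroupOfEquivOfLe hVL).toEquiv] at this
  have h8 : V' ≠ ⊥ := by
    intro h
    apply hne
    intro v hv
    have hfv : f ⟨v, hVL hv⟩ ∈ V' := by
      rw [hV']; exact mem_map_of_mem f (by rw [mem_subgroupOf]; exact hv)
    rw [h, mem_bot, hf1] at hfv
    exact hfv
  have h9 : Group.IsNilpotent ↥V' := by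
    haveI : Group.IsNilpotent ↥(V.subgroupOf L) :=
      nilpotent_of_mulEquiv (subgroupOfEquivOfLe hVL).symm
    rw [hV']
    exact nilpotent_of_surjective _ (f.subgroupMap_surjective _)
  have normIm : ∀ A : Subgroup X, A ≤ L → A ≤ normalizer (V : Set X) →
      (A.subgroupOf L).map f ≤ normalizer (V' : Set (↥L ⧸ P.subgroupOf L)) := by
    intro A hAL hAV
    have hle : A.subgroupOf L ≤ normalizer ((V.subgroupOf L : Subgroup ↥L) : Set ↥L) := by
      intro k hk
      rw [mem_subgroupOf] at hk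
      rw [mem_normalizer_iff]
      intro d
      rw [mem_subgroupOf, mem_subgroupOf]
      have := mem_normalizer_iff.mp (hAV hk) (d : X)
      simpa using this
    exact (Subgroup.map_mono hle).trans (le_normalizer_map f)
  have h10 : D' ≤ normalizer (V' : Set (↥L ⧸ P.subgroupOf L)) := normIm D hDL hDV
  have h11 : K' ≤ normalizer (V' : Set (↥L ⧸ P.subgroupOf L)) := normIm K hKL hKV
  have h12 : (Nat.card ↥(D' ⊔ K')).Coprime (Nat.card V') :=
    Nat.Coprime.coprime_dvd_left hcard_sup (Nat.Coprime.coprime_dvd_right hcardV' hcop)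
  have h13 : V' ⊓ centralizer (D' : Set (↥L ⧸ P.subgroupOf L)) = ⊥ := by
    rw [eq_bot_iff]
    rintro y ⟨⟨z, hz, rfl⟩, hyc⟩
    replace hz : (z : X) ∈ V := hz
    replace hyc : f z ∈ centralizer (D' : Set (↥L ⧸ P.subgroupOf L)) := hyc
    rw [mem_centralizer_iff] at hyc
    obtain ⟨c, hc, hfc⟩ := lift D hDV hDP hDcopV hDsolv z hz (by
      intro a ha
      have : f a ∈ (D' : Set (↥L ⧸ P.subgroupOf L)) := by
        rw [hD']; exact mem_map_of_mem f (by rw [mem_subgroupOf]; exact ha)
      exact (hyc _ this).symm)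
    rw [mem_bot, ← hfc, hf1]
    exact hCD hc
  have h14 : ∀ x ∈ K', x ≠ 1 → V' ⊓ centralizer ({x} : Set (↥L ⧸ P.subgroupOf L)) =
      V' ⊓ centralizer (K' : Set (↥L ⧸ P.subgroupOf L)) := by
    rintro x ⟨k, hk, rfl⟩ hx1
    replace hk : (k : X) ∈ K := hk
    have hk1 : (k : X) ≠ 1 := by
      intro h
      apply hx1
      have : k = 1 := Subtype.ext h
      rw [this, map_one]
    apply le_antisymm
    · rintro y ⟨⟨z, hz, rfl⟩, hyc⟩
      replace hz : (z : X) ∈ V := hz
      replace hyc : f z ∈ centralizer ({f k} : Set (↥L ⧸ P.subgroupOf L)) := hyc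
      rw [mem_centralizer_singleton_iff] at hyc
      have hzk : zpowers (k : X) ≤ K := by rw [zpowers_le]; exact hk
      have hAcop : (Nat.card (zpowers (k : X))).Coprime (Nat.card V) :=
        Nat.Coprime.coprime_dvd_left (card_dvd_of_le hzk) hKcopV
      haveI : Group.IsSolvable ↥(zpowers (k : X)) := by infer_instance
      obtain ⟨c, hc, hfc⟩ := lift (zpowers (k : X)) (hzk.trans hKV) (hzk.trans hKP) hAcop
        inferInstance z hz (by
          intro a ha
          obtain ⟨n, hn⟩ := mem_zpowers_iff.mp ha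
          have ha' : a = k ^ n := by
            apply Subtype.ext
            rw [← hn]; simp
          rw [ha', map_zpow]
          have hcm : Commute (f z) (f k) := hyc
          exact (hcm.zpow_right n).eq)
      refine ⟨?_, ?_⟩
      · rw [hV']; exact mem_map_of_mem f (by rw [mem_subgroupOf]; exact hz)
      · rw [← hfc]
        have hcK : (c : X) ∈ V ⊓ centralizer (K : Set X) := by
          rw [← hpr _ hk hk1]
          refine ⟨hc.1, ?_⟩
          show (c : X) ∈ centralizer ({(k : X)} : Set X)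
          rw [mem_centralizer_singleton_iff]
          have := (mem_centralizer_iff.mp hc.2) (k : X) (mem_zpowers _)
          exact this.symm
        show f c ∈ centralizer (K' : Set (↥L ⧸ P.subgroupOf L))
        rw [mem_centralizer_iff]
        rintro w ⟨w', hw', rfl⟩
        replace hw' : (w' : X) ∈ K := hw'
        have := (mem_centralizer_iff.mp hcK.2) (w' : X) hw'
        rw [← map_mul, ← map_mul]
        congr 1
        exact Subtype.ext this
    · rintro y ⟨hyV, hyc⟩
      replace hyc : y ∈ centralizer (K' : Set (↥L ⧸ P.subgroupOf L)) := hyc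
      refine ⟨hyV, ?_⟩
      show y ∈ centralizer ({f k} : Set (↥L ⧸ P.subgroupOf L))
      rw [mem_centralizer_singleton_iff]
      have : f k ∈ (K' : Set (↥L ⧸ P.subgroupOf L)) := by
        rw [hK']; exact mem_map_of_mem f (by rw [mem_subgroupOf]; exact hk)
      exact ((mem_centralizer_iff.mp hyc) _ this).symm
  obtain ⟨hKpr', hcard', -⟩ := Cfsg.Agent.S1446.result D' K' V' h1 h2 h3 h4 h5 h6 h7 h8 h9 h10 h11 h12 h13 h14
  -- card K' = card K
  have hinjK : Function.Injective (f.subgroupMap (K.subgroupOf L)) := by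
    rw [injective_iff_map_eq_one]
    intro z hz
    have hz' : ((z : ↥L) : X) ∈ K := z.2
    have h0 : f (z : ↥L) = 1 := by
      have := congrArg Subtype.val hz
      simpa using this
    rw [hf1] at h0
    have h1' := hbot' _ (le_sup_right (a := D) (b := K) hz') h0
    exact Subtype.ext (Subtype.ext h1')
  have hcardK : Nat.card K' = Nat.card K := by
    rw [hK']
    rw [← Nat.card_congr (Equiv.ofBijective _ ⟨hinjK, f.subgroupMap_surjective _⟩)]
    exact Nat.card_congr (subgroupOfEquivOfLe hKL).toEquiv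
  refine ⟨hcardK ▸ hKpr', Nat.card ↥(V' ⊓ centralizer (K' : Set (↥L ⧸ P.subgroupOf L))), ?_, ?_, ?_⟩
  · -- c divides card (V ⊓ C(K))
    have himg : V' ⊓ centralizer (K' : Set (↥L ⧸ P.subgroupOf L)) =
        ((V ⊓ centralizer (K : Set X)).subgroupOf L).map f := by
      apply le_antisymm
      · rintro y ⟨⟨z, hz, rfl⟩, hyc⟩
        replace hz : (z : X) ∈ V := hz
        obtain ⟨c, hc, hfc⟩ := lift K hKV hKP hKcopV hKsolv z hz (by
          intro a ha
          have : f a ∈ (K' : Set (↥L ⧸ P.subgroupOf L)) := by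
            rw [hK']; exact mem_map_of_mem f (by rw [mem_subgroupOf]; exact ha)
          exact ((mem_centralizer_iff.mp hyc) _ this).symm)
        rw [← hfc]
        exact mem_map_of_mem f (by rw [mem_subgroupOf]; exact hc)
      · rintro y ⟨z, hz, rfl⟩
        replace hz : (z : X) ∈ V ⊓ centralizer (K : Set X) := hz
        refine ⟨?_, ?_⟩
        · rw [hV']; exact mem_map_of_mem f (by rw [mem_subgroupOf]; exact hz.1)
        · show f z ∈ centralizer (K' : Set (↥L ⧸ P.subgroupOf L))
          rw [mem_centralizer_iff]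
          rintro w ⟨w', hw', rfl⟩
          replace hw' : (w' : X) ∈ K := hw'
          have := (mem_centralizer_iff.mp hz.2) (w' : X) hw'
          rw [← map_mul, ← map_mul]
          congr 1
          exact Subtype.ext this
    rw [himg]
    have hle : V ⊓ centralizer (K : Set X) ≤ L := inf_le_left.trans hVL
    have := card_map_dvd ((V ⊓ centralizer (K : Set X)).subgroupOf L) f
    rwa [Nat.card_congr (subgroupOfEquivOfLe hle).toEquiv] at this
  · intro hle
    have : V' ⊓ centralizer (K' : Set (↥L ⧸ P.subgroupOf L)) = ⊥ := by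
      rw [eq_bot_iff]
      rintro y ⟨⟨z, hz, rfl⟩, hyc⟩
      replace hz : (z : X) ∈ V := hz
      obtain ⟨c, hc, hfc⟩ := lift K hKV hKP hKcopV hKsolv z hz (by
        intro a ha
        have : f a ∈ (K' : Set (↥L ⧸ P.subgroupOf L)) := by
          rw [hK']; exact mem_map_of_mem f (by rw [mem_subgroupOf]; exact ha)
        exact ((mem_centralizer_iff.mp hyc) _ this).symm)
      rw [mem_bot, ← hfc, hf1]
      exact hle hc
    rw [this]
    simp
  · -- card V = card P * card V'
    rw [← hcardK, ← hcard']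
    have hker : (f.subgroupMap (V.subgroupOf L)).ker = (P.subgroupOf L).subgroupOf (V.subgroupOf L) := by
      ext z
      rw [MonoidHom.mem_ker, mem_subgroupOf]
      have : (f.subgroupMap (V.subgroupOf L)) z = 1 ↔ f (z : ↥L) = 1 := by
        constructor
        · intro h
          have := congrArg Subtype.val h
          simpa using this
        · intro h
          apply Subtype.ext
          simpa using h
      rw [this, hf1, mem_subgroupOf]
    have e1 := Subgroup.card_eq_card_quotient_mul_card_subgroup (f.subgroupMap (V.subgroupOf L)).ker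
    rw [Nat.card_congr (QuotientGroup.quotientKerEquivOfSurjective (f.subgroupMap (V.subgroupOf L))
      (f.subgroupMap_surjective _)).toEquiv, hker] at e1
    have hPVL : P.subgroupOf L ≤ V.subgroupOf L := by
      intro z hz
      rw [mem_subgroupOf] at hz ⊢
      exact hPV hz
    rw [Nat.card_congr (subgroupOfEquivOfLe hPVL).toEquiv,
      Nat.card_congr (subgroupOfEquivOfLe hPL).toEquiv,
      Nat.card_congr (subgroupOfEquivOfLe hVL).toEquiv] at e1
    rw [e1, mul_comm]



theorem le_normalizer_sup' {A H K : Subgroup X} (hH : A ≤ normalizer (H : Set X))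
    (hK : A ≤ normalizer (K : Set X)) : A ≤ normalizer ((H ⊔ K : Subgroup X) : Set X) := by
  intro g hg
  rw [mem_normalizer_iff_map_conj_eq, Subgroup.map_sup,
    mem_normalizer_iff_map_conj_eq.mp (hH hg), mem_normalizer_iff_map_conj_eq.mp (hK hg)]

theorem le_normalizer_inf' {A H K : Subgroup X} (hH : A ≤ normalizer (H : Set X))
    (hK : A ≤ normalizer (K : Set X)) : A ≤ normalizer ((H ⊓ K : Subgroup X) : Set X) :=
  (le_inf hH hK).trans Subgroup.inf_normalizer_le_normalizer_inf

theorem normalizer_le_normalizer_centralizer (D : Subgroup X) :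
    normalizer (D : Set X) ≤ normalizer ((centralizer (D : Set X) : Subgroup X) : Set X) := by
  intro g hg
  rw [mem_normalizer_iff]
  intro c
  constructor
  · intro hc
    rw [mem_centralizer_iff] at hc ⊢
    intro d hd
    have hd' : g⁻¹ * d * g ∈ D := by
      have := (mem_normalizer_iff.mp (inv_mem hg) d).mp hd
      simpa using this
    have := hc _ hd'
    calc d * (g * c * g⁻¹) = g * ((g⁻¹ * d * g) * c) * g⁻¹ := by group
      _ = g * (c * (g⁻¹ * d * g)) * g⁻¹ := by rw [this]
      _ = g * c * g⁻¹ * d := by group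
  · intro hc
    rw [mem_centralizer_iff] at hc ⊢
    intro d hd
    have hd' : g * d * g⁻¹ ∈ D := (mem_normalizer_iff.mp hg d).mp hd
    have := hc _ hd'
    calc d * c = g⁻¹ * ((g * d * g⁻¹) * (g * c * g⁻¹)) * g := by group
      _ = g⁻¹ * ((g * c * g⁻¹) * (g * d * g⁻¹)) * g := by rw [this]
      _ = c * d := by group

theorem le_normalizer_centralizer' {A D : Subgroup X} (h : A ≤ normalizer (D : Set X)) :
    A ≤ normalizer ((centralizer (D : Set X) : Subgroup X) : Set X) :=
  h.trans (normalizer_le_normalizer_centralizer D)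

/-- `Φ(A)` as a subgroup of the ambient group. -/
def frat (A : Subgroup X) : Subgroup X := (frattini ↥A).map A.subtype

theorem frat_le (A : Subgroup X) : frat A ≤ A := by
  rintro _ ⟨y, -, rfl⟩
  exact y.2

theorem normalizer_le_normalizer_frat (A : Subgroup X) :
    normalizer (A : Set X) ≤ normalizer ((frat A : Subgroup X) : Set X) :=
  Cfsg.Agent.Helper24.normalizer_le_normalizer_map_subtype_of_characteristic A (frattini ↥A)

theorem comm_mem_frat [Finite X] (A : Subgroup X) (hA : Group.IsNilpotent A) {a b : X} (ha : a ∈ A)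
    (hb : b ∈ A) : a * b * a⁻¹ * b⁻¹ ∈ frat A := by
  haveI := hA
  have h := Cfsg.Agent.S0586.commutator_le_frattini_of_isNilpotent (F := ↥A)
  have hc : ⁅(⟨a, ha⟩ : ↥A), ⟨b, hb⟩⁆ ∈ commutator ↥A :=
    Subgroup.commutator_mem_commutator (mem_top _) (mem_top _)
  refine ⟨_, h hc, ?_⟩
  simp [commutatorElement_def]

/-- If `B ≤ A` (nilpotent) and `A ≤ B ⊔ Φ(A)`, then `A ≤ B`. -/
theorem le_of_le_sup_frat [Finite X] (A B : Subgroup X) (hBA : B ≤ A) (h : A ≤ B ⊔ frat A) : A ≤ B := by
  have htop : B.subgroupOf A ⊔ frattini ↥A = ⊤ := by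
    rw [eq_top_iff]
    intro x _
    have hx : (x : X) ∈ B ⊔ frat A := h x.2
    have : B ⊔ frat A = (B.subgroupOf A ⊔ frattini ↥A).map A.subtype := by
      rw [Subgroup.map_sup, map_subgroupOf_eq_of_le hBA]
      rfl
    rw [this] at hx
    obtain ⟨y, hy, hyx⟩ := hx
    have : y = x := Subtype.ext hyx
    rwa [this] at hy
  have := frattini_nongenerating htop
  intro a ha
  have : (⟨a, ha⟩ : ↥A) ∈ B.subgroupOf A := by rw [this]; exact mem_top _
  exact this

/-- A subgroup of `A` containing `Φ(A)` (for nilpotent `A`) is normalized by `A`. -/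
theorem le_normalizer_of_frat_le [Finite X] (A P : Subgroup X) (hA : Group.IsNilpotent A)
    (hPA : P ≤ A) (hΦ : frat A ≤ P) : A ≤ normalizer (P : Set X) := by
  have key : ∀ a ∈ A, ∀ x ∈ P, x ∈ A → a * x * a⁻¹ ∈ P := by
    intro a ha x hx hxA
    have h1 := comm_mem_frat A hA ha hxA
    have : a * x * a⁻¹ = (a * x * a⁻¹ * x⁻¹) * x := by group
    rw [this]
    exact mul_mem (hΦ h1) hx
  intro a ha
  rw [mem_normalizer_iff]
  intro x
  constructor
  · intro hx
    exact key a ha x hx (hPA hx)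
  · intro hx
    have := key a⁻¹ (inv_mem ha) _ hx (hPA hx)
    simpa [mul_assoc] using this

/-- **Lemma F.**  A Frobenius group `D ⋊ K` acts coprimely on a nilpotent group `A`, and every
non-identity element of `K` is fixed-point-free on `A`.  Then `D` centralizes `A`. -/
theorem centralizes_of_fpf [Finite X] (D K A : Subgroup X)
    (hD1 : D ≠ ⊥) (hK1 : K ≠ ⊥) (hDK : D ⊓ K = ⊥) (hKD : K ≤ normalizer (D : Set X))
    (hfrob : ∀ r ∈ K, r ≠ 1 → D ⊓ centralizer ({r} : Set X) = ⊥)
    (hsolv : Group.IsSolvable ↥(D ⊔ K)) (hodd : Odd (Nat.card ↥(D ⊔ K)))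
    (hAn : Group.IsNilpotent A)
    (hDA : D ≤ normalizer (A : Set X)) (hKA : K ≤ normalizer (A : Set X))
    (hcop : (Nat.card ↥(D ⊔ K)).Coprime (Nat.card A))
    (hfpf : ∀ x ∈ K, x ≠ 1 → A ⊓ centralizer ({x} : Set X) = ⊥) :
    A ≤ centralizer (D : Set X) := by
  by_contra hnot
  set P : Subgroup X := (A ⊓ centralizer (D : Set X)) ⊔ frat A with hP
  have hPA : P ≤ A := sup_le inf_le_left (frat_le A)
  have hAP : A ≤ normalizer (P : Set X) := le_normalizer_of_frat_le A P hAn hPA le_sup_right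
  have hDC : D ≤ normalizer ((A ⊓ centralizer (D : Set X) : Subgroup X) : Set X) :=
    le_normalizer_inf' hDA (le_normalizer_centralizer' le_normalizer)
  have hKC : K ≤ normalizer ((A ⊓ centralizer (D : Set X) : Subgroup X) : Set X) :=
    le_normalizer_inf' hKA (le_normalizer_centralizer' hKD)
  have hDP : D ≤ normalizer (P : Set X) :=
    le_normalizer_sup' hDC (hDA.trans (normalizer_le_normalizer_frat A))
  have hKP : K ≤ normalizer (P : Set X) :=
    le_normalizer_sup' hKC (hKA.trans (normalizer_le_normalizer_frat A))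
  obtain ⟨x0, hx0K, hx01⟩ : ∃ x ∈ K, x ≠ 1 := by
    by_contra h
    push_neg at h
    exact hK1 ((Subgroup.eq_bot_iff_forall K).mpr h)
  have hCK : A ⊓ centralizer (K : Set X) = ⊥ := by
    rw [eq_bot_iff, ← hfpf x0 hx0K hx01]
    exact inf_le_inf_left A (centralizer_le (Set.singleton_subset_iff.mpr hx0K))
  have hne : ¬ A ≤ P := by
    intro h
    have h2 := le_of_le_sup_frat A (A ⊓ centralizer (D : Set X)) inf_le_left h
    exact hnot (h2.trans inf_le_right)
  obtain ⟨-, c, -, hc2, hc3⟩ := frob_section D K A P hD1 hK1 hDK hKD hfrob hsolv hodd hPA hAP hAn hDA hKA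
    hDP hKP hcop le_sup_left (fun x hx hx1 => by rw [hfpf x hx hx1, hCK]) hne
  have hc1 : c = 1 := hc2 (by rw [hCK]; exact bot_le)
  rw [hc1, one_pow, mul_one] at hc3
  apply hne
  have : P = A := Subgroup.eq_of_le_of_card_ge hPA (le_of_eq hc3)
  rw [this]


/-- `O_p(Y / O_p(Y)) = 1`. -/
theorem pCore_quot_pCore_eq_bot' {Y : Type*} [Group Y] (p : ℕ) [Fact p.Prime] :
    Cfsg.pCore p (Y ⧸ Cfsg.pCore p Y) = ⊥ := by
  apply Cfsg.Agent.Helper46.pCore_quotient_eq_bot_of
  intro D hD hpow
  apply Cfsg.Agent.Helper46.le_pCore hD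
  rw [Cfsg.Agent.Helper46.isPGroup_subgroup_iff]
  intro d hd
  obtain ⟨k, hk⟩ := hpow d hd
  obtain ⟨j, hj⟩ := Cfsg.Agent.Helper46.pCore_pow_eq_one hk
  refine ⟨k + j, ?_⟩
  rw [pow_add, pow_mul]; exact hj

/-- A finite nilpotent group with `O_q = 1` has order prime to `q`. -/
theorem not_dvd_card_of_nilpotent_of_pCore_eq_bot {Y : Type*} [Group Y] [Finite Y] (q : ℕ)
    [Fact q.Prime] (hY : Group.IsNilpotent Y) (h : Cfsg.pCore q Y = ⊥) : ¬ q ∣ Nat.card Y := by
  intro hq
  have S : Sylow q Y := default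
  have hS1 : (S : Subgroup Y) ≠ ⊥ := S.ne_bot_of_dvd_card hq
  have hn := ((Group.isNilpotent_of_finite_tfae (G := Y)).out 0 3).mp hY
  have hSn : (S : Subgroup Y).Normal := hn q ‹_› S
  apply hS1
  rw [eq_bot_iff, ← h]
  exact Cfsg.Agent.Helper46.le_pCore hSn S.isPGroup'

/-- If an element `k` of prime order `p₀` normalizes `N`, `(|N|, p₀) = 1` and `C_N(k) ≤ O_q(N)`, then
`O_q(N)` is a Sylow `q`-subgroup of `N` (Thompson's theorem on `N / O_q(N)`). -/
theorem pCoreOf_sylow_of_fpf [Finite X] (N : Subgroup X) (q p₀ : ℕ) [Fact q.Prime] (hp₀ : p₀.Prime)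
    (k : X) (hkN : k ∈ normalizer (N : Set X)) (hkp : k ^ p₀ = 1)
    (hcop : (Nat.card N).Coprime p₀)
    (hfix : N ⊓ centralizer ({k} : Set X) ≤ Cfsg.pCoreOf q N) :
    ¬ q ∣ (Cfsg.pCoreOf q N).relIndex N := by
  classical
  set P : Subgroup X := Cfsg.pCoreOf q N with hP
  have hPN : P ≤ N := by
    rintro _ ⟨y, -, rfl⟩
    exact y.2
  have hNP : N ≤ normalizer (P : Set X) :=
    Cfsg.Agent.Helper55.BGB.le_normalizer_map_subtype N (Cfsg.pCore q ↥N)
  have hkP : k ∈ normalizer (P : Set X) :=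
    Cfsg.Agent.Helper24.normalizer_le_normalizer_map_subtype_of_characteristic N (Cfsg.pCore q ↥N) hkN
  set L : Subgroup X := normalizer (P : Set X) with hL
  haveI hPLn : (P.subgroupOf L).Normal := Subgroup.normal_in_normalizer
  set f : ↥L →* ↥L ⧸ P.subgroupOf L := QuotientGroup.mk' (P.subgroupOf L) with hf
  have hf1 : ∀ z : ↥L, f z = 1 ↔ (z : X) ∈ P := by
    intro z
    rw [hf, QuotientGroup.mk'_apply, QuotientGroup.eq_one_iff, mem_subgroupOf]
  set N' : Subgroup (↥L ⧸ P.subgroupOf L) := (N.subgroupOf L).map f with hN'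
  set x : ↥L ⧸ P.subgroupOf L := f ⟨k, hkP⟩ with hx
  have hxN' : x ∈ normalizer (N' : Set (↥L ⧸ P.subgroupOf L)) := by
    have hle : (⟨k, hkP⟩ : ↥L) ∈ normalizer ((N.subgroupOf L : Subgroup ↥L) : Set ↥L) := by
      rw [mem_normalizer_iff]
      intro d
      rw [mem_subgroupOf, mem_subgroupOf]
      have := mem_normalizer_iff.mp hkN (d : X)
      simpa using this
    exact le_normalizer_map f (mem_map_of_mem f hle)
  have hxp : x ^ p₀ = 1 := by
    rw [hx, ← map_pow]
    have : (⟨k, hkP⟩ : ↥L) ^ p₀ = 1 := Subtype.ext (by simpa using hkp)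
    rw [this, map_one]
  have hzk : zpowers k ≤ normalizer (N : Set X) := by rw [zpowers_le]; exact hkN
  have hzkP : zpowers k ≤ normalizer (P : Set X) := by rw [zpowers_le]; exact hkP
  have hAcop : (Nat.card (zpowers k)).Coprime (Nat.card N) := by
    rw [Nat.card_zpowers]
    have : orderOf k ∣ p₀ := orderOf_dvd_of_pow_eq_one hkp
    exact (Nat.Coprime.coprime_dvd_right this hcop).symm
  have hfree : ∀ y ∈ N', y ≠ 1 → x * y ≠ y * x := by
    rintro y ⟨z, hz, rfl⟩ hy1 hcomm
    replace hz : (z : X) ∈ N := hz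
    apply hy1
    rw [hf1]
    have hcomm' : ∀ a ∈ zpowers k, (z : X) * a * (z : X)⁻¹ * a⁻¹ ∈ P := by
      intro a ha
      obtain ⟨n, hn⟩ := mem_zpowers_iff.mp ha
      have haL : a ∈ L := hzkP ha
      have ha' : (⟨a, haL⟩ : ↥L) = (⟨k, hkP⟩ : ↥L) ^ n := by
        apply Subtype.ext
        simp only [SubgroupClass.coe_zpow]
        exact hn.symm
      have hcm : Commute (f z) (f (⟨a, haL⟩ : ↥L)) := by
        rw [ha', map_zpow]
        have : Commute (f z) x := hcomm.symm
        exact this.zpow_right n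
      have h2 : f (z * ⟨a, haL⟩ * z⁻¹ * (⟨a, haL⟩ : ↥L)⁻¹) = 1 := by
        rw [map_mul, map_mul, map_mul, map_inv, map_inv, hcm.eq]
        group
      have h3 := (hf1 _).mp h2
      simpa using h3
    obtain ⟨n, hn, c, hc, hzc⟩ := Cfsg.Agent.Helper52.exists_mul_centralizer_of_comm_mem N P (zpowers k)
      hPN hzk hzkP hAcop (Or.inr inferInstance) (z : X) hz hcomm'
    have hcP : c ∈ P := by
      apply hfix
      refine ⟨hc.1, ?_⟩
      show c ∈ centralizer ({k} : Set X)
      rw [mem_centralizer_singleton_iff]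
      exact ((mem_centralizer_iff.mp hc.2) k (mem_zpowers _)).symm
    rw [hzc]
    exact mul_mem hn hcP
  have hN'nil : Group.IsNilpotent ↥N' :=
    Cfsg.Agent.Helper20.BG13.nilpotent_of_free N' x hxN' p₀ hp₀ hxp hfree
  -- transfer to `↥N ⧸ O_q(N)`
  have hNL : N ≤ L := hNP
  set g : ↥N →* ↥N' := (f.subgroupMap (N.subgroupOf L)).comp
    (subgroupOfEquivOfLe hNL).symm.toMonoidHom with hg
  have hgsurj : Function.Surjective g := by
    rw [hg]
    exact (f.subgroupMap_surjective _).comp (subgroupOfEquivOfLe hNL).symm.surjective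
  have hgker : g.ker = Cfsg.pCore q ↥N := by
    ext n
    rw [MonoidHom.mem_ker]
    have hcoe : (((subgroupOfEquivOfLe hNL).symm n : ↥(N.subgroupOf L)) : ↥L) = ⟨(n : X), hNL n.2⟩ := rfl
    have h1 : g n = 1 ↔ f ⟨(n : X), hNL n.2⟩ = 1 := by
      rw [← hcoe]
      constructor
      · intro h
        have := congrArg Subtype.val h
        simpa [hg] using this
      · intro h
        apply Subtype.ext
        simpa [hg] using h
    rw [h1, hf1]
    constructor
    · rintro ⟨y, hy, hyn⟩
      have : y = n := Subtype.ext hyn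
      rwa [this] at hy
    · intro hn
      exact ⟨n, hn, rfl⟩
  have e1 : ↥N ⧸ g.ker ≃* ↥N' := QuotientGroup.quotientKerEquivOfSurjective g hgsurj
  have e2 : ↥N ⧸ g.ker ≃* ↥N ⧸ Cfsg.pCore q ↥N := QuotientGroup.quotientMulEquivOfEq hgker
  have hnil : Group.IsNilpotent (↥N ⧸ Cfsg.pCore q ↥N) := by
    haveI := hN'nil
    exact nilpotent_of_mulEquiv (e1.symm.trans e2)
  have hq := not_dvd_card_of_nilpotent_of_pCore_eq_bot q hnil (pCore_quot_pCore_eq_bot' q)
  intro hdvd
  apply hq
  have h1 : P.relIndex N = (Cfsg.pCore q ↥N).index := by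
    rw [hP]
    unfold Cfsg.pCoreOf Subgroup.relIndex
    congr 1
    ext y
    rw [mem_subgroupOf]
    constructor
    · rintro ⟨z, hz, hzy⟩
      have : z = y := Subtype.ext hzy
      rwa [this] at hz
    · intro hy
      exact ⟨y, hy, rfl⟩
  rw [h1] at hdvd
  rwa [Subgroup.index_eq_card] at hdvd

end Cfsg.Agent.Helper55.BGFrob
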