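import Cfsg.Agent.Lib.Helper55.BlichGroup2

set_option autoImplicit false

/-! Blichfeldt's theorem, group-theoretic part 3: the critical configuration and the main
induction. -/

namespace Cfsg.Agent.Helper55.Blich

open scoped Pointwise

universe u

variable {G : Type u} [Group G]

theorem conj_comm {a b : G} (g : G) (hab : a * b = b * a) :
    (g * a * g⁻¹) * (g * b * g⁻¹) = (g * b * g⁻¹) * (g * a * g⁻¹) := by
  calc (g * a * g⁻¹) * (g * b * g⁻¹) = g * (a * b) * g⁻¹ := by group
    _ = g * (b * a) * g⁻¹ := by rw [hab]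
    _ = _ := by group

theorem orderOf_conj' (g x : G) : orderOf (g * x * g⁻¹) = orderOf x := by
  have := MulEquiv.orderOf_eq (MulAut.conj g) x
  rwa [MulAut.conj_apply] at this

variable [Finite G]

/-- every `p`-element lies in a conjugate of a given Sylow subgroup -/
theorem exists_conj_mem_sylow {p : ℕ} [Fact p.Prime] (P : Sylow p G) (x : G)
    (hx : orderOf x = p) : ∃ g : G, g * x * g⁻¹ ∈ (P : Subgroup G) := by
  have hz : IsPGroup p (Subgroup.zpowers x) := by
    apply IsPGroup.of_card (n := 1)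
    rw [Nat.card_zpowers, hx, pow_one]
  obtain ⟨P', hP'⟩ := hz.exists_le_sylow
  obtain ⟨g, hg⟩ := MulAction.exists_smul_eq G P' P
  refine ⟨g, ?_⟩
  rw [← hg, mem_smul_sylow']
  have : g⁻¹ * (g * x * g⁻¹) * g = x := by group
  rw [this]
  exact hP' (Subgroup.mem_zpowers x)

namespace MinCE

variable {σ : Set ℕ} {n : ℕ} (h : MinCE σ n G)
include h

theorem centralizer_ne_top (hirr : IrrLin n G) (t : G) (r : ℕ) (hr : r.Prime) (hrσ : r ∈ σ)
    (hto : orderOf t = r) : Subgroup.centralizer ({t} : Set G) ≠ ⊤ := by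
  intro htop
  apply h.no_central hirr t _ r hr hrσ hto
  rw [Subgroup.mem_center_iff]
  intro g
  have hg : g ∈ Subgroup.centralizer ({t} : Set G) := htop ▸ Subgroup.mem_top g
  rw [Subgroup.mem_centralizer_iff] at hg
  exact (hg t rfl).symm

/-- For a proper subgroup `H` containing Sylow subgroups, its abelian Hall subgroup has index
prime to the corresponding primes. -/
theorem exists_sub_index (H : Subgroup G) (hH : H ≠ ⊤) :
    ∃ D : Subgroup G, D ≤ H ∧ (∀ x ∈ D, ∀ y ∈ D, x * y = y * x) ∧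
      (∀ r : ℕ, r.Prime → r ∈ σ → r ∣ Nat.card H → r ∣ Nat.card D) ∧
      (∀ r : ℕ, r.Prime → r ∈ σ → ¬ r ∣ H.index → ¬ r ∣ D.index) := by
  obtain ⟨D, hDH, hD1, hD2, hD3⟩ := h.exists_sub H hH
  refine ⟨D, hDH, hD1, ?_, ?_⟩
  · intro r hr hrσ hdvd
    have e1 := Subgroup.relIndex_mul_relIndex ⊥ D H bot_le hDH
    rw [Subgroup.relIndex_bot_left, Subgroup.relIndex_bot_left] at e1
    rw [← e1] at hdvd
    rcases (Nat.Prime.dvd_mul hr).1 hdvd with h1 | h1
    · exact h1
    · exact absurd hrσ (hD3 r hr h1)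
  · intro r hr hrσ hHr hdvd
    rw [← Subgroup.relIndex_mul_index hDH] at hdvd
    rcases (Nat.Prime.dvd_mul hr).1 hdvd with h1 | h1
    · exact hD3 r hr h1 hrσ
    · exact hHr h1

/-- the critical configuration is contradictory -/
theorem false_of_irr (hirr : IrrLin n G) : False := by
  classical
  -- a prime of `σ` dividing the order
  obtain ⟨p, hp, hpσ, hpdvd⟩ := h.exists_prime_dvd_index ⊥
    (by
      intro x hx y hy
      rw [Subgroup.mem_bot] at hx hy
      rw [hx, hy])
    (by
      intro q hq hdvd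
      rw [Subgroup.card_bot] at hdvd
      exact absurd (Nat.dvd_one.1 hdvd) hq.ne_one)
  rw [Subgroup.index_bot] at hpdvd
  haveI : Fact p.Prime := ⟨hp⟩
  obtain ⟨x0, hx0⟩ := exists_prime_orderOf_dvd_card' (G := G) p hpdvd
  have hz0 : IsPGroup p (Subgroup.zpowers x0) := by
    apply IsPGroup.of_card (n := 1)
    rw [Nat.card_zpowers, hx0, pow_one]
  obtain ⟨P, hP0⟩ := hz0.exists_le_sylow
  have hx0P : x0 ∈ (P : Subgroup G) := hP0 (Subgroup.mem_zpowers x0)
  have hPab := sylow_comm h.lin p (h.lt_of_mem hpσ) (P : Subgroup G) P.2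
  set C := Subgroup.centralizer ((P : Subgroup G) : Set G) with hCdef
  have hPC : (P : Subgroup G) ≤ C := by
    intro u hu
    rw [hCdef, Subgroup.mem_centralizer_iff]
    intro v hv
    exact hPab v hv u hu
  have hC : C ≠ ⊤ := by
    intro htop
    apply h.no_central hirr x0 _ p hp hpσ hx0
    rw [Subgroup.mem_center_iff]
    intro g
    have hg : g ∈ C := htop ▸ Subgroup.mem_top g
    rw [hCdef, Subgroup.mem_centralizer_iff] at hg
    exact (hg x0 hx0P).symm
  -- the second prime
  obtain ⟨q, hq, hqσ, hqC⟩ : ∃ q : ℕ, q.Prime ∧ q ∈ σ ∧ q ∣ C.index := by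
    by_contra hcon
    push Not at hcon
    exact h.false_of_index C hC (fun q hq hqσ hd => hcon q hq hqσ hd)
  haveI : Fact q.Prime := ⟨hq⟩
  have hpPidx : ¬ p ∣ (P : Subgroup G).index := P.not_dvd_index
  have hqp : q ≠ p := by
    rintro rfl
    exact hpPidx (hqC.trans (Subgroup.index_dvd_of_le hPC))
  have hqG : q ∣ Nat.card G := hqC.trans (Subgroup.index_dvd_card C)
  -- commuting elements
  obtain ⟨x1, y1, hx1, hy1, hxy1⟩ := exists_commuting_of_irrLin hirr p q hp hq (Ne.symm hqp)
    (h.hσ p hpσ) (h.hσ q hqσ) hpdvd hqG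
  obtain ⟨g0, hg0⟩ := exists_conj_mem_sylow P x1 hx1
  set x := g0 * x1 * g0⁻¹ with hxdef
  set y := g0 * y1 * g0⁻¹ with hydef
  have hx : orderOf x = p := by rw [hxdef, orderOf_conj', hx1]
  have hy : orderOf y = q := by rw [hydef, orderOf_conj', hy1]
  have hxy : x * y = y * x := conj_comm g0 hxy1
  -- the centralizer of `x`
  set Cx := Subgroup.centralizer ({x} : Set G) with hCxdef
  have hCx : Cx ≠ ⊤ := h.centralizer_ne_top hirr x p hp hpσ hx
  have hPCx : (P : Subgroup G) ≤ Cx := by
    intro u hu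
    rw [hCxdef, Subgroup.mem_centralizer_iff]
    intro v hv
    rw [Set.mem_singleton_iff] at hv
    rw [hv]
    exact hPab x hg0 u hu
  have hyCx : y ∈ Cx := by
    rw [hCxdef, Subgroup.mem_centralizer_iff]
    rintro v rfl
    exact hxy
  obtain ⟨B, hBC, hB1, hB2, hB3⟩ := h.exists_sub_index Cx hCx
  have hqB : q ∣ Nat.card B := by
    apply hB2 q hq hqσ
    rw [← hy]
    exact Subgroup.orderOf_dvd_natCard Cx hyCx
  have hpB : ¬ p ∣ B.index := by
    apply hB3 p hp hpσ
    intro hd
    exact hpPidx (hd.trans (Subgroup.index_dvd_of_le hPCx))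
  obtain ⟨g, hg⟩ := exists_conj_mem (P : Subgroup G) P.2 B hpB
  obtain ⟨t0, ht0⟩ := exists_prime_orderOf_dvd_card' (G := B) q hqB
  set t := g * (t0 : G) * g⁻¹ with htdef
  have hto : orderOf t = q := by rw [htdef, orderOf_conj', Subgroup.orderOf_coe, ht0]
  have htP : ∀ u ∈ (P : Subgroup G), u * t = t * u := by
    intro u hu
    have h1 : (g⁻¹ * u * g) * (t0 : G) = (t0 : G) * (g⁻¹ * u * g) := hB1 _ (hg u hu) _ t0.2
    have h2 := conj_comm g h1
    have h3 : g * (g⁻¹ * u * g) * g⁻¹ = u := by group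
    rw [h3] at h2
    exact h2
  -- the centralizer of `t`
  set CT := Subgroup.centralizer ({t} : Set G) with hCTdef
  have hCT : CT ≠ ⊤ := h.centralizer_ne_top hirr t q hq hqσ hto
  have hPCT : (P : Subgroup G) ≤ CT := by
    intro u hu
    rw [hCTdef, Subgroup.mem_centralizer_iff]
    rintro v rfl
    exact (htP u hu).symm
  have hzt : IsPGroup q (Subgroup.zpowers t) := by
    apply IsPGroup.of_card (n := 1)
    rw [Nat.card_zpowers, hto, pow_one]
  obtain ⟨Q, hQ0⟩ := hzt.exists_le_sylow
  have htQ : t ∈ (Q : Subgroup G) := hQ0 (Subgroup.mem_zpowers t)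
  have hQab := sylow_comm h.lin q (h.lt_of_mem hqσ) (Q : Subgroup G) Q.2
  have hQCT : (Q : Subgroup G) ≤ CT := by
    intro w hw
    rw [hCTdef, Subgroup.mem_centralizer_iff]
    intro v hv
    rw [Set.mem_singleton_iff] at hv
    rw [hv]
    exact hQab t htQ w hw
  have hqQidx : ¬ q ∣ (Q : Subgroup G).index := Q.not_dvd_index
  obtain ⟨D, hDC, hD1, -, hD3⟩ := h.exists_sub_index CT hCT
  have hpD : ¬ p ∣ D.index := by
    apply hD3 p hp hpσ
    intro hd
    exact hpPidx (hd.trans (Subgroup.index_dvd_of_le hPCT))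
  have hqD : ¬ q ∣ D.index := by
    apply hD3 q hq hqσ
    intro hd
    exact hqQidx (hd.trans (Subgroup.index_dvd_of_le hQCT))
  obtain ⟨g1, hg1⟩ := exists_conj_mem (P : Subgroup G) P.2 D hpD
  obtain ⟨g2, hg2⟩ := exists_conj_mem (Q : Subgroup G) Q.2 D hqD
  set Q' : Sylow q G := (g1 * g2⁻¹) • Q with hQ'
  have hQ'C : (Q' : Subgroup G) ≤ C := by
    intro v hv
    rw [hQ', mem_smul_sylow'] at hv
    set w := (g1 * g2⁻¹)⁻¹ * v * (g1 * g2⁻¹) with hw
    rw [hCdef, Subgroup.mem_centralizer_iff]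
    intro u hu
    have h1 : (g1⁻¹ * u * g1) * (g2⁻¹ * w * g2) = (g2⁻¹ * w * g2) * (g1⁻¹ * u * g1) :=
      hD1 _ (hg1 u hu) _ (hg2 w hv)
    have h2 := conj_comm g1 h1
    have h3 : g1 * (g1⁻¹ * u * g1) * g1⁻¹ = u := by group
    have h4 : g1 * (g2⁻¹ * w * g2) * g1⁻¹ = v := by rw [hw]; group
    rw [h3, h4] at h2
    exact h2
  exact Q'.not_dvd_index (hqC.trans (Subgroup.index_dvd_of_le hQ'C))

/-- a minimal counterexample does not exist -/
theorem false : False := by
  classical
  rcases h.lin.reduce with hirr | hsub | ⟨hn0, S, hS, hint⟩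
  · exact h.false_of_irr hirr
  · apply h.not_hall
    refine ⟨⊤, fun x _ y _ => by rw [Subsingleton.elim x y], ?_, ?_⟩
    · intro q hq hdvd
      rw [Subgroup.card_top, Nat.card_of_subsingleton (1 : G)] at hdvd
      exact absurd (Nat.dvd_one.1 hdvd) hq.ne_one
    · intro q hq hdvd
      rw [Subgroup.index_top] at hdvd
      exact absurd (Nat.dvd_one.1 hdvd) hq.ne_one
  · apply h.not_hall
    have hquot : ∀ K ∈ S, ∃ hK : K.Normal, (∀ a b : G ⧸ K, a * b = b * a) ∧
        ∀ q : ℕ, q.Prime → q ∣ Nat.card (G ⧸ K) → q ∈ σ := by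
      intro K hKS
      obtain ⟨hK, hirrK⟩ := hS K hKS
      refine ⟨hK, ?_⟩
      obtain ⟨Bb, hB1, hB2, hB3⟩ := h.quot K hK (n - 1) (by omega) hirrK.lin
      set H := Bb.comap (QuotientGroup.mk' K) with hHdef
      have hHidx : H.index = Bb.index :=
        Subgroup.index_comap_of_surjective _ (QuotientGroup.mk'_surjective K)
      by_cases hH : H = ⊤
      · have hBt : Bb = ⊤ := by
          rw [eq_top_iff]
          intro x _
          obtain ⟨g, rfl⟩ := QuotientGroup.mk_surjective x
          have hg : g ∈ H := hH ▸ Subgroup.mem_top g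
          exact hg
        subst hBt
        refine ⟨fun a b => hB1 a (Subgroup.mem_top a) b (Subgroup.mem_top b), ?_⟩
        intro q hq hdvd
        apply hB2 q hq
        rwa [Subgroup.card_top]
      · exfalso
        exact h.false_of_index H hH (fun q hq hqσ hd => hB3 q hq (hHidx ▸ hd) hqσ)
    refine ⟨⊤, ?_, ?_, ?_⟩
    · intro a _ b _
      have h1 : a * b * a⁻¹ * b⁻¹ = 1 := by
        apply hint
        intro K hKS
        obtain ⟨hK, hab, -⟩ := hquot K hKS
        rw [← QuotientGroup.eq_one_iff]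
        have := hab (a : G ⧸ K) (b : G ⧸ K)
        simp only [QuotientGroup.mk_mul, QuotientGroup.mk_inv]
        rw [this, mul_inv_cancel_right, mul_inv_cancel]
      have h2 : a * b = (a * b * a⁻¹ * b⁻¹) * (b * a) := by group
      rw [h2, h1, one_mul]
    · intro q hq hdvd
      rw [Subgroup.card_top] at hdvd
      haveI : Fact q.Prime := ⟨hq⟩
      obtain ⟨x, hx⟩ := exists_prime_orderOf_dvd_card' (G := G) q hdvd
      have hx1 : x ≠ 1 := by
        rintro rfl
        rw [orderOf_one] at hx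
        exact hq.one_lt.ne hx
      have : ∃ K ∈ S, x ∉ K := by
        by_contra hcon
        push Not at hcon
        exact hx1 (hint x hcon)
      obtain ⟨K, hKS, hxK⟩ := this
      obtain ⟨hK, -, hprimes⟩ := hquot K hKS
      apply hprimes q hq
      have ho : orderOf (x : G ⧸ K) = q := by
        apply orderOf_eq_prime
        · rw [← QuotientGroup.mk_pow, ← hx, pow_orderOf_eq_one, QuotientGroup.mk_one]
        · intro h1
          exact hxK ((QuotientGroup.eq_one_iff x).1 h1)
      rw [← ho]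
      exact orderOf_dvd_natCard _
    · intro q hq hdvd
      rw [Subgroup.index_top] at hdvd
      exact absurd (Nat.dvd_one.1 hdvd) hq.ne_one

end MinCE

/-- Blichfeldt's theorem, inductive form. -/
theorem blichfeldt_aux (σ : Set ℕ) : ∀ (N n : ℕ) (G : Type u) [Group G] [Finite G],
    Nat.card G + n ≤ N → (∀ q ∈ σ, n + 1 < q) → Lin n G → HasAbHall σ G := by
  intro N
  induction N with
  | zero =>
    intro n G _ _ hle
    have := Nat.card_pos (α := G)
    omega
  | succ N ih =>
    intro n G _ _ hle hσ hlin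
    by_contra hcon
    apply MinCE.false (σ := σ) (n := n) (G := G)
    refine ⟨hlin, hσ, hcon, ?_, ?_⟩
    · intro H hH
      apply ih n H _ hσ (hlin.restrict H)
      have h1 : 1 < H.index := Subgroup.one_lt_index_of_ne_top hH
      have h2 := Subgroup.card_mul_index H
      have h3 : Nat.card H < Nat.card H * H.index := lt_mul_of_one_lt_right Nat.card_pos h1
      omega
    · intro K hK m hm hl
      haveI := hK
      apply ih m (G ⧸ K) _ (fun q hq => by have := hσ q hq; omega) hl
      have h1 : Nat.card (G ⧸ K) ≤ Nat.card G :=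
        Nat.le_of_dvd Nat.card_pos (Subgroup.card_quotient_dvd_card K)
      omega

/-- **Blichfeldt**: a finite group with a faithful character of degree `n` has an abelian Hall
subgroup for the set of primes greater than `n + 1`. -/
theorem blichfeldt {G : Type u} [Group G] [Finite G] (n : ℕ) (hlin : Lin n G) :
    HasAbHall {q | n + 1 < q} G :=
  blichfeldt_aux {q | n + 1 < q} (Nat.card G + n) n G le_rfl (fun _ hq => hq) hlin

end Cfsg.Agent.Helper55.Blich
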