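import Mathlib
import Cfsg.Prelude.Def_OddOrderLocal
import Cfsg.Agent.Lib.Helper55.BGBasic

/-!
# `K* ≠ 1` from the definition of `κ(M)` (BG chain)
-/

set_option autoImplicit false

namespace Cfsg.Agent.Helper55.BGKappa

open Subgroup

variable {G : Type*} [Group G]

/-- A subgroup `U ≤ M` of index prime to `r` contains a Sylow `r`-subgroup of `M`. -/
theorem exists_sylow_le_of_hall [Finite G] {M U : Subgroup G} {r : ℕ} [Fact r.Prime]
    (hr : ¬ r ∣ U.relIndex M) : ∃ S : Sylow r M, (S : Subgroup M).map M.subtype ≤ U := by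
  classical
  have R0 : Sylow r ↥(U.subgroupOf M) := default
  set S0 : Subgroup ↥M := (R0 : Subgroup ↥(U.subgroupOf M)).map (U.subgroupOf M).subtype with hS0
  have hS0p : IsPGroup r S0 := R0.isPGroup'.map _
  have hidx : ¬ r ∣ S0.index := by
    rw [hS0, Subgroup.index_map_subtype]
    intro hd
    rcases (Nat.Prime.dvd_mul (Fact.out : r.Prime)).mp hd with h | h
    · exact R0.not_dvd_index h
    · exact hr h
  refine ⟨hS0p.toSylow hidx, ?_⟩
  rintro _ ⟨x, hx, rfl⟩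
  have hx' : x ∈ S0 := hx
  obtain ⟨u, -, rfl⟩ := hx'
  exact mem_subgroupOf.mp u.2

/-- If `K ≠ 1` is a Hall `κ(M)`-subgroup of `M` acting on `M_σ` with prime action, then
`K* = C_{M_σ}(K) ≠ 1`. -/
theorem Kstar_ne_bot [Finite G] {M K : Subgroup G} (hK : Cfsg.IsPiHallOf (Cfsg.kappa M) K M)
    (hK1 : K ≠ ⊥)
    (hpr : ∀ k ∈ K, k ≠ 1 → Cfsg.sigmaCore M ⊓ centralizer ({k} : Set G) =
      Cfsg.sigmaCore M ⊓ centralizer (K : Set G)) :
    Cfsg.sigmaCore M ⊓ centralizer (K : Set G) ≠ ⊥ := by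
  classical
  have hc : Nat.card K ≠ 1 := fun hc => hK1 (Subgroup.card_eq_one.mp hc)
  obtain ⟨p, hp, hd⟩ := Nat.exists_prime_and_dvd hc
  haveI : Fact p.Prime := ⟨hp⟩
  have hκ : p ∈ Cfsg.kappa M := hK.2.1 p hp hd
  obtain ⟨S, hS⟩ := exists_sylow_le_of_hall (M := M) (U := K) (r := p) (hK.2.2 p hp hκ)
  obtain ⟨-, x, hxS, hx1, y, hy, hy1, hcomm⟩ := hκ.2.2.2 S
  have hxK : (x : G) ∈ K := hS ⟨x, hxS, rfl⟩
  have hx1' : (x : G) ≠ 1 := fun h => hx1 (Subtype.ext h)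
  intro hbot
  have hmem : y ∈ Cfsg.sigmaCore M ⊓ centralizer ({(x : G)} : Set G) :=
    ⟨hy, mem_centralizer_singleton_iff.mpr hcomm.symm⟩
  rw [hpr _ hxK hx1', hbot, mem_bot] at hmem
  exact hy1 hmem

end Cfsg.Agent.Helper55.BGKappa
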