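import Mathlib
import Cfsg.Agent.S1445
import Cfsg.Agent.Lib.Helper55.BGFrob
import Cfsg.Agent.Lib.Helper55.BGDecomp2
import Cfsg.Agent.Lib.Helper52.CoprimeHall
import Cfsg.Agent.Lib.Helper29.Fitting
import Cfsg.Agent.Lib.Helper95.BG15.FitSigma
import Cfsg.Agent.Lib.Helper2.PGroup
import Cfsg.Agent.Lib.Helper20.BG13A
import Cfsg.Agent.Lib.Helper23.HallRel

/-!
# The group-theoretic core of B-G Theorem 15.2

`M = N K` with `N` a normal Hall subgroup, `K` acting "with prime action" on `N`, `N` not nilpotent,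
`|C_N(K)| = q` prime.  Everything here is independent of the odd-order context.
-/

set_option autoImplicit false

namespace Cfsg.Agent.Helper55.BG152

open Subgroup
open Cfsg.Agent.Helper55.BGFrob

variable {G : Type*} [Group G]

/-- A subgroup of prime order lies in every subgroup containing one of its non-identity elements. -/
theorem le_of_card_prime {Ks A : Subgroup G} (hq : (Nat.card Ks).Prime) {x : G} (hx : x ∈ Ks)
    (hx1 : x ≠ 1) (hxA : x ∈ A) : Ks ≤ A := by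
  haveI : Fact (Nat.card Ks).Prime := ⟨hq⟩
  have htop : zpowers (⟨x, hx⟩ : ↥Ks) = ⊤ :=
    zpowers_eq_top_of_prime_card rfl (fun h => hx1 (congrArg Subtype.val h))
  intro y hy
  have hmem : (⟨y, hy⟩ : ↥Ks) ∈ zpowers (⟨x, hx⟩ : ↥Ks) := by rw [htop]; exact mem_top _
  obtain ⟨n, hn⟩ := mem_zpowers_iff.mp hmem
  have hyx : y = x ^ n := by
    have := congrArg Subtype.val hn
    simpa using this.symm
  rw [hyx]
  exact zpow_mem hxA n

/-- If `X ≤ M` meets the normal subgroup `N` of `M` trivially, then `|X|` divides `|M : N|`. -/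
theorem card_dvd_relIndex_of_inf_eq_bot {X N M : Subgroup G} (hXM : X ≤ M) (hNM : N ≤ M)
    (hMN : M ≤ normalizer (N : Set G)) (h : N ⊓ X = ⊥) : Nat.card X ∣ N.relIndex M := by
  haveI : (N.subgroupOf M).Normal := (Subgroup.normal_subgroupOf_iff_le_normalizer hNM).mpr hMN
  have h2 : (N.subgroupOf M).relIndex (X.subgroupOf M) ∣ (N.subgroupOf M).index :=
    Subgroup.relIndex_dvd_index_of_normal _ _
  rw [Subgroup.relIndex_subgroupOf hXM] at h2
  have h3 : N.relIndex X = Nat.card X := by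
    rw [← Subgroup.inf_relIndex_right, h, Subgroup.relIndex_bot_left]
  rw [h3] at h2
  exact h2

/-- `F(N)` computed inside `M` agrees with `F(N)` computed inside `G`. -/
theorem fittingOf_subgroupOf {M N : Subgroup G} (hNM : N ≤ M) :
    (Cfsg.fittingOf (N.subgroupOf M)).map M.subtype = Cfsg.fittingOf N := by
  unfold Cfsg.fittingOf
  rw [Subgroup.map_map]
  have hcomp : M.subtype.comp (N.subgroupOf M).subtype =
      N.subtype.comp ((subgroupOfEquivOfLe hNM : ↥(N.subgroupOf M) ≃* ↥N) : ↥(N.subgroupOf M) →* ↥N) := by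
    ext x
    rfl
  rw [hcomp, ← Subgroup.map_map, Cfsg.Agent.Helper29.fittingSubgroup_map_mulEquiv]

/-- B-G Thm 3.7 (landed S1445), applied inside `M = N K`: if `[N, K] = N` is not nilpotent then
`F(N) ∩ C(K) ≠ 1`. -/
theorem exists_fitting_fixed [Finite G] (M N K : Subgroup G) (hNM : N ≤ M)
    (hMN : M ≤ normalizer (N : Set G)) (hKM : K ≤ M) (hMle : M ≤ N ⊔ K)
    (hsolv : Group.IsSolvable ↥M) (hodd : Odd (Nat.card ↥M))
    (hcop : (Nat.card N).Coprime (Nat.card K))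
    (hpr : ∀ k ∈ K, k ≠ 1 → N ⊓ centralizer ({k} : Set G) = N ⊓ centralizer (K : Set G))
    (hcomm : ⁅N, K⁆ = N) (hNnil : ¬ Group.IsNilpotent ↥N) :
    ∃ x ∈ Cfsg.fittingOf N ⊓ centralizer (K : Set G), x ≠ 1 := by
  classical
  by_contra hno
  push_neg at hno
  set Nm : Subgroup ↥M := N.subgroupOf M with hNm
  set Km : Subgroup ↥M := K.subgroupOf M with hKm
  haveI : Nm.Normal := (Subgroup.normal_subgroupOf_iff_le_normalizer hNM).mpr hMN
  have htop : Nm ⊔ Km = ⊤ := by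
    rw [hNm, hKm, ← Subgroup.subgroupOf_sup hNM hKM, Subgroup.subgroupOf_eq_top]
    exact hMle
  have hcop' : (Nat.card Nm).Coprime (Nat.card Km) := by
    rw [hNm, hKm, Cfsg.Agent.Helper23.HallRel.card_subgroupOf_of_le hNM,
      Cfsg.Agent.Helper23.HallRel.card_subgroupOf_of_le hKM]
    exact hcop
  have hprime : ∀ x ∈ Km, x ≠ 1 →
      Nm ⊓ centralizer ({x} : Set ↥M) = Nm ⊓ centralizer (Km : Set ↥M) := by
    intro x hx hx1
    have hxK : (x : G) ∈ K := mem_subgroupOf.mp hx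
    have hx1' : (x : G) ≠ 1 := fun h => hx1 (Subtype.ext h)
    have h := hpr _ hxK hx1'
    ext y
    constructor
    · rintro ⟨hyN, hyC⟩
      have hyC' : (y : G) * (x : G) = (x : G) * (y : G) := by
        have := mem_centralizer_singleton_iff.mp hyC
        exact congrArg Subtype.val this
      have hmem : (y : G) ∈ N ⊓ centralizer ({(x : G)} : Set G) :=
        ⟨mem_subgroupOf.mp hyN, mem_centralizer_singleton_iff.mpr hyC'⟩
      rw [h] at hmem
      refine ⟨hyN, ?_⟩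
      show y ∈ centralizer (Km : Set ↥M)
      rw [mem_centralizer_iff]
      intro k hk
      have := (mem_centralizer_iff.mp hmem.2) (k : G) (mem_subgroupOf.mp hk)
      exact Subtype.ext this
    · rintro ⟨hyN, hyC⟩
      refine ⟨hyN, ?_⟩
      show y ∈ centralizer ({x} : Set ↥M)
      rw [mem_centralizer_singleton_iff]
      exact ((mem_centralizer_iff.mp hyC) x hx).symm
  have hF : Cfsg.fittingOf Nm ⊓ centralizer (Km : Set ↥M) = ⊥ := by
    rw [eq_bot_iff]
    intro y hy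
    rw [mem_bot]
    have hyF : (y : G) ∈ Cfsg.fittingOf N := by
      rw [← fittingOf_subgroupOf hNM]
      exact ⟨y, hy.1, rfl⟩
    have hyC : (y : G) ∈ centralizer (K : Set G) := by
      rw [mem_centralizer_iff]
      intro k hk
      have := (mem_centralizer_iff.mp hy.2) ⟨k, hKM hk⟩ (mem_subgroupOf.mpr hk)
      exact congrArg Subtype.val this
    have := hno (y : G) ⟨hyF, hyC⟩
    exact Subtype.ext this
  haveI := hsolv
  have hle := Cfsg.Agent.S1445.result (G := ↥M) hodd Nm Km htop hcop' hprime hF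
  have hcm : ⁅Nm, Km⁆ = Nm := by
    apply Subgroup.map_injective M.subtype_injective
    rw [Subgroup.map_commutator, hNm, hKm, map_subgroupOf_eq_of_le hNM, map_subgroupOf_eq_of_le hKM,
      hcomm]
  rw [hcm] at hle
  apply hNnil
  have hFle : Cfsg.fittingOf Nm ≤ Nm := by
    unfold Cfsg.fittingOf
    rintro _ ⟨y, -, rfl⟩
    exact y.2
  have h1 : Cfsg.fittingOf Nm = Nm := le_antisymm hFle hle
  have h2 : Group.IsNilpotent ↥(Cfsg.fittingOf Nm) :=
    Cfsg.Agent.Helper95.BG15.FitSigma.isNilpotent_fittingOf Nm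
  rw [h1] at h2
  exact (Group.isNilpotent_congr (subgroupOfEquivOfLe hNM)).mp h2

/-- `Q ∩ C(D^l) = (Q ∩ C(D))^l` for `l` normalizing `Q`. -/
theorem inf_centralizer_map_conj (Q D : Subgroup G) {l : G} (hl : l ∈ normalizer (Q : Set G)) :
    Q ⊓ centralizer ((D.map (MulAut.conj l).toMonoidHom : Subgroup G) : Set G) =
      (Q ⊓ centralizer (D : Set G)).map (MulAut.conj l).toMonoidHom := by
  ext y
  rw [Cfsg.Agent.Helper23.HallRel.mem_map_conj, mem_inf, mem_inf]
  have hQ : l⁻¹ * y * l ∈ Q ↔ y ∈ Q := by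
    have := mem_normalizer_iff.mp hl (l⁻¹ * y * l)
    rw [this]
    have e : l * (l⁻¹ * y * l) * l⁻¹ = y := by group
    rw [e]
  rw [hQ]
  apply and_congr_right
  intro _
  rw [mem_centralizer_iff, mem_centralizer_iff]
  constructor
  · intro h d hd
    have hd' : l * d * l⁻¹ ∈ D.map (MulAut.conj l).toMonoidHom := ⟨d, hd, rfl⟩
    have := h _ hd'
    calc d * (l⁻¹ * y * l) = l⁻¹ * ((l * d * l⁻¹) * y) * l := by group
      _ = l⁻¹ * (y * (l * d * l⁻¹)) * l := by rw [this]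
      _ = l⁻¹ * y * l * d := by group
  · rintro h _ ⟨d, hd, rfl⟩
    have := h d hd
    simp only [MulEquiv.coe_toMonoidHom, MulAut.conj_apply]
    calc l * d * l⁻¹ * y = l * (d * (l⁻¹ * y * l)) * l⁻¹ := by group
      _ = l * ((l⁻¹ * y * l) * d) * l⁻¹ := by rw [this]
      _ = y * (l * d * l⁻¹) := by group

/-- The data of B-G Theorem 15.2 (abstract form). -/
structure Pre (M N K Q : Subgroup G) (q : ℕ) : Prop where
  hq : q.Prime
  hNM : N ≤ M
  hMN : M ≤ normalizer (N : Set G)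
  hKM : K ≤ M
  hMle : M ≤ N ⊔ K
  hsolv : Group.IsSolvable ↥M
  hodd : Odd (Nat.card ↥M)
  hcop : (Nat.card N).Coprime (Nat.card K)
  hK1 : K ≠ ⊥
  hKsq : Nat.card ↥(N ⊓ centralizer (K : Set G)) = q
  hpr : ∀ k ∈ K, k ≠ 1 → N ⊓ centralizer ({k} : Set G) = N ⊓ centralizer (K : Set G)
  hNnil : ¬ Group.IsNilpotent ↥N
  hQN : Q ≤ N
  hMQ : M ≤ normalizer (Q : Set G)
  hQp : IsPGroup q Q
  hKsQ : N ⊓ centralizer (K : Set G) ≤ Q
  hQidx : ¬ q ∣ Q.relIndex N

/-- A `K`-invariant complement `D` of `Q` in `N`. -/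
structure Cpl (N K Q D : Subgroup G) : Prop where
  hDN : D ≤ N
  hQD : Q ⊓ D = ⊥
  hcard : Nat.card Q * Nat.card D = Nat.card N
  hKD : K ≤ normalizer (D : Set G)

namespace Pre

variable [Finite G] {M N K Q D : Subgroup G} {q : ℕ}

theorem q_dvd_card_N (h : Pre M N K Q q) : q ∣ Nat.card N := by
  rw [← h.hKsq]
  exact Subgroup.card_dvd_of_le inf_le_left

theorem q_not_dvd_card_K (h : Pre M N K Q q) : ¬ q ∣ Nat.card K := by
  intro hd
  have := Nat.Coprime.eq_one_of_dvd (Nat.Coprime.coprime_dvd_left h.q_dvd_card_N h.hcop) hd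
  exact h.hq.one_lt.ne' this

theorem N_inf_K (h : Pre M N K Q q) : N ⊓ K = ⊥ := Subgroup.inf_eq_bot_of_coprime h.hcop

theorem isNilpotent_Q (h : Pre M N K Q q) : Group.IsNilpotent ↥Q := by
  haveI : Fact q.Prime := ⟨h.hq⟩
  exact h.hQp.isNilpotent

theorem Ks_eq (h : Pre M N K Q q) : Q ⊓ centralizer (K : Set G) = N ⊓ centralizer (K : Set G) :=
  le_antisymm (inf_le_inf_right _ h.hQN) (le_inf h.hKsQ inf_le_right)

theorem Ks_prime (h : Pre M N K Q q) : (Nat.card ↥(N ⊓ centralizer (K : Set G))).Prime := by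
  rw [h.hKsq]; exact h.hq

theorem hprQ (h : Pre M N K Q q) : ∀ x ∈ K, x ≠ 1 →
    Q ⊓ centralizer ({x} : Set G) = Q ⊓ centralizer (K : Set G) := by
  intro x hx hx1
  apply le_antisymm
  · intro y hy
    have : y ∈ N ⊓ centralizer ({x} : Set G) := ⟨h.hQN hy.1, hy.2⟩
    rw [h.hpr x hx hx1] at this
    exact ⟨hy.1, this.2⟩
  · exact inf_le_inf_left Q (centralizer_le (Set.singleton_subset_iff.mpr hx))

theorem exists_prime_elt (h : Pre M N K Q q) :
    ∃ k ∈ K, ∃ p₀ : ℕ, p₀.Prime ∧ k ^ p₀ = 1 ∧ k ≠ 1 := by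
  classical
  have hc : Nat.card K ≠ 1 := by
    intro hc
    exact h.hK1 (Subgroup.card_eq_one.mp hc)
  obtain ⟨p₀, hp₀, hd⟩ := Nat.exists_prime_and_dvd hc
  haveI : Fact p₀.Prime := ⟨hp₀⟩
  obtain ⟨k, hk⟩ := exists_prime_orderOf_dvd_card' (G := ↥K) p₀ hd
  refine ⟨(k : G), k.2, p₀, hp₀, ?_, ?_⟩
  · have : k ^ p₀ = 1 := by rw [← hk]; exact pow_orderOf_eq_one k
    have := congrArg Subtype.val this
    simpa using this
  · intro h1
    have : k = 1 := Subtype.ext h1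
    rw [this, orderOf_one] at hk
    exact hp₀.one_lt.ne hk

end Pre

namespace Pre

variable [Finite G] {M N K Q D : Subgroup G} {q : ℕ}

theorem cent_k_D (h : Pre M N K Q q) (c : Cpl N K Q D) :
    ∀ r ∈ K, r ≠ 1 → D ⊓ centralizer ({r} : Set G) = ⊥ := by
  intro r hr hr1
  rw [eq_bot_iff]
  intro x hx
  have h1 : x ∈ N ⊓ centralizer ({r} : Set G) := ⟨c.hDN hx.1, hx.2⟩
  rw [h.hpr r hr hr1] at h1
  have h2 : x ∈ Q ⊓ D := ⟨h.hKsQ h1, hx.1⟩
  rwa [c.hQD] at h2

theorem D_inf_K (h : Pre M N K Q q) (c : Cpl N K Q D) : D ⊓ K = ⊥ := by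
  rw [eq_bot_iff, ← h.N_inf_K]
  exact inf_le_inf_right K c.hDN

theorem isNilpotent_D (h : Pre M N K Q q) (c : Cpl N K Q D) : Group.IsNilpotent ↥D := by
  obtain ⟨k, hk, p₀, hp₀, hkp, hk1⟩ := h.exists_prime_elt
  apply Cfsg.Agent.Helper20.BG13.nilpotent_of_free D k (c.hKD hk) p₀ hp₀ hkp
  intro y hy hy1 hcomm
  have : y ∈ D ⊓ centralizer ({k} : Set G) := ⟨hy, mem_centralizer_singleton_iff.mpr hcomm.symm⟩
  rw [h.cent_k_D c k hk hk1, mem_bot] at this
  exact hy1 this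

theorem D_ne_bot (h : Pre M N K Q q) (c : Cpl N K Q D) : D ≠ ⊥ := by
  intro hD
  apply h.hNnil
  have hc := c.hcard
  rw [hD, Subgroup.card_bot, mul_one] at hc
  have hQN : Q = N := Subgroup.eq_of_le_of_card_ge h.hQN (le_of_eq hc.symm)
  have := h.isNilpotent_Q
  rw [hQN] at this
  exact this

theorem card_D (h : Pre M N K Q q) (c : Cpl N K Q D) : Nat.card D = Q.relIndex N := by
  have h1 := Cfsg.Agent.Helper55.BGB.card_mul_relIndex h.hQN
  have h2 := c.hcard
  have hpos : 0 < Nat.card Q := Nat.card_pos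
  exact Nat.eq_of_mul_eq_mul_left hpos (h2.trans h1.symm)

theorem q_not_dvd_card_D (h : Pre M N K Q q) (c : Cpl N K Q D) : ¬ q ∣ Nat.card D := by
  rw [h.card_D c]; exact h.hQidx

theorem card_DK (h : Pre M N K Q q) (c : Cpl N K Q D) :
    Nat.card ↥(D ⊔ K) = Nat.card D * Nat.card K := by
  have := Cfsg.Agent.Helper50.card_sup_mul_card_inf_of_le_normalizer D K c.hKD
  rw [h.D_inf_K c, Subgroup.card_bot, mul_one] at this
  exact this

theorem coprime_DK_Q (h : Pre M N K Q q) (c : Cpl N K Q D) :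
    (Nat.card ↥(D ⊔ K)).Coprime (Nat.card Q) := by
  haveI : Fact q.Prime := ⟨h.hq⟩
  obtain ⟨n, hn⟩ := h.hQp.exists_card_eq
  rw [hn, h.card_DK c]
  apply Nat.Coprime.pow_right
  apply Nat.Coprime.mul_left
  · exact ((Nat.Prime.coprime_iff_not_dvd h.hq).mpr (h.q_not_dvd_card_D c)).symm
  · exact ((Nat.Prime.coprime_iff_not_dvd h.hq).mpr h.q_not_dvd_card_K).symm

theorem DK_le (h : Pre M N K Q q) (c : Cpl N K Q D) : D ⊔ K ≤ M :=
  sup_le (c.hDN.trans h.hNM) h.hKM

theorem solv_DK (h : Pre M N K Q q) (c : Cpl N K Q D) : Group.IsSolvable ↥(D ⊔ K) := by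
  haveI := h.hsolv
  exact solvable_of_solvable_injective (Subgroup.inclusion_injective (h.DK_le c))

theorem odd_DK (h : Pre M N K Q q) (c : Cpl N K Q D) : Odd (Nat.card ↥(D ⊔ K)) :=
  Odd.of_dvd_nat h.hodd (Subgroup.card_dvd_of_le (h.DK_le c))

theorem N_le_QD (h : Pre M N K Q q) (c : Cpl N K Q D) : N ≤ Q ⊔ D := by
  have hc := Cfsg.Agent.Helper55.BGB.isComplIn_of_card h.hQN c.hDN c.hQD c.hcard
  intro n hn
  obtain ⟨a, ha, b, hb, rfl⟩ := hc.2.2.2 n hn
  exact mul_mem (mem_sup_left ha) (mem_sup_right hb)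

theorem not_le_cent (h : Pre M N K Q q) (c : Cpl N K Q D) : ¬ Q ≤ centralizer (D : Set G) := by
  intro hle
  apply h.hNnil
  have hNQ : N ≤ normalizer (Q : Set G) := h.hNM.trans h.hMQ
  have hND : N ≤ normalizer (D : Set G) := by
    refine (h.N_le_QD c).trans (sup_le ?_ le_normalizer)
    exact hle.trans (Subgroup.centralizer_le_normalizer _)
  have h1 : Q ≤ Cfsg.fittingOf N :=
    Cfsg.Agent.Helper95.BG15.FitSigma.le_fittingOf_of_normal le_rfl le_normalizer h.hQN hNQ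
      h.isNilpotent_Q
  have h2 : D ≤ Cfsg.fittingOf N :=
    Cfsg.Agent.Helper95.BG15.FitSigma.le_fittingOf_of_normal le_rfl le_normalizer c.hDN hND
      (h.isNilpotent_D c)
  have h3 : Cfsg.fittingOf N = N :=
    le_antisymm (Cfsg.Agent.Helper55.BGB.fittingOf_le N) ((h.N_le_QD c).trans (sup_le h1 h2))
  have h4 := Cfsg.Agent.Helper95.BG15.FitSigma.isNilpotent_fittingOf N
  rw [h3] at h4
  exact h4

/-- The conclusions for the `K`-invariant complement. -/
theorem main_D (h : Pre M N K Q q) (c : Cpl N K Q D) :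
    (Nat.card K).Prime ∧ frat Q ≤ Q ⊓ centralizer (D : Set G) ∧
      Nat.card Q = Nat.card ↥(Q ⊓ centralizer (D : Set G)) * q ^ Nat.card K := by
  classical
  set Q0 : Subgroup G := Q ⊓ centralizer (D : Set G) with hQ0
  set P : Subgroup G := Q0 ⊔ frat Q with hP
  have hQnil := h.isNilpotent_Q
  have hPQ : P ≤ Q := sup_le inf_le_left (frat_le Q)
  have hQP : Q ≤ normalizer (P : Set G) := le_normalizer_of_frat_le Q P hQnil hPQ le_sup_right
  have hDQ : D ≤ normalizer (Q : Set G) := (c.hDN.trans h.hNM).trans h.hMQ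
  have hKQ : K ≤ normalizer (Q : Set G) := h.hKM.trans h.hMQ
  have hDQ0 : D ≤ normalizer (Q0 : Set G) :=
    le_normalizer_inf' hDQ (le_normalizer_centralizer' le_normalizer)
  have hKQ0 : K ≤ normalizer (Q0 : Set G) :=
    le_normalizer_inf' hKQ (le_normalizer_centralizer' c.hKD)
  have hDP : D ≤ normalizer (P : Set G) :=
    le_normalizer_sup' hDQ0 (hDQ.trans (normalizer_le_normalizer_frat Q))
  have hKP : K ≤ normalizer (P : Set G) :=
    le_normalizer_sup' hKQ0 (hKQ.trans (normalizer_le_normalizer_frat Q))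
  have hne : ¬ Q ≤ P := by
    intro hle
    have h2 := le_of_le_sup_frat Q Q0 inf_le_left hle
    exact h.not_le_cent c (h2.trans inf_le_right)
  obtain ⟨hKp, cc, hc1, hc2, hc3⟩ := frob_section D K Q P (h.D_ne_bot c) h.hK1 (h.D_inf_K c) c.hKD
    (h.cent_k_D c) (h.solv_DK c) (h.odd_DK c) hPQ hQP hQnil hDQ hKQ hDP hKP (h.coprime_DK_Q c)
    le_sup_left h.hprQ hne
  rw [h.Ks_eq, h.hKsq] at hc1
  have hcq : cc = q := by
    rcases (Nat.dvd_prime h.hq).mp hc1 with h1 | h1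
    · exfalso
      rw [h1, one_pow, mul_one] at hc3
      apply hne
      have : P = Q := Subgroup.eq_of_le_of_card_ge hPQ (le_of_eq hc3)
      rw [this]
    · exact h1
  have hKsP : ¬ (Q ⊓ centralizer (K : Set G) ≤ P) := by
    intro hle
    have := hc2 hle
    rw [hcq] at this
    exact h.hq.one_lt.ne' this
  have hKsΦ : (N ⊓ centralizer (K : Set G)) ⊓ frat Q = ⊥ := by
    rw [eq_bot_iff]
    intro x hx
    rw [mem_bot]
    by_contra hx1
    apply hKsP
    rw [h.Ks_eq]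
    exact (le_of_card_prime h.Ks_prime hx.1 hx1 hx.2).trans le_sup_right
  have hΦ : frat Q ≤ centralizer (D : Set G) := by
    apply centralizes_of_fpf D K (frat Q) (h.D_ne_bot c) h.hK1 (h.D_inf_K c) c.hKD (h.cent_k_D c)
      (h.solv_DK c) (h.odd_DK c)
    · haveI : Fact q.Prime := ⟨h.hq⟩
      exact (h.hQp.to_le (frat_le Q)).isNilpotent
    · exact hDQ.trans (normalizer_le_normalizer_frat Q)
    · exact hKQ.trans (normalizer_le_normalizer_frat Q)
    · exact Nat.Coprime.coprime_dvd_right (Subgroup.card_dvd_of_le (frat_le Q)) (h.coprime_DK_Q c)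
    · intro x hx hx1
      rw [eq_bot_iff]
      intro y hy
      have h1 : y ∈ Q ⊓ centralizer ({x} : Set G) := ⟨frat_le Q hy.1, hy.2⟩
      rw [h.hprQ x hx hx1, h.Ks_eq] at h1
      rw [← hKsΦ]
      exact ⟨h1, hy.1⟩
  have hΦ0 : frat Q ≤ Q0 := le_inf (frat_le Q) hΦ
  have hPeq : P = Q0 := sup_eq_left.mpr hΦ0
  refine ⟨hKp, hΦ0, ?_⟩
  rw [hc3, hPeq, hcq]

end Pre

namespace Pre

variable [Finite G] {M N K Q : Subgroup G} {q : ℕ}

/-- **B-G Theorem 15.2, abstract core.** -/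
theorem main (h : Pre M N K Q q) :
    (Nat.card K).Prime ∧ ∀ D' : Subgroup G, Cfsg.IsComplIn Q D' N →
      Group.IsNilpotent ↥D' ∧
      M ≤ normalizer ((Q ⊓ centralizer (D' : Set G) : Subgroup G) : Set G) ∧
      Q ⊓ centralizer (D' : Set G) < Q ∧
      Nat.card Q = Nat.card ↥(Q ⊓ centralizer (D' : Set G)) * q ^ Nat.card K ∧
      (∀ a ∈ Q, ∀ b ∈ Q, a ^ q ∈ Q ⊓ centralizer (D' : Set G) ∧
        a * b * a⁻¹ * b⁻¹ ∈ Q ⊓ centralizer (D' : Set G)) ∧
      ∀ N1 : Subgroup G, Q ⊓ centralizer (D' : Set G) < N1 → N1 < Q →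
        ¬ M ≤ normalizer (N1 : Set G) := by
  classical
  haveI : Fact q.Prime := ⟨h.hq⟩
  have hNsolv : Group.IsSolvable ↥N := by
    haveI := h.hsolv
    exact solvable_of_solvable_injective (Subgroup.inclusion_injective h.hNM)
  obtain ⟨e, he⟩ := h.hQp.exists_card_eq
  have hmn : Nat.card N = Q.relIndex N * Nat.card Q := by
    rw [mul_comm]; exact (Cfsg.Agent.Helper55.BGB.card_mul_relIndex h.hQN).symm
  have hcopmn : (Q.relIndex N).Coprime (Nat.card Q) := by
    rw [he]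
    apply Nat.Coprime.pow_right
    exact ((Nat.Prime.coprime_iff_not_dvd h.hq).mpr h.hQidx).symm
  obtain ⟨D, hDN, hDc, hKD⟩ := Cfsg.Agent.Helper52.exists_invariant_hall K N (h.hKM.trans h.hMN)
    h.hcop.symm hNsolv (Q.relIndex N) (Nat.card Q) hmn hcopmn
  have c : Cpl N K Q D := by
    refine ⟨hDN, ?_, ?_, hKD⟩
    · apply Subgroup.inf_eq_bot_of_coprime
      rw [hDc]; exact hcopmn.symm
    · rw [hDc, mul_comm]; exact hmn.symm
  obtain ⟨hKp, hΦ0, hcardQ⟩ := h.main_D c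
  refine ⟨hKp, ?_⟩
  set Q0 : Subgroup G := Q ⊓ centralizer (D : Set G) with hQ0
  have hQnil := h.isNilpotent_Q
  have hDQ : D ≤ normalizer (Q : Set G) := (c.hDN.trans h.hNM).trans h.hMQ
  have hKQ : K ≤ normalizer (Q : Set G) := h.hKM.trans h.hMQ
  have hDQ0 : D ≤ normalizer (Q0 : Set G) :=
    le_normalizer_inf' hDQ (le_normalizer_centralizer' le_normalizer)
  have hKQ0 : K ≤ normalizer (Q0 : Set G) :=
    le_normalizer_inf' hKQ (le_normalizer_centralizer' c.hKD)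
  have hQQ0 : Q ≤ normalizer (Q0 : Set G) :=
    le_normalizer_of_frat_le Q Q0 hQnil inf_le_left hΦ0
  have hMQ0 : M ≤ normalizer (Q0 : Set G) := by
    refine h.hMle.trans (sup_le ?_ hKQ0)
    exact (h.N_le_QD c).trans (sup_le hQQ0 hDQ0)
  have hlt : Q0 < Q := by
    refine lt_of_le_of_ne inf_le_left ?_
    intro heq
    apply h.not_le_cent c
    rw [← heq]
    exact inf_le_right
  have hmin : ∀ N1 : Subgroup G, Q0 < N1 → N1 < Q → ¬ M ≤ normalizer (N1 : Set G) := by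
    intro N1 h1 h2 hM1
    have hN1Q : N1 ≤ Q := le_of_lt h2
    have hprN1 : ∀ x ∈ K, x ≠ 1 →
        N1 ⊓ centralizer ({x} : Set G) = N1 ⊓ centralizer (K : Set G) := by
      intro x hx hx1
      apply le_antisymm
      · intro y hy
        have : y ∈ Q ⊓ centralizer ({x} : Set G) := ⟨hN1Q hy.1, hy.2⟩
        rw [h.hprQ x hx hx1] at this
        exact ⟨hy.1, this.2⟩
      · exact inf_le_inf_left N1 (centralizer_le (Set.singleton_subset_iff.mpr hx))
    obtain ⟨-, cc, hc1, -, hc3⟩ := frob_section D K N1 Q0 (h.D_ne_bot c) h.hK1 (h.D_inf_K c) c.hKD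
      (h.cent_k_D c) (h.solv_DK c) (h.odd_DK c) (le_of_lt h1) (hN1Q.trans hQQ0)
      (h.hQp.to_le hN1Q).isNilpotent ((h.DK_le c).trans hM1 |> le_sup_left.trans)
      ((h.DK_le c).trans hM1 |> le_sup_right.trans) hDQ0 hKQ0
      (Nat.Coprime.coprime_dvd_right (Subgroup.card_dvd_of_le hN1Q) (h.coprime_DK_Q c))
      (inf_le_inf_right _ hN1Q) hprN1 (not_le_of_gt h1)
    have hd : Nat.card ↥(N1 ⊓ centralizer (K : Set G)) ∣ q := by
      have h3 : N1 ⊓ centralizer (K : Set G) ≤ Q ⊓ centralizer (K : Set G) :=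
        inf_le_inf_right _ hN1Q
      have := Subgroup.card_dvd_of_le h3
      rwa [h.Ks_eq, h.hKsq] at this
    rcases (Nat.dvd_prime h.hq).mp (hc1.trans hd) with h4 | h4
    · rw [h4, one_pow, mul_one] at hc3
      have : Q0 = N1 := Subgroup.eq_of_le_of_card_ge (le_of_lt h1) (le_of_eq hc3)
      exact (ne_of_lt h1) this
    · rw [h4, ← hcardQ] at hc3
      have : N1 = Q := Subgroup.eq_of_le_of_card_ge hN1Q (le_of_eq hc3.symm)
      exact (ne_of_lt h2) this
  intro D' hD'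
  have hD'N : D' ≤ N := hD'.2.1
  have hcD' : Nat.card D' = Q.relIndex N := by
    have h1 := Cfsg.Agent.Helper23.card_of_isComplIn hD'
    have h2 := Cfsg.Agent.Helper55.BGB.card_mul_relIndex h.hQN
    have hpos : 0 < Nat.card Q := Nat.card_pos
    exact Nat.eq_of_mul_eq_mul_left hpos (h1.symm.trans h2.symm)
  obtain ⟨l, hl, hlD⟩ := Cfsg.Agent.Helper52.hall_conj_internal N hNsolv (Q.relIndex N) (Nat.card Q)
    hmn hcopmn D D' hDN hD'N hDc hcD'
  have hlQ : l ∈ normalizer (Q : Set G) := h.hMQ (h.hNM hl)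
  have hlQ0 : l ∈ normalizer (Q0 : Set G) := hMQ0 (h.hNM hl)
  have hQ0eq : Q ⊓ centralizer (D' : Set G) = Q0 := by
    rw [hlD, inf_centralizer_map_conj Q D hlQ]
    exact Cfsg.Agent.Helper52.map_conj_eq_of_mem_normalizer hlQ0
  rw [hQ0eq]
  refine ⟨?_, hMQ0, hlt, hcardQ, ?_, hmin⟩
  · rw [hlD]
    exact (Group.isNilpotent_congr
      (D.equivMapOfInjective _ (MulAut.conj l).injective)).mp (h.isNilpotent_D c)
  · intro a ha b hb
    constructor
    · apply hΦ0
      have := Cfsg.Agent.Helper2.pow_mem_frattini (P := ↥Q) h.hQp (⟨a, ha⟩ : ↥Q)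
      exact ⟨_, this, by simp⟩
    · exact hΦ0 (comm_mem_frat Q hQnil ha hb)

end Pre

theorem exists_prime_elt_of_ne_bot [Finite G] {K : Subgroup G} (hK1 : K ≠ ⊥) :
    ∃ k ∈ K, ∃ p₀ : ℕ, p₀.Prime ∧ p₀ ∣ Nat.card K ∧ k ^ p₀ = 1 ∧ k ≠ 1 := by
  classical
  have hc : Nat.card K ≠ 1 := by
    intro hc
    exact hK1 (Subgroup.card_eq_one.mp hc)
  obtain ⟨p₀, hp₀, hd⟩ := Nat.exists_prime_and_dvd hc
  haveI : Fact p₀.Prime := ⟨hp₀⟩
  obtain ⟨k, hk⟩ := exists_prime_orderOf_dvd_card' (G := ↥K) p₀ hd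
  refine ⟨(k : G), k.2, p₀, hp₀, hd, ?_, ?_⟩
  · have : k ^ p₀ = 1 := by rw [← hk]; exact pow_orderOf_eq_one k
    have := congrArg Subtype.val this
    simpa using this
  · intro h1
    have : k = 1 := Subtype.ext h1
    rw [this, orderOf_one] at hk
    exact hp₀.one_lt.ne hk

/-- Building the data: `Q = O_q(N)`. -/
theorem pre_of [Finite G] (M N K : Subgroup G) (q : ℕ) (hq : q.Prime) (hNM : N ≤ M)
    (hMN : M ≤ normalizer (N : Set G)) (hKM : K ≤ M) (hMle : M ≤ N ⊔ K)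
    (hsolv : Group.IsSolvable ↥M) (hodd : Odd (Nat.card ↥M))
    (hcop : (Nat.card N).Coprime (Nat.card K)) (hK1 : K ≠ ⊥)
    (hKsq : Nat.card ↥(N ⊓ centralizer (K : Set G)) = q)
    (hpr : ∀ k ∈ K, k ≠ 1 → N ⊓ centralizer ({k} : Set G) = N ⊓ centralizer (K : Set G))
    (hNnil : ¬ Group.IsNilpotent ↥N) (hcomm : ⁅N, K⁆ = N) :
    Pre M N K (Cfsg.pCoreOf q N) q := by
  classical
  haveI : Fact q.Prime := ⟨hq⟩
  have hQN : Cfsg.pCoreOf q N ≤ N := by
    unfold Cfsg.pCoreOf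
    rintro _ ⟨y, -, rfl⟩
    exact y.2
  have hKsQ : N ⊓ centralizer (K : Set G) ≤ Cfsg.pCoreOf q N := by
    obtain ⟨x, hx, hx1⟩ := exists_fitting_fixed M N K hNM hMN hKM hMle hsolv hodd hcop hpr hcomm hNnil
    have hxKs : x ∈ N ⊓ centralizer (K : Set G) :=
      ⟨Cfsg.Agent.Helper55.BGB.fittingOf_le N hx.1, hx.2⟩
    have hKsp : (Nat.card ↥(N ⊓ centralizer (K : Set G))).Prime := by rw [hKsq]; exact hq
    have hle : N ⊓ centralizer (K : Set G) ≤ Cfsg.fittingOf N :=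
      le_of_card_prime hKsp hxKs hx1 hx.1
    intro y hy
    have hyq : y ^ (q ^ 1) = 1 := by
      rw [pow_one, ← hKsq]
      have := pow_card_eq_one' (G := ↥(N ⊓ centralizer (K : Set G))) (x := ⟨y, hy⟩)
      have := congrArg Subtype.val this
      simpa using this
    exact Cfsg.Agent.Helper95.BG15.FitSigma.mem_Op_of_mem_fittingOf N q (hle hy) hyq
  refine ⟨hq, hNM, hMN, hKM, hMle, hsolv, hodd, hcop, hK1, hKsq, hpr, hNnil, hQN, ?_, ?_, hKsQ, ?_⟩
  · exact hMN.trans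
      (Cfsg.Agent.Helper24.normalizer_le_normalizer_map_subtype_of_characteristic N (Cfsg.pCore q ↥N))
  · exact Cfsg.Agent.Helper95.BG15.FitSigma.Op_isPGroup N q
  · obtain ⟨k, hk, p₀, hp₀, hpd, hkp, hk1⟩ := exists_prime_elt_of_ne_bot hK1
    apply pCoreOf_sylow_of_fpf N q p₀ hp₀ k (hMN (hKM hk)) hkp
    · exact Nat.Coprime.coprime_dvd_right hpd hcop
    · rw [hpr k hk hk1]
      exact hKsQ

end Cfsg.Agent.Helper55.BG152
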