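import Cfsg.Agent.Lib.Helper81.CharInd
import Cfsg.Agent.Lib.Helper79.LinearChars
import Cfsg.Agent.Lib.Helper80.CharBasic
import Cfsg.Agent.S0169

set_option autoImplicit false

/-! Blichfeldt's theorem (abelian Hall subgroups of linear groups), character-theoretic part 1:
linear groups `Lin n G`, restriction, and commutativity from Ito's theorem. -/

namespace Cfsg.Agent.Helper55.Blich

open Cfsg

universe u

/-- `G` has a faithful character of degree at most `n`. -/
def Lin (n : ℕ) (G : Type u) [Group G] : Prop :=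
  ∃ χ : G → ℂ, IsCharacter G χ ∧ (∀ g : G, χ g = χ 1 → g = 1) ∧ charDegree χ ≤ n

/-- `G` has a faithful irreducible character of degree at most `n`. -/
def IrrLin (n : ℕ) (G : Type u) [Group G] : Prop :=
  ∃ χ : G → ℂ, IsIrrCharacter G χ ∧ (∀ g : G, χ g = χ 1 → g = 1) ∧ charDegree χ ≤ n

variable {G : Type u} [Group G]

theorem IrrLin.lin {n : ℕ} (h : IrrLin n G) : Lin n G := by
  obtain ⟨χ, hχ, hf, hd⟩ := h
  exact ⟨χ, Cfsg.Agent.Helper80.isCharacter_of_irr hχ, hf, hd⟩

theorem Lin.mono {n m : ℕ} (h : Lin n G) (hnm : n ≤ m) : Lin m G := by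
  obtain ⟨χ, hχ, hf, hd⟩ := h
  exact ⟨χ, hχ, hf, hd.trans hnm⟩

theorem Lin.restrict {n : ℕ} (h : Lin n G) (H : Subgroup G) : Lin n H := by
  obtain ⟨χ, hχ, hf, hd⟩ := h
  refine ⟨fun h : H => χ h, Cfsg.Agent.Helper81.isCharacter_restrict H hχ, ?_, ?_⟩
  · intro g hg
    have : (g : G) = 1 := hf g (by simpa using hg)
    exact Subtype.ext this
  · simpa [charDegree] using hd

section decomp

variable [Finite G]

/-- the degree of a character is the sum of the degrees of its constituents -/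
theorem charDegree_decomp [Fintype (IrrCharacter G)] {χ : G → ℂ}
    (m : IrrCharacter G → ℕ) (hm : χ = ∑ ψ, (m ψ : ℂ) • (ψ : G → ℂ)) :
    charDegree χ = ∑ ψ, m ψ * charDegree (ψ : G → ℂ) := by
  have h1 : χ 1 = ((∑ ψ, m ψ * charDegree (ψ : G → ℂ) : ℕ) : ℂ) := by
    rw [hm]
    simp only [Finset.sum_apply, Pi.smul_apply, smul_eq_mul]
    push_cast
    apply Finset.sum_congr rfl
    intro ψ _
    rw [Cfsg.Agent.Helper80.irr_one ψ]
  rw [show charDegree χ = ⌊(χ 1).re⌋₊ from rfl, h1, Complex.natCast_re, Nat.floor_natCast]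

theorem charDegree_le_of_constituent [Fintype (IrrCharacter G)] {χ : G → ℂ}
    (m : IrrCharacter G → ℕ) (hm : χ = ∑ ψ, (m ψ : ℂ) • (ψ : G → ℂ)) (ψ : IrrCharacter G)
    (hψ : m ψ ≠ 0) : charDegree (ψ : G → ℂ) ≤ charDegree χ := by
  rw [charDegree_decomp m hm]
  calc charDegree (ψ : G → ℂ) ≤ m ψ * charDegree (ψ : G → ℂ) :=
        Nat.le_mul_of_pos_left _ (Nat.pos_of_ne_zero hψ)
    _ ≤ _ := Finset.single_le_sum (f := fun ψ => m ψ * charDegree (ψ : G → ℂ))
        (fun _ _ => Nat.zero_le _) (Finset.mem_univ ψ)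

/-- if all irreducible constituents of a faithful character are linear, the group is abelian -/
theorem comm_of_linear_constituents [Fintype (IrrCharacter G)] {χ : G → ℂ}
    (hf : ∀ g : G, χ g = χ 1 → g = 1)
    (m : IrrCharacter G → ℕ) (hm : χ = ∑ ψ, (m ψ : ℂ) • (ψ : G → ℂ))
    (hlin : ∀ ψ, m ψ ≠ 0 → charDegree (ψ : G → ℂ) = 1) (a b : G) : a * b = b * a := by
  have key : χ (a * b * a⁻¹ * b⁻¹) = χ 1 := by
    rw [hm]
    simp only [Finset.sum_apply, Pi.smul_apply, smul_eq_mul]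
    apply Finset.sum_congr rfl
    intro ψ _
    by_cases h0 : m ψ = 0
    · simp [h0]
    · have hl := hlin ψ h0
      have hmul := fun z g => (Cfsg.Agent.Helper79.irr_mul_of_degree_one ψ hl z g).1
      have h1 : (ψ : G → ℂ) 1 = 1 := by
        rw [Cfsg.Agent.Helper80.irr_one ψ, hl]; simp
      have hinv : ∀ g : G, (ψ : G → ℂ) g * (ψ : G → ℂ) g⁻¹ = 1 := by
        intro g
        rw [← hmul, mul_inv_cancel, h1]
      congr 1
      rw [hmul, hmul, hmul, h1]
      calc (ψ : G → ℂ) a * (ψ : G → ℂ) b * (ψ : G → ℂ) a⁻¹ * (ψ : G → ℂ) b⁻¹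
          = ((ψ : G → ℂ) a * (ψ : G → ℂ) a⁻¹) * ((ψ : G → ℂ) b * (ψ : G → ℂ) b⁻¹) := by ring
        _ = 1 := by rw [hinv, hinv, one_mul]
  have := hf _ key
  have h2 : a * b = (a * b * a⁻¹ * b⁻¹) * (b * a) := by group
  rw [h2, this, one_mul]

/-- Ito's theorem for irreducible characters -/
theorem ito_dvd (N : Subgroup G) [N.Normal] (hcomm : ∀ a ∈ N, ∀ b ∈ N, a * b = b * a)
    (χ : IrrCharacter G) : charDegree (χ : G → ℂ) ∣ N.index := by
  obtain ⟨n, ρ, hirr, hχ⟩ := χ.2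
  have h1 := @Cfsg.Agent.S0169.result _ _ _ _ _ _ _ ρ hirr N _ hcomm
  have h2 : charDegree (χ : G → ℂ) = Module.finrank ℂ (Fin n → ℂ) := by
    unfold charDegree
    rw [← hχ, Representation.char_one]
    simp
  rw [h2]
  exact h1

/-- a linear group of degree `n` with an abelian normal subgroup of index a power of a prime
`r > n` is abelian -/
theorem comm_of_abelian_normal_prime_pow_index {n : ℕ} (h : Lin n G) (r : ℕ) (hr : r.Prime)
    (hnr : n < r) (B : Subgroup G) [B.Normal] (hB : ∀ a ∈ B, ∀ b ∈ B, a * b = b * a)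
    (i : ℕ) (hi : B.index = r ^ i) (a b : G) : a * b = b * a := by
  obtain ⟨χ, hχ, hf, hd⟩ := h
  haveI : Fintype (IrrCharacter G) := Fintype.ofFinite _
  obtain ⟨m, hm⟩ := Cfsg.Agent.Helper81.exists_nat_decomp hχ
  refine comm_of_linear_constituents hf m hm ?_ a b
  intro ψ hψ
  have h1 : charDegree (ψ : G → ℂ) ≤ n := (charDegree_le_of_constituent m hm ψ hψ).trans hd
  have h2 : charDegree (ψ : G → ℂ) ∣ r ^ i := hi ▸ ito_dvd B hB ψ
  obtain ⟨j, _, hj⟩ := (Nat.dvd_prime_pow hr).1 h2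
  rcases j with _ | j
  · simpa using hj
  · exfalso
    have : r ≤ charDegree (ψ : G → ℂ) := by
      rw [hj, pow_succ]
      exact Nat.le_mul_of_pos_left _ (pow_pos hr.pos _)
    omega

end decomp

end Cfsg.Agent.Helper55.Blich
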