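import Mathlib
import Cfsg.Agent.Lib.Helper55.BGFrob

/-!
# BG153 (A): the third conclusion of S1446 (B-G Thm 3.10) on a section `V / P`
(piece (A) of helper35's lemma server for S1356)
-/

set_option autoImplicit false

namespace Cfsg.Agent.Helper55.BG153

open Subgroup
open scoped commutatorElement

theorem frob_section3 {X : Type*} [Group X] [Finite X] (D K V P : Subgroup X)
    (hD1 : D ≠ ⊥) (hK1 : K ≠ ⊥) (hDK : D ⊓ K = ⊥) (hKD : K ≤ normalizer (D : Set X))
    (hfrob : ∀ r ∈ K, r ≠ 1 → D ⊓ centralizer ({r} : Set X) = ⊥)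
    (hsolv : Group.IsSolvable ↥(D ⊔ K)) (hodd : Odd (Nat.card ↥(D ⊔ K)))
    (hPV : P ≤ V) (hPn : V ≤ normalizer (P : Set X))
    (hVn : Group.IsNilpotent V)
    (hDV : D ≤ normalizer (V : Set X)) (hKV : K ≤ normalizer (V : Set X))
    (hDP : D ≤ normalizer (P : Set X)) (hKP : K ≤ normalizer (P : Set X))
    (hcop : (Nat.card ↥(D ⊔ K)).Coprime (Nat.card V))
    (hCD : V ⊓ centralizer (D : Set X) ≤ P)
    (hpr : ∀ x ∈ K, x ≠ 1 → V ⊓ centralizer ({x} : Set X) = V ⊓ centralizer (K : Set X))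
    (hne : ¬ V ≤ P)
    (hcyc : IsCyclic ↥(V ⊓ centralizer (K : Set X))) :
    ∀ d ∈ ⁅D, D⁆, ∀ v ∈ V, d * v * d⁻¹ * v⁻¹ ∈ P := by
  classical
  set L : Subgroup X := normalizer (P : Set X) with hL
  have hPL : P ≤ L := le_normalizer
  have hDKL : D ⊔ K ≤ L := sup_le hDP hKP
  have hDL : D ≤ L := hDP
  have hKL : K ≤ L := hKP
  have hVL : V ≤ L := hPn
  haveI hPLn : (P.subgroupOf L).Normal := Subgroup.normal_in_normalizer
  set f : ↥L →* ↥L ⧸ P.subgroupOf L := QuotientGroup.mk' (P.subgroupOf L) with hf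
  have hf1 : ∀ z : ↥L, f z = 1 ↔ (z : X) ∈ P := by
    intro z
    rw [hf, QuotientGroup.mk'_apply, QuotientGroup.eq_one_iff, mem_subgroupOf]
  have hfeq : ∀ z w : ↥L, f z = f w ↔ (z : X)⁻¹ * (w : X) ∈ P := by
    intro z w
    rw [hf, QuotientGroup.mk'_apply, QuotientGroup.mk'_apply, QuotientGroup.eq, mem_subgroupOf]
    simp
  -- coprimality consequences
  have hcopP : (Nat.card ↥(D ⊔ K)).Coprime (Nat.card P) :=
    Nat.Coprime.coprime_dvd_right (card_dvd_of_le hPV) hcop
  have hbot : (D ⊔ K) ⊓ P = ⊥ := (disjoint_of_coprime_natCard hcopP).eq_bot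
  have hbot' : ∀ x ∈ D ⊔ K, x ∈ P → x = 1 := by
    intro x hx hxP
    have : x ∈ (D ⊔ K) ⊓ P := ⟨hx, hxP⟩
    rw [hbot] at this
    exact mem_bot.mp this
  have hDcopV : (Nat.card D).Coprime (Nat.card V) :=
    Nat.Coprime.coprime_dvd_left (card_dvd_of_le le_sup_left) hcop
  have hKcopV : (Nat.card K).Coprime (Nat.card V) :=
    Nat.Coprime.coprime_dvd_left (card_dvd_of_le le_sup_right) hcop
  haveI hDsolv : Group.IsSolvable ↥D := by
    haveI := hsolv
    have hle : D ≤ D ⊔ K := le_sup_left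
    exact solvable_of_solvable_injective (f := Subgroup.inclusion hle) (Subgroup.inclusion_injective hle)
  haveI hKsolv : Group.IsSolvable ↥K := by
    haveI := hsolv
    have hle : K ≤ D ⊔ K := le_sup_right
    exact solvable_of_solvable_injective (f := Subgroup.inclusion hle) (Subgroup.inclusion_injective hle)
  -- images
  set D' : Subgroup (↥L ⧸ P.subgroupOf L) := (D.subgroupOf L).map f with hD'
  set K' : Subgroup (↥L ⧸ P.subgroupOf L) := (K.subgroupOf L).map f with hK'
  set V' : Subgroup (↥L ⧸ P.subgroupOf L) := (V.subgroupOf L).map f with hV'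
  have hsup' : D' ⊔ K' = ((D ⊔ K).subgroupOf L).map f := by
    rw [hD', hK', ← Subgroup.map_sup, ← subgroupOf_sup hDL hKL]
  -- lifting lemma
  have lift : ∀ (A : Subgroup X), A ≤ normalizer (V : Set X) → A ≤ normalizer (P : Set X) →
      (Nat.card A).Coprime (Nat.card V) → Group.IsSolvable ↥A →
      ∀ z : ↥L, (z : X) ∈ V → (∀ a : ↥L, (a : X) ∈ A → f z * f a = f a * f z) →
      ∃ c : ↥L, (c : X) ∈ V ⊓ centralizer (A : Set X) ∧ f c = f z := by
    intro A hAV hAP hAcop hAsolv z hzV hcomm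
    have hcomm' : ∀ a ∈ A, (z : X) * a * (z : X)⁻¹ * a⁻¹ ∈ P := by
      intro a ha
      have haL : a ∈ L := hAP ha
      have h1 := hcomm ⟨a, haL⟩ ha
      have h2 : f (z * ⟨a, haL⟩ * z⁻¹ * (⟨a, haL⟩ : ↥L)⁻¹) = 1 := by
        rw [map_mul, map_mul, map_mul, map_inv, map_inv, h1]
        group
      have h3 := (hf1 _).mp h2
      simpa using h3
    obtain ⟨n, hn, c, hc, hzc⟩ := Cfsg.Agent.Helper52.exists_mul_centralizer_of_comm_mem V P A hPV hAV hAP
      hAcop (Or.inr hAsolv) (z : X) hzV hcomm'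
    have hcL : c ∈ L := hVL hc.1
    refine ⟨⟨c, hcL⟩, hc, ?_⟩
    rw [hfeq]
    have : (c : X)⁻¹ * (z : X) = c⁻¹ * n * c := by rw [hzc]; group
    simp only
    rw [this]
    have hcn : c ∈ normalizer (P : Set X) := hcL
    have := (mem_normalizer_iff.mp (inv_mem hcn) n).mp hn
    simpa using this
  -- S1446 hypotheses
  have h1 : D' ≠ ⊥ := by
    intro h
    apply hD1
    rw [eq_bot_iff]
    intro d hd
    have hfd : f ⟨d, hDL hd⟩ ∈ D' := by
      rw [hD']; exact mem_map_of_mem f (by rw [mem_subgroupOf]; exact hd)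
    rw [h, mem_bot, hf1] at hfd
    exact mem_bot.mpr (hbot' d (le_sup_left (a := D) (b := K) hd) hfd)
  have h2 : K' ≠ ⊥ := by
    intro h
    apply hK1
    rw [eq_bot_iff]
    intro d hd
    have hfd : f ⟨d, hKL hd⟩ ∈ K' := by
      rw [hK']; exact mem_map_of_mem f (by rw [mem_subgroupOf]; exact hd)
    rw [h, mem_bot, hf1] at hfd
    exact mem_bot.mpr (hbot' d (le_sup_right (a := D) (b := K) hd) hfd)
  have h3 : D' ⊓ K' = ⊥ := by
    rw [eq_bot_iff]
    rintro y ⟨hyD, hyK⟩
    obtain ⟨d, hd, rfl⟩ := hyD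
    obtain ⟨k, hk, hkd⟩ := hyK
    replace hd : (d : X) ∈ D := hd
    replace hk : (k : X) ∈ K := hk
    have h := (hfeq k d).mp hkd
    have hdk : (k : X)⁻¹ * (d : X) ∈ D ⊔ K :=
      mul_mem (inv_mem (le_sup_right (a := D) (b := K) hk)) (le_sup_left (a := D) (b := K) hd)
    have h1' := hbot' _ hdk h
    have hkd' : (k : X) = d := by
      have := inv_mul_eq_one.mp h1'
      exact this
    have hdDK : (d : X) ∈ D ⊓ K := ⟨hd, hkd' ▸ hk⟩
    rw [hDK, mem_bot] at hdDK
    rw [mem_bot]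
    have : d = 1 := Subtype.ext hdDK
    rw [this, map_one]
  have h4 : K' ≤ normalizer (D' : Set (↥L ⧸ P.subgroupOf L)) := by
    have hle : K.subgroupOf L ≤ normalizer ((D.subgroupOf L : Subgroup ↥L) : Set ↥L) := by
      intro k hk
      rw [mem_subgroupOf] at hk
      rw [mem_normalizer_iff]
      intro d
      rw [mem_subgroupOf, mem_subgroupOf]
      have := mem_normalizer_iff.mp (hKD hk) (d : X)
      simpa using this
    exact (Subgroup.map_mono hle).trans (le_normalizer_map f)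
  have h5 : ∀ r ∈ K', r ≠ 1 → D' ⊓ centralizer ({r} : Set (↥L ⧸ P.subgroupOf L)) = ⊥ := by
    rintro r ⟨k, hk, rfl⟩ hr1
    replace hk : (k : X) ∈ K := hk
    have hk1 : (k : X) ≠ 1 := by
      intro h
      apply hr1
      have : k = 1 := Subtype.ext h
      rw [this, map_one]
    rw [eq_bot_iff]
    rintro y ⟨⟨d, hd, rfl⟩, hyc⟩
    replace hd : (d : X) ∈ D := hd
    replace hyc : f d ∈ centralizer ({f k} : Set (↥L ⧸ P.subgroupOf L)) := hyc
    rw [mem_centralizer_singleton_iff] at hyc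
    -- f d commutes with f k
    have h2' : f (d * k * d⁻¹ * k⁻¹) = 1 := by
      rw [map_mul, map_mul, map_mul, map_inv, map_inv, hyc]
      group
    have h3' := (hf1 _).mp h2'
    have hmem : (d : X) * k * (d : X)⁻¹ * (k : X)⁻¹ ∈ D := by
      have : (k : X) * (d : X)⁻¹ * (k : X)⁻¹ ∈ D :=
        (mem_normalizer_iff.mp (hKD hk) _).mp (inv_mem hd)
      have h := mul_mem hd this
      have e : (d : X) * ((k : X) * (d : X)⁻¹ * (k : X)⁻¹) = (d : X) * k * (d : X)⁻¹ * (k : X)⁻¹ := by group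
      rwa [e] at h
    have h4' := hbot' _ (le_sup_left (a := D) (b := K) hmem) (by simpa using h3')
    have hcomm : (d : X) * k = k * d := by
      have := mul_inv_eq_one.mp h4'
      calc (d : X) * k = ((d : X) * k * (d : X)⁻¹) * d := by group
        _ = k * d := by rw [this]
    have hdc : (d : X) ∈ D ⊓ centralizer ({(k : X)} : Set X) := by
      refine ⟨hd, ?_⟩
      show (d : X) ∈ centralizer ({(k : X)} : Set X)
      rw [mem_centralizer_singleton_iff]
      exact hcomm
    rw [hfrob _ hk hk1, mem_bot] at hdc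
    rw [mem_bot]
    have : d = 1 := Subtype.ext hdc
    rw [this, map_one]
  have hDKsolv' : Group.IsSolvable ↥((D ⊔ K).subgroupOf L) := by
    haveI := hsolv
    exact solvable_of_solvable_injective (f := (subgroupOfEquivOfLe hDKL).toMonoidHom)
      (subgroupOfEquivOfLe hDKL).injective
  have h6 : Group.IsSolvable ↥(D' ⊔ K') := by
    rw [hsup']
    haveI := hDKsolv'
    exact solvable_of_surjective (f.subgroupMap_surjective _)
  have hcard_sup : Nat.card ↥(D' ⊔ K') ∣ Nat.card ↥(D ⊔ K) := by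
    rw [hsup']
    have := card_map_dvd ((D ⊔ K).subgroupOf L) f
    rwa [Nat.card_congr (subgroupOfEquivOfLe hDKL).toEquiv] at this
  have h7 : Odd (Nat.card ↥(D' ⊔ K')) := by
    obtain ⟨m, hm⟩ := hcard_sup
    rw [hm] at hodd
    exact (Nat.odd_mul.mp hodd).1
  have hcardV' : Nat.card ↥V' ∣ Nat.card V := by
    have := card_map_dvd (V.subgroupOf L) f
    rwa [Nat.card_congr (subgroupOfEquivOfLe hVL).toEquiv] at this
  have h8 : V' ≠ ⊥ := by
    intro h
    apply hne
    intro v hv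
    have hfv : f ⟨v, hVL hv⟩ ∈ V' := by
      rw [hV']; exact mem_map_of_mem f (by rw [mem_subgroupOf]; exact hv)
    rw [h, mem_bot, hf1] at hfv
    exact hfv
  have h9 : Group.IsNilpotent ↥V' := by
    haveI : Group.IsNilpotent ↥(V.subgroupOf L) :=
      nilpotent_of_mulEquiv (subgroupOfEquivOfLe hVL).symm
    rw [hV']
    exact nilpotent_of_surjective _ (f.subgroupMap_surjective _)
  have normIm : ∀ A : Subgroup X, A ≤ L → A ≤ normalizer (V : Set X) →
      (A.subgroupOf L).map f ≤ normalizer (V' : Set (↥L ⧸ P.subgroupOf L)) := by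
    intro A hAL hAV
    have hle : A.subgroupOf L ≤ normalizer ((V.subgroupOf L : Subgroup ↥L) : Set ↥L) := by
      intro k hk
      rw [mem_subgroupOf] at hk
      rw [mem_normalizer_iff]
      intro d
      rw [mem_subgroupOf, mem_subgroupOf]
      have := mem_normalizer_iff.mp (hAV hk) (d : X)
      simpa using this
    exact (Subgroup.map_mono hle).trans (le_normalizer_map f)
  have h10 : D' ≤ normalizer (V' : Set (↥L ⧸ P.subgroupOf L)) := normIm D hDL hDV
  have h11 : K' ≤ normalizer (V' : Set (↥L ⧸ P.subgroupOf L)) := normIm K hKL hKV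
  have h12 : (Nat.card ↥(D' ⊔ K')).Coprime (Nat.card V') :=
    Nat.Coprime.coprime_dvd_left hcard_sup (Nat.Coprime.coprime_dvd_right hcardV' hcop)
  have h13 : V' ⊓ centralizer (D' : Set (↥L ⧸ P.subgroupOf L)) = ⊥ := by
    rw [eq_bot_iff]
    rintro y ⟨⟨z, hz, rfl⟩, hyc⟩
    replace hz : (z : X) ∈ V := hz
    replace hyc : f z ∈ centralizer (D' : Set (↥L ⧸ P.subgroupOf L)) := hyc
    rw [mem_centralizer_iff] at hyc
    obtain ⟨c, hc, hfc⟩ := lift D hDV hDP hDcopV hDsolv z hz (by
      intro a ha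
      have : f a ∈ (D' : Set (↥L ⧸ P.subgroupOf L)) := by
        rw [hD']; exact mem_map_of_mem f (by rw [mem_subgroupOf]; exact ha)
      exact (hyc _ this).symm)
    rw [mem_bot, ← hfc, hf1]
    exact hCD hc
  have h14 : ∀ x ∈ K', x ≠ 1 → V' ⊓ centralizer ({x} : Set (↥L ⧸ P.subgroupOf L)) =
      V' ⊓ centralizer (K' : Set (↥L ⧸ P.subgroupOf L)) := by
    rintro x ⟨k, hk, rfl⟩ hx1
    replace hk : (k : X) ∈ K := hk
    have hk1 : (k : X) ≠ 1 := by
      intro h
      apply hx1
      have : k = 1 := Subtype.ext h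
      rw [this, map_one]
    apply le_antisymm
    · rintro y ⟨⟨z, hz, rfl⟩, hyc⟩
      replace hz : (z : X) ∈ V := hz
      replace hyc : f z ∈ centralizer ({f k} : Set (↥L ⧸ P.subgroupOf L)) := hyc
      rw [mem_centralizer_singleton_iff] at hyc
      have hzk : zpowers (k : X) ≤ K := by rw [zpowers_le]; exact hk
      have hAcop : (Nat.card (zpowers (k : X))).Coprime (Nat.card V) :=
        Nat.Coprime.coprime_dvd_left (card_dvd_of_le hzk) hKcopV
      haveI : Group.IsSolvable ↥(zpowers (k : X)) := by infer_instance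
      obtain ⟨c, hc, hfc⟩ := lift (zpowers (k : X)) (hzk.trans hKV) (hzk.trans hKP) hAcop
        inferInstance z hz (by
          intro a ha
          obtain ⟨n, hn⟩ := mem_zpowers_iff.mp ha
          have ha' : a = k ^ n := by
            apply Subtype.ext
            rw [← hn]; simp
          rw [ha', map_zpow]
          have hcm : Commute (f z) (f k) := hyc
          exact (hcm.zpow_right n).eq)
      refine ⟨?_, ?_⟩
      · rw [hV']; exact mem_map_of_mem f (by rw [mem_subgroupOf]; exact hz)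
      · rw [← hfc]
        have hcK : (c : X) ∈ V ⊓ centralizer (K : Set X) := by
          rw [← hpr _ hk hk1]
          refine ⟨hc.1, ?_⟩
          show (c : X) ∈ centralizer ({(k : X)} : Set X)
          rw [mem_centralizer_singleton_iff]
          have := (mem_centralizer_iff.mp hc.2) (k : X) (mem_zpowers _)
          exact this.symm
        show f c ∈ centralizer (K' : Set (↥L ⧸ P.subgroupOf L))
        rw [mem_centralizer_iff]
        rintro w ⟨w', hw', rfl⟩
        replace hw' : (w' : X) ∈ K := hw'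
        have := (mem_centralizer_iff.mp hcK.2) (w' : X) hw'
        rw [← map_mul, ← map_mul]
        congr 1
        exact Subtype.ext this
    · rintro y ⟨hyV, hyc⟩
      replace hyc : y ∈ centralizer (K' : Set (↥L ⧸ P.subgroupOf L)) := hyc
      refine ⟨hyV, ?_⟩
      show y ∈ centralizer ({f k} : Set (↥L ⧸ P.subgroupOf L))
      rw [mem_centralizer_singleton_iff]
      have : f k ∈ (K' : Set (↥L ⧸ P.subgroupOf L)) := by
        rw [hK']; exact mem_map_of_mem f (by rw [mem_subgroupOf]; exact hk)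
      exact ((mem_centralizer_iff.mp hyc) _ this).symm
  obtain ⟨-, -, h3rd⟩ := Cfsg.Agent.S1446.result D' K' V' h1 h2 h3 h4 h5 h6 h7 h8 h9 h10 h11 h12 h13 h14
  have himg : V' ⊓ centralizer (K' : Set (↥L ⧸ P.subgroupOf L)) =
      ((V ⊓ centralizer (K : Set X)).subgroupOf L).map f := by
    apply le_antisymm
    · rintro y ⟨⟨z, hz, rfl⟩, hyc⟩
      replace hz : (z : X) ∈ V := hz
      obtain ⟨c, hc, hfc⟩ := lift K hKV hKP hKcopV hKsolv z hz (by
        intro a ha
        have : f a ∈ (K' : Set (↥L ⧸ P.subgroupOf L)) := by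
          rw [hK']; exact mem_map_of_mem f (by rw [mem_subgroupOf]; exact ha)
        exact ((mem_centralizer_iff.mp hyc) _ this).symm)
      rw [← hfc]
      exact mem_map_of_mem f (by rw [mem_subgroupOf]; exact hc)
    · rintro y ⟨z, hz, rfl⟩
      replace hz : (z : X) ∈ V ⊓ centralizer (K : Set X) := hz
      refine ⟨?_, ?_⟩
      · rw [hV']; exact mem_map_of_mem f (by rw [mem_subgroupOf]; exact hz.1)
      · show f z ∈ centralizer (K' : Set (↥L ⧸ P.subgroupOf L))
        rw [mem_centralizer_iff]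
        rintro w ⟨w', hw', rfl⟩
        replace hw' : (w' : X) ∈ K := hw'
        have := (mem_centralizer_iff.mp hz.2) (w' : X) hw'
        rw [← map_mul, ← map_mul]
        congr 1
        exact Subtype.ext this
  have hcyc' : IsCyclic ↥(V' ⊓ centralizer (K' : Set (↥L ⧸ P.subgroupOf L))) := by
    rw [himg]
    have hle : V ⊓ centralizer (K : Set X) ≤ L := inf_le_left.trans hVL
    haveI : IsCyclic ↥((V ⊓ centralizer (K : Set X)).subgroupOf L) :=
      isCyclic_of_surjective (subgroupOfEquivOfLe hle).symm.toMonoidHom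
        (subgroupOfEquivOfLe hle).symm.surjective
    exact isCyclic_of_surjective (f.subgroupMap _) (f.subgroupMap_surjective _)
  have hcent := h3rd hcyc'
  have hcommD : ∀ d ∈ ⁅D, D⁆, ∃ hd : d ∈ L, f ⟨d, hd⟩ ∈ ⁅D', D'⁆ := by
    intro d hd
    have hDDL : ⁅D, D⁆ ≤ L := D.commutator_le_self.trans hDL
    refine ⟨hDDL hd, ?_⟩
    rw [hD', ← Subgroup.map_commutator]
    apply mem_map_of_mem
    -- `⟨d, _⟩ ∈ ⁅D.subgroupOf L, D.subgroupOf L⁆`
    have hmap : (⁅D.subgroupOf L, D.subgroupOf L⁆).map L.subtype = ⁅D, D⁆ := by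
      rw [Subgroup.map_commutator, map_subgroupOf_eq_of_le hDL]
    have hd' : d ∈ (⁅D.subgroupOf L, D.subgroupOf L⁆).map L.subtype := by rw [hmap]; exact hd
    obtain ⟨y, hy, hyd⟩ := hd'
    have : y = ⟨d, hDDL hd⟩ := Subtype.ext hyd
    rwa [this] at hy
  intro d hd v hv
  obtain ⟨hdL, hfd⟩ := hcommD d hd
  have hfv : f ⟨v, hVL hv⟩ ∈ V' := by
    rw [hV']; exact mem_map_of_mem f (by rw [mem_subgroupOf]; exact hv)
  have hc := (mem_centralizer_iff.mp (hcent hfd)) _ hfv
  -- hc : f v * f d = f d * f v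
  have h2' : f ((⟨d, hdL⟩ : ↥L) * ⟨v, hVL hv⟩ * (⟨d, hdL⟩ : ↥L)⁻¹ * (⟨v, hVL hv⟩ : ↥L)⁻¹) = 1 := by
    rw [map_mul, map_mul, map_mul, map_inv, map_inv, ← hc]
    group
  have h3' := (hf1 _).mp h2'
  simpa using h3'

end Cfsg.Agent.Helper55.BG153
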