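import Mathlib

set_option autoImplicit false

/-!
# Sylow numbers of the form `2p + 1`

Tools for proving that certain numbers `2p+1` are not Sylow `p`-numbers
(minimal counterexample technique).
-/

namespace Cfsg.Agent.Helper55.SylNum

open MulAction

universe u

variable {G : Type u} [Group G] [Finite G] {p : ℕ} [Fact p.Prime]

/-- A `p`-subgroup normalizing a Sylow `p`-subgroup is contained in it. -/
theorem le_sylow_of_le_normalizer {H : Subgroup G} (hH : IsPGroup p H) (Q : Sylow p G)
    (h : H ≤ Subgroup.normalizer ((Q : Subgroup G) : Set G)) : H ≤ (Q : Subgroup G) :=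
  hH.sylow_mem_fixedPoints_iff.mp ((H.sylow_mem_fixedPoints_iff).mpr h)

/-- If the normal subgroup `K` normalizes every Sylow `p`-subgroup, then `G ⧸ K` has as many
Sylow `p`-subgroups as `G`. -/
theorem card_sylow_quotient (K : Subgroup G) [K.Normal]
    (hK : ∀ P : Sylow p G, K ≤ Subgroup.normalizer ((P : Subgroup G) : Set G)) :
    Nat.card (Sylow p (G ⧸ K)) = Nat.card (Sylow p G) := by
  have hs : Function.Surjective (QuotientGroup.mk' K) := QuotientGroup.mk'_surjective K
  have hbij : Function.Bijective (fun P : Sylow p G => P.mapSurjective hs) := by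
    refine ⟨?_, Sylow.mapSurjective_surjective hs p⟩
    intro P Q hPQ
    have h1 : (P : Subgroup G).map (QuotientGroup.mk' K) = (Q : Subgroup G).map (QuotientGroup.mk' K) := by
      have := congrArg (fun R : Sylow p (G ⧸ K) => (R : Subgroup (G ⧸ K))) hPQ
      simpa using this
    have h2 : (Q : Subgroup G) ≤ (P : Subgroup G) ⊔ K := by
      have := congrArg (Subgroup.comap (QuotientGroup.mk' K)) h1
      rw [Subgroup.comap_map_eq, Subgroup.comap_map_eq, QuotientGroup.ker_mk'] at this
      rw [this]; exact le_sup_left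
    have h3 : (P : Subgroup G) ⊔ K ≤ Subgroup.normalizer ((P : Subgroup G) : Set G) :=
      sup_le Subgroup.le_normalizer (hK P)
    have h4 : (Q : Subgroup G) ≤ (P : Subgroup G) :=
      le_sylow_of_le_normalizer Q.isPGroup' P (h2.trans h3)
    exact Sylow.ext (Q.is_maximal' P.isPGroup' h4)
  exact (Nat.card_congr (Equiv.ofBijective _ hbij)).symm

/-- If the subgroup `H` contains every Sylow `p`-subgroup, then `H` has as many
Sylow `p`-subgroups as `G`. -/
theorem card_sylow_subgroup (H : Subgroup G)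
    (hH : ∀ P : Sylow p G, (P : Subgroup G) ≤ H) :
    Nat.card (Sylow p H) = Nat.card (Sylow p G) := by
  have hbij : Function.Bijective (fun P : Sylow p G => P.subtype (hH P)) := by
    refine ⟨fun P Q h => Sylow.subtype_injective h, ?_⟩
    intro R
    obtain ⟨P, hP⟩ := (R.isPGroup'.map H.subtype).exists_le_sylow
    refine ⟨P, ?_⟩
    have hle : (R : Subgroup H) ≤ (P.subtype (hH P) : Subgroup H) := by
      intro x hx
      rw [Sylow.coe_subtype, Subgroup.mem_subgroupOf]
      exact hP ⟨x, hx, rfl⟩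
    exact Sylow.ext (R.is_maximal' (P.subtype (hH P)).isPGroup' hle)
  exact (Nat.card_congr (Equiv.ofBijective _ hbij)).symm


open scoped Pointwise

omit [Finite G] [Fact p.Prime] in
theorem mem_smul_sylow (g : G) (T : Sylow p G) (x : G) :
    x ∈ ((g • T : Sylow p G) : Subgroup G) ↔ g⁻¹ * x * g ∈ (T : Subgroup G) := by
  rw [Sylow.coe_subgroup_smul, Subgroup.mem_pointwise_smul_iff_inv_smul_mem]
  simp [MulAut.smul_def]

/-- Hypotheses satisfied by a minimal group with exactly `2p+1` Sylow `p`-subgroups. -/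
structure MinCE (p : ℕ) [Fact p.Prime] (G : Type u) [Group G] [Finite G] : Prop where
  hp3 : 3 ≤ p
  card_syl : Nat.card (Sylow p G) = 2 * p + 1
  faithful : ∀ K : Subgroup G, K.Normal →
    (∀ P : Sylow p G, K ≤ Subgroup.normalizer ((P : Subgroup G) : Set G)) → K = ⊥
  no_proper : ∀ H : Subgroup G, (∀ P : Sylow p G, (P : Subgroup G) ≤ H) → H = ⊤

/-- For an element `c` of a Sylow `p`-subgroup: `c` fixes `Q` iff `c ∈ Q`. -/
theorem smul_eq_iff_mem {c : G} {P : Sylow p G} (hc : c ∈ (P : Subgroup G)) (Q : Sylow p G) :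
    c • Q = Q ↔ c ∈ (Q : Subgroup G) := by
  constructor
  · intro h
    have h1 : c ∈ Subgroup.normalizer ((Q : Subgroup G) : Set G) := Sylow.smul_eq_iff_mem_normalizer.mp h
    have h2 : IsPGroup p (Subgroup.zpowers c) := P.isPGroup'.to_le (Subgroup.zpowers_le.mpr hc)
    have h3 := le_sylow_of_le_normalizer h2 Q (Subgroup.zpowers_le.mpr h1)
    exact h3 (Subgroup.mem_zpowers c)
  · intro h
    exact Sylow.smul_eq_iff_mem_normalizer.mpr (Subgroup.le_normalizer h)

namespace MinCE

variable (h : MinCE p G)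
include h

/-- The action on the Sylow `p`-subgroups is faithful. -/
theorem eq_one_of_smul {x : G} (hx : ∀ Q : Sylow p G, x • Q = Q) : x = 1 := by
  have hK := h.faithful (MulAction.toPermHom G (Sylow p G)).ker inferInstance (by
    intro P y hy
    rw [MonoidHom.mem_ker] at hy
    have : (MulAction.toPermHom G (Sylow p G) y) P = P := by rw [hy]; rfl
    exact Sylow.smul_eq_iff_mem_normalizer.mp this)
  have : x ∈ (MulAction.toPermHom G (Sylow p G)).ker := by
    rw [MonoidHom.mem_ker]
    apply Equiv.ext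
    intro Q
    exact hx Q
  rw [hK] at this
  exact Subgroup.mem_bot.mp this

/-- Any subgroup contained in all Sylow `p`-subgroups is trivial. -/
theorem eq_bot_of_le_all {D : Subgroup G} (hD : ∀ Q : Sylow p G, D ≤ (Q : Subgroup G)) : D = ⊥ := by
  rw [eq_bot_iff]
  intro x hx
  rw [Subgroup.mem_bot]
  apply h.eq_one_of_smul
  intro Q
  exact (smul_eq_iff_mem (hD Q hx) Q).mpr (hD Q hx)

theorem two_lt_p : 2 < p := h.hp3

/-- `P` is not in the `P`-orbit of `Q ≠ P`. -/
theorem not_mem_orbit {P Q : Sylow p G} (hne : Q ≠ P) : P ∉ orbit (↥(P : Subgroup G)) Q := by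
  rintro ⟨x, hx⟩
  apply hne
  have h1 : (x : G) • Q = P := hx
  have h2 : (x : G)⁻¹ • P = P := (smul_eq_iff_mem (Subgroup.inv_mem _ x.2) P).mpr (Subgroup.inv_mem _ x.2)
  have h3 : (x : G)⁻¹ • ((x : G) • Q) = Q := inv_smul_smul _ _
  rw [h1, h2] at h3
  exact h3.symm


/-- Non-fixed `P`-orbits on the Sylow `p`-subgroups have exactly `p` elements. -/
theorem ncard_orbit {P Q : Sylow p G} (hne : Q ≠ P) :
    (orbit (↥(P : Subgroup G)) Q).ncard = p := by
  obtain ⟨n, hn⟩ := P.isPGroup'.card_orbit Q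
  rw [Nat.card_coe_set_eq] at hn
  have hn0 : n ≠ 0 := by
    rintro rfl
    rw [pow_zero] at hn
    apply hne
    have hfix : Q ∈ fixedPoints (↥(P : Subgroup G)) (Sylow p G) := by
      intro x
      have h1 : x • Q ∈ orbit (↥(P : Subgroup G)) Q := mem_orbit _ _
      have h2 : Q ∈ orbit (↥(P : Subgroup G)) Q := mem_orbit_self _
      obtain ⟨a, ha⟩ := Set.ncard_eq_one.mp hn
      rw [ha, Set.mem_singleton_iff] at h1 h2
      exact h1.trans h2.symm
    have hPQ := P.isPGroup'.sylow_mem_fixedPoints_iff.mp hfix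
    exact Sylow.ext (P.is_maximal' Q.isPGroup' hPQ)
  have hle : (orbit (↥(P : Subgroup G)) Q).ncard ≤ 2 * p := by
    have hsub : orbit (↥(P : Subgroup G)) Q ⊆ ({P} : Set (Sylow p G))ᶜ :=
      fun W hW hWP => h.not_mem_orbit hne ((Set.mem_singleton_iff.mp hWP) ▸ hW)
    have h1 := Set.ncard_le_ncard hsub
    rw [Set.ncard_compl, Set.ncard_singleton, h.card_syl] at h1
    omega
  have hn2 : n < 2 := by
    by_contra hcon
    push Not at hcon
    have h3 := h.hp3
    have h4 : p ^ 2 ≤ p ^ n := Nat.pow_le_pow_right (by omega) hcon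
    nlinarith
  have hn1 : n = 1 := by omega
  rw [hn, hn1, pow_one]

omit h in
theorem stabilizer_eq (P Q : Sylow p G) :
    stabilizer (↥(P : Subgroup G)) Q = (Q : Subgroup G).subgroupOf P := by
  ext x
  rw [mem_stabilizer_iff, Subgroup.mem_subgroupOf]
  exact smul_eq_iff_mem x.2 Q

theorem index_subgroupOf {P Q : Sylow p G} (hne : Q ≠ P) :
    ((Q : Subgroup G).subgroupOf P).index = p := by
  rw [← stabilizer_eq, index_stabilizer, h.ncard_orbit hne]

/-- `p * |P ∩ Q| = |P|` for distinct Sylow `p`-subgroups. -/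
theorem card_inf {P Q : Sylow p G} (hne : Q ≠ P) :
    p * Nat.card ↥((P : Subgroup G) ⊓ (Q : Subgroup G)) = Nat.card ↥(P : Subgroup G) := by
  have h1 := Subgroup.index_mul_card ((Q : Subgroup G).subgroupOf P)
  rw [h.index_subgroupOf hne] at h1
  rw [← h1, ← Subgroup.inf_subgroupOf_left]
  congr 1
  exact Nat.card_congr (Subgroup.subgroupOfEquivOfLe inf_le_left).toEquiv.symm

theorem normal_subgroupOf {P Q : Sylow p G} (hne : Q ≠ P) :
    ((Q : Subgroup G).subgroupOf P).Normal := by
  apply Subgroup.normal_of_index_eq_minFac_card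
  rw [h.index_subgroupOf hne]
  obtain ⟨k, hk⟩ := P.isPGroup'.exists_card_eq
  have hk0 : k ≠ 0 := by
    rintro rfl
    have h1 := h.card_inf hne
    rw [hk, pow_zero] at h1
    have h3 := h.hp3
    have : p ∣ 1 := ⟨_, h1.symm⟩
    have := Nat.le_of_dvd one_pos this
    omega
  rw [hk, (Fact.out : p.Prime).pow_minFac hk0]

/-- `P ∩ Q'` is constant for `Q'` in the `P`-orbit of `Q`. -/
theorem inf_eq_of_mem_orbit {P Q Q' : Sylow p G} (hne : Q ≠ P)
    (hQ' : Q' ∈ orbit (↥(P : Subgroup G)) Q) :
    (P : Subgroup G) ⊓ (Q' : Subgroup G) = (P : Subgroup G) ⊓ (Q : Subgroup G) := by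
  obtain ⟨x, rfl⟩ := hQ'
  have hN := h.normal_subgroupOf hne
  ext y
  simp only [Subgroup.mem_inf]
  constructor
  · rintro ⟨hyP, hyQ⟩
    refine ⟨hyP, ?_⟩
    have h1 : (x : G)⁻¹ * y * (x : G) ∈ (Q : Subgroup G) := (mem_smul_sylow (x : G) Q y).mp hyQ
    have h2 : (x⁻¹ * ⟨y, hyP⟩ * x : ↥(P : Subgroup G)) ∈ (Q : Subgroup G).subgroupOf P := by
      rw [Subgroup.mem_subgroupOf]; simpa using h1
    have h3 := hN.conj_mem _ h2 x
    rw [Subgroup.mem_subgroupOf] at h3
    simpa [mul_assoc] using h3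
  · rintro ⟨hyP, hyQ⟩
    refine ⟨hyP, ?_⟩
    have h2 : (⟨y, hyP⟩ : ↥(P : Subgroup G)) ∈ (Q : Subgroup G).subgroupOf P := by
      rw [Subgroup.mem_subgroupOf]; exact hyQ
    have h3 := hN.conj_mem _ h2 x⁻¹
    rw [Subgroup.mem_subgroupOf] at h3
    apply (mem_smul_sylow (x : G) Q y).mpr
    simpa [mul_assoc] using h3


/-- The Sylow `p`-subgroups are `P` and two `P`-orbits. -/
theorem cover {P Q R : Sylow p G} (hQ : Q ≠ P) (hR : R ≠ P)
    (hRQ : R ∉ orbit (↥(P : Subgroup G)) Q) (W : Sylow p G) :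
    W = P ∨ W ∈ orbit (↥(P : Subgroup G)) Q ∨ W ∈ orbit (↥(P : Subgroup G)) R := by
  have hdisj : Disjoint (orbit (↥(P : Subgroup G)) Q) (orbit (↥(P : Subgroup G)) R) := by
    rcases MulAction.orbit.eq_or_disjoint (G := ↥(P : Subgroup G)) Q R with heq | hd
    · exfalso; apply hRQ; rw [heq]; exact mem_orbit_self R
    · exact hd
  have hP : P ∉ orbit (↥(P : Subgroup G)) Q ∪ orbit (↥(P : Subgroup G)) R := by
    rintro (hP | hP)
    · exact h.not_mem_orbit hQ hP
    · exact h.not_mem_orbit hR hP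
  have hcard : (insert P (orbit (↥(P : Subgroup G)) Q ∪ orbit (↥(P : Subgroup G)) R)).ncard
      = 2 * p + 1 := by
    rw [Set.ncard_insert_of_notMem hP, Set.ncard_union_eq hdisj, h.ncard_orbit hQ,
      h.ncard_orbit hR]
    ring
  have huniv : insert P (orbit (↥(P : Subgroup G)) Q ∪ orbit (↥(P : Subgroup G)) R)
      = Set.univ := by
    apply Set.eq_of_subset_of_ncard_le (Set.subset_univ _)
    rw [Set.ncard_univ, h.card_syl, hcard]
  have hW : W ∈ insert P (orbit (↥(P : Subgroup G)) Q ∪ orbit (↥(P : Subgroup G)) R) :=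
    huniv ▸ Set.mem_univ W
  rcases hW with rfl | hW | hW
  · exact Or.inl rfl
  · exact Or.inr (Or.inl hW)
  · exact Or.inr (Or.inr hW)

/-- In a minimal counterexample the Sylow `p`-subgroups have order `p`. -/
theorem card_sylow_eq (P : Sylow p G) : Nat.card ↥(P : Subgroup G) = p := by
  by_contra hcon
  have hp0 : 0 < p := by have := h.hp3; omega
  have hsame : ∀ X Y : Sylow p G,
      Nat.card ↥(X : Subgroup G) = Nat.card ↥(Y : Subgroup G) := fun X Y => by
    rw [Sylow.card_eq_multiplicity, Sylow.card_eq_multiplicity]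
  have hIcard : ∀ X Y : Sylow p G, Y ≠ X →
      p * Nat.card ↥((X : Subgroup G) ⊓ (Y : Subgroup G)) = Nat.card ↥(P : Subgroup G) :=
    fun X Y hne => (h.card_inf hne).trans (hsame X P)
  -- (♠)
  have spade : ∀ (X Y Z : Sylow p G), Y ≠ X → Z ≠ X →
      (X : Subgroup G) ⊓ (Z : Subgroup G) = (X : Subgroup G) ⊓ (Y : Subgroup G) →
      Z ∈ orbit (↥(X : Subgroup G)) Y := by
    intro X Y Z hY hZ hI
    by_contra hZY
    have hD : ∀ W : Sylow p G, (X : Subgroup G) ⊓ (Y : Subgroup G) ≤ (W : Subgroup G) := by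
      intro W
      rcases h.cover hY hZ hZY W with rfl | hW | hW
      · exact inf_le_left
      · rw [← h.inf_eq_of_mem_orbit hY hW]; exact inf_le_right
      · rw [← hI, ← h.inf_eq_of_mem_orbit hZ hW]; exact inf_le_right
    have hbot := h.eq_bot_of_le_all hD
    have h1 := hIcard X Y hY
    rw [hbot, Subgroup.card_bot, mul_one] at h1
    exact hcon h1.symm
  -- intersections inside an orbit
  have key : ∀ (Q : Sylow p G), Q ≠ P → ∀ Q' ∈ orbit (↥(P : Subgroup G)) Q, Q' ≠ Q →
      (Q : Subgroup G) ⊓ (Q' : Subgroup G) = (P : Subgroup G) ⊓ (Q : Subgroup G) := by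
    intro Q hQ Q' hQ' hne
    have h1 := h.inf_eq_of_mem_orbit hQ hQ'
    have hle : (P : Subgroup G) ⊓ (Q : Subgroup G) ≤ (Q : Subgroup G) ⊓ (Q' : Subgroup G) :=
      le_inf inf_le_right (h1 ▸ inf_le_right)
    symm
    apply Subgroup.eq_of_le_of_card_ge hle
    have a := hIcard Q Q' hne
    have b := hIcard P Q hQ
    exact le_of_eq (Nat.eq_of_mul_eq_mul_left hp0 (a.trans b.symm))
  -- the `Q`-orbit of `P`
  have orbQ : ∀ (Q : Sylow p G), Q ≠ P →
      orbit (↥(Q : Subgroup G)) P = insert P (orbit (↥(P : Subgroup G)) Q \ {Q}) := by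
    intro Q hQ
    symm
    apply Set.eq_of_subset_of_ncard_le
    · intro W hW
      rcases hW with rfl | ⟨hW, hWQ⟩
      · exact mem_orbit_self _
      · have hWQ' : W ≠ Q := fun e => hWQ (Set.mem_singleton_iff.mpr e)
        apply spade Q P W hQ.symm hWQ'
        rw [key Q hQ W hW hWQ', inf_comm]
    · rw [h.ncard_orbit hQ.symm, Set.ncard_insert_of_notMem, Set.ncard_sdiff_singleton_of_mem
        (mem_orbit_self Q), h.ncard_orbit hQ]
      · omega
      · rintro ⟨hP, -⟩
        exact h.not_mem_orbit hQ hP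
    · exact Set.toFinite _
  have claimA : ∀ (Q R : Sylow p G), Q ≠ P → R ≠ P → R ∉ orbit (↥(P : Subgroup G)) Q →
      (Q : Subgroup G) ⊓ (R : Subgroup G) ≠ (P : Subgroup G) ⊓ (Q : Subgroup G) := by
    intro Q R hQ hR hRQ hI
    have hRne : R ≠ Q := fun e => hRQ (e.symm ▸ mem_orbit_self Q)
    have h1 : R ∈ orbit (↥(Q : Subgroup G)) P := by
      apply spade Q P R hQ.symm hRne
      rw [hI, inf_comm]
    rw [orbQ Q hQ] at h1
    rcases h1 with h1 | ⟨h1, -⟩
    · exact hR h1
    · exact hRQ h1
  -- choose `Q`, `R`, `Q'`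
  obtain ⟨Q, hQ⟩ : ∃ Q : Sylow p G, Q ≠ P := by
    by_contra hall
    push Not at hall
    have h1 : Nat.card (Sylow p G) ≤ 1 :=
      Finite.card_le_one_iff_subsingleton.mpr ⟨fun a b => (hall a).trans (hall b).symm⟩
    rw [h.card_syl] at h1
    omega
  obtain ⟨R, hRP, hRQ⟩ : ∃ R : Sylow p G, R ≠ P ∧ R ∉ orbit (↥(P : Subgroup G)) Q := by
    by_contra hall
    push Not at hall
    have hsub : (Set.univ : Set (Sylow p G)) ⊆ insert P (orbit (↥(P : Subgroup G)) Q) := by
      intro R _
      by_cases hR : R = P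
      · exact Set.mem_insert_iff.mpr (Or.inl hR)
      · exact Set.mem_insert_of_mem _ (hall R hR)
    have h1 := Set.ncard_le_ncard hsub
    rw [Set.ncard_univ, h.card_syl, Set.ncard_insert_of_notMem (h.not_mem_orbit hQ),
      h.ncard_orbit hQ] at h1
    omega
  obtain ⟨Q', hQ', hQ'Q⟩ : ∃ Q' ∈ orbit (↥(P : Subgroup G)) Q, Q' ≠ Q := by
    by_contra hall
    push Not at hall
    have hsub : orbit (↥(P : Subgroup G)) Q ⊆ {Q} := fun W hW => Set.mem_singleton_iff.mpr (hall W hW)
    have h1 := Set.ncard_le_ncard hsub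
    rw [h.ncard_orbit hQ, Set.ncard_singleton] at h1
    have := h.hp3
    omega
  have hQR : Q ≠ R := fun e => hRQ (e ▸ mem_orbit_self Q)
  have hQ'R : Q' ≠ R := fun e => hRQ (e ▸ hQ')
  have hQ'P : Q' ≠ P := fun e => h.not_mem_orbit hQ (e ▸ hQ')
  -- `Q, Q' ∉ orbit_R P`
  have hnotR : ∀ W ∈ orbit (↥(P : Subgroup G)) Q, W ∉ orbit (↥(R : Subgroup G)) P := by
    intro W hW hWR
    rw [orbQ R hRP] at hWR
    rcases hWR with hWR | ⟨hWR, -⟩
    · exact h.not_mem_orbit hQ (hWR ▸ hW)
    · -- orbits of `Q` and `R` under `P` would coincide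
      have e1 : orbit (↥(P : Subgroup G)) W = orbit (↥(P : Subgroup G)) Q := orbit_eq_iff.mpr hW
      have e2 : orbit (↥(P : Subgroup G)) W = orbit (↥(P : Subgroup G)) R := orbit_eq_iff.mpr hWR
      apply hRQ
      rw [← e1, e2]
      exact mem_orbit_self R
  have hQ'orb : Q' ∈ orbit (↥(R : Subgroup G)) Q := by
    rcases h.cover hRP.symm hQR (hnotR Q (mem_orbit_self Q)) Q' with e | e | e
    · exact absurd e hQ'R
    · exact absurd e (hnotR Q' hQ')
    · exact e
  have hE := h.inf_eq_of_mem_orbit hQR hQ'orb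
  -- `E = R ⊓ Q ≤ Q ⊓ Q' = P ⊓ Q`
  have hEle : (R : Subgroup G) ⊓ (Q : Subgroup G) ≤ (P : Subgroup G) ⊓ (Q : Subgroup G) := by
    rw [← key Q hQ Q' hQ' hQ'Q]
    exact le_inf inf_le_right (hE ▸ inf_le_right)
  have hEeq : (R : Subgroup G) ⊓ (Q : Subgroup G) = (P : Subgroup G) ⊓ (Q : Subgroup G) := by
    apply Subgroup.eq_of_le_of_card_ge hEle
    have a := hIcard R Q hQR
    have b := hIcard P Q hQ
    exact le_of_eq (Nat.eq_of_mul_eq_mul_left hp0 (b.trans a.symm))
  exact claimA Q R hQ hRP hRQ (by rw [inf_comm]; exact hEeq)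

end MinCE

namespace MinCE

variable (h : MinCE p G)
include h

theorem p_odd : Odd p := by
  have := h.hp3
  exact (Fact.out : p.Prime).odd_of_ne_two (by omega)

/-- Elements of Sylow `p`-subgroups act as even permutations on any finite set. -/
theorem sign_eq_one_of_mem {α : Type*} [MulAction G α] [Fintype α] [DecidableEq α]
    {y : G} {Q : Sylow p G} (hy : y ∈ (Q : Subgroup G)) :
    Equiv.Perm.sign (MulAction.toPermHom G α y) = 1 := by
  obtain ⟨k, hk⟩ := (IsPGroup.iff_orderOf.mp Q.isPGroup') ⟨y, hy⟩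
  rw [Subgroup.orderOf_mk] at hk
  have h1 : (Equiv.Perm.sign (MulAction.toPermHom G α y)) ^ (p ^ k) = 1 := by
    rw [← map_pow, ← map_pow, ← hk, pow_orderOf_eq_one, map_one, map_one]
  rcases Int.units_eq_one_or (Equiv.Perm.sign (MulAction.toPermHom G α y)) with h2 | h2
  · exact h2
  · rw [h2, (h.p_odd.pow).neg_one_pow] at h1
    exact absurd h1 (by decide)

/-- No involution has exactly one fixed point on the Sylow `p`-subgroups. -/
theorem no_involution_one_fix {x : G} (hx : x ^ 2 = 1) (P : Sylow p G)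
    (hfix : ∀ Q : Sylow p G, x • Q = Q ↔ Q = P) : False := by
  classical
  haveI : Fintype (Sylow p G) := Fintype.ofFinite _
  set σ := MulAction.toPermHom G (Sylow p G) x with hσ
  have hσ2 : σ ^ 2 = 1 := by rw [hσ, ← map_pow, hx, map_one]
  have hfp : Function.fixedPoints σ = {P} := by
    ext Q
    rw [Function.mem_fixedPoints, Function.IsFixedPt, Set.mem_singleton_iff]
    exact hfix Q
  have hcard : Fintype.card (Sylow p G) = 2 * p + 1 := by
    rw [← Nat.card_eq_fintype_card]; exact h.card_syl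
  have hcf : Fintype.card (Function.fixedPoints σ) = 1 := by
    rw [← Nat.card_eq_fintype_card, hfp, Nat.card_coe_set_eq, Set.ncard_singleton]
  have hsign : Equiv.Perm.sign σ = -1 := by
    rw [Equiv.Perm.sign_of_pow_two_eq_one hσ2, hcard, hcf]
    have : (2 * p + 1 - 1) / 2 = p := by omega
    rw [this, h.p_odd.neg_one_pow]
  have hker := h.no_proper (Equiv.Perm.sign.comp (MulAction.toPermHom G (Sylow p G))).ker (by
    intro Q y hy
    rw [MonoidHom.mem_ker, MonoidHom.comp_apply]
    exact h.sign_eq_one_of_mem hy)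
  have hxker : x ∈ (Equiv.Perm.sign.comp (MulAction.toPermHom G (Sylow p G))).ker := by
    rw [hker]; exact Subgroup.mem_top x
  rw [MonoidHom.mem_ker, MonoidHom.comp_apply] at hxker
  rw [← hσ, hsign] at hxker
  exact absurd hxker (by decide)

end MinCE


omit [Finite G] [Fact p.Prime] in
theorem mem_fixedPoints_zpowers (x : G) (Q : Sylow p G) :
    Q ∈ fixedPoints (↥(Subgroup.zpowers x)) (Sylow p G) ↔ x • Q = Q := by
  constructor
  · intro hQ
    exact hQ ⟨x, Subgroup.mem_zpowers x⟩
  · intro hQ y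
    obtain ⟨k, hk⟩ := Subgroup.mem_zpowers_iff.mp y.2
    have h1 : Q ∈ fixedBy (Sylow p G) (x ^ k) := mem_fixedBy_zpow (mem_fixedBy.mpr hQ) k
    have h2 : (y : G) • Q = Q := by rw [← hk]; exact h1
    exact h2

namespace MinCE

variable (h : MinCE p G)
include h

/-- No element of prime order `q ≠ p` centralizes a Sylow `p`-subgroup. -/
theorem no_central_prime {q : ℕ} [Fact q.Prime] (hqp : q ≠ p) (P : Sylow p G) {x : G}
    (hx : orderOf x = q) (hc : x ∈ Subgroup.centralizer ((P : Subgroup G) : Set G)) : False := by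
  have hp3 := h.hp3
  have hxP : x • P = P :=
    Sylow.smul_eq_iff_mem_normalizer.mpr (Subgroup.centralizer_le_normalizer _ hc)
  -- `P` permutes the fixed points of `x`
  have hperm : ∀ (c : ↥(P : Subgroup G)) (Q : Sylow p G), x • Q = Q → x • (c • Q) = c • Q := by
    intro c Q hQ
    have h1 : (c : G) * x = x * (c : G) := (Subgroup.mem_centralizer_iff.mp hc) c c.2
    change x • ((c : G) • Q) = (c : G) • Q
    rw [smul_smul, ← h1, ← smul_smul, hQ]
  have horb : ∀ Q : Sylow p G, x • Q = Q → ∀ W ∈ orbit (↥(P : Subgroup G)) Q, x • W = W := by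
    rintro Q hQ W ⟨c, rfl⟩
    exact hperm c Q hQ
  have hxq : IsPGroup q (↥(Subgroup.zpowers x)) := by
    apply IsPGroup.of_card (n := 1)
    rw [Nat.card_zpowers, hx, pow_one]
  have hmod := hxq.card_modEq_card_fixedPoints (Sylow p G)
  rw [h.card_syl, Nat.card_coe_set_eq] at hmod
  have hq2 : 2 ≤ q := (Fact.out : q.Prime).two_le
  have hx1 : x ≠ 1 := by
    rintro rfl
    rw [orderOf_one] at hx
    omega
  by_cases hcase : ∀ Q : Sylow p G, x • Q = Q → Q = P
  · -- exactly one fixed point
    have hF : fixedPoints (↥(Subgroup.zpowers x)) (Sylow p G) = {P} := by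
      ext Q
      rw [mem_fixedPoints_zpowers, Set.mem_singleton_iff]
      exact ⟨hcase Q, fun e => e ▸ hxP⟩
    rw [hF, Set.ncard_singleton] at hmod
    have hdvd : q ∣ 2 * p := by
      have := (Nat.modEq_iff_dvd' (by omega)).mp hmod.symm
      simpa using this
    rcases (Nat.Prime.dvd_mul (Fact.out : q.Prime)).mp hdvd with h2 | h2
    · have hq : q = 2 := (Nat.prime_dvd_prime_iff_eq Fact.out Nat.prime_two).mp h2
      have hx2 : x ^ 2 = 1 := by rw [← hq, ← hx, pow_orderOf_eq_one]
      exact h.no_involution_one_fix hx2 P (fun Q => ⟨hcase Q, fun e => e ▸ hxP⟩)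
    · exact hqp ((Nat.prime_dvd_prime_iff_eq Fact.out Fact.out).mp h2)
  · push Not at hcase
    obtain ⟨Q, hQx, hQP⟩ := hcase
    by_cases hcase2 : ∀ R : Sylow p G, x • R = R → R = P ∨ R ∈ orbit (↥(P : Subgroup G)) Q
    · have hF : fixedPoints (↥(Subgroup.zpowers x)) (Sylow p G)
          = insert P (orbit (↥(P : Subgroup G)) Q) := by
        ext R
        rw [mem_fixedPoints_zpowers, Set.mem_insert_iff]
        constructor
        · exact hcase2 R
        · rintro (rfl | hR)
          · exact hxP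
          · exact horb Q hQx R hR
      rw [hF, Set.ncard_insert_of_notMem (h.not_mem_orbit hQP), h.ncard_orbit hQP] at hmod
      have hdvd : q ∣ p := by
        have := (Nat.modEq_iff_dvd' (by omega)).mp hmod.symm
        have e : 2 * p + 1 - (p + 1) = p := by omega
        rwa [e] at this
      exact hqp ((Nat.prime_dvd_prime_iff_eq Fact.out Fact.out).mp hdvd)
    · push Not at hcase2
      obtain ⟨R, hRx, hRP, hRQ⟩ := hcase2
      apply hx1
      apply h.eq_one_of_smul
      intro W
      rcases h.cover hQP hRP hRQ W with rfl | hW | hW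
      · exact hxP
      · exact horb Q hQx W hW
      · exact horb R hRx W hW

end MinCE


namespace MinCE

variable (h : MinCE p G)
include h

theorem isCyclic_sylow (P : Sylow p G) : IsCyclic ↥(P : Subgroup G) :=
  isCyclic_of_prime_card (h.card_sylow_eq P)

/-- Sylow `p`-subgroups are self-centralizing. -/
theorem centralizer_eq (P : Sylow p G) :
    Subgroup.centralizer ((P : Subgroup G) : Set G) = (P : Subgroup G) := by
  haveI := h.isCyclic_sylow P
  have hle : (P : Subgroup G) ≤ Subgroup.centralizer ((P : Subgroup G) : Set G) :=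
    Subgroup.le_centralizer _
  have hC : IsPGroup p ↥(Subgroup.centralizer ((P : Subgroup G) : Set G)) := by
    have hpos : Nat.card ↥(Subgroup.centralizer ((P : Subgroup G) : Set G)) ≠ 0 :=
      Nat.card_pos.ne'
    have := Nat.eq_prime_pow_of_unique_prime_dvd hpos (p := p) (by
      intro d hd hdvd
      by_contra hne
      haveI : Fact d.Prime := ⟨hd⟩
      obtain ⟨x, hx⟩ := exists_prime_orderOf_dvd_card' d hdvd
      refine h.no_central_prime hne P (x := (x : G)) ?_ x.2
      rw [Subgroup.orderOf_coe]; exact hx)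
    exact IsPGroup.of_card this
  exact P.is_maximal' hC hle

end MinCE


/-- The automorphism group of a group of prime order is cyclic. -/
theorem isCyclic_mulAut_of_prime_card {H : Type*} [Group H] (hH : Nat.card H = p) :
    IsCyclic (MulAut H) := by
  haveI : IsCyclic H := isCyclic_of_prime_card hH
  haveI : Fact (Nat.card H).Prime := ⟨hH.symm ▸ Fact.out⟩
  exact (MulEquiv.isCyclic (IsCyclic.mulAutMulEquiv H)).mpr inferInstance

namespace MinCE

variable (h : MinCE p G)
include h

/-- The order of a minimal counterexample: `|G| = (2p+1)·p·e` with `e ∣ p - 1`, and `G` has an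
element of order `e`. -/
theorem card_eq : ∃ e : ℕ, e ∣ p - 1 ∧ Nat.card G = (2 * p + 1) * (p * e) ∧
    ∃ v : G, orderOf v = e := by
  obtain ⟨P⟩ : Nonempty (Sylow p G) := inferInstance
  have hP := h.card_sylow_eq P
  haveI : IsCyclic ↥(P : Subgroup G) := h.isCyclic_sylow P
  haveI : IsCyclic (MulAut ↥(P : Subgroup G)) := isCyclic_mulAut_of_prime_card hP
  set φ := (P : Subgroup G).normalizerMonoidHom with hφ
  have hker : Nat.card φ.ker = p := by
    rw [hφ, Subgroup.normalizerMonoidHom_ker, h.centralizer_eq P]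
    exact (Nat.card_congr (Subgroup.subgroupOfEquivOfLe Subgroup.le_normalizer).toEquiv).trans hP
  have hN : Nat.card ↥(Subgroup.normalizer ((P : Subgroup G) : Set G)) = p * Nat.card φ.range := by
    rw [← Subgroup.index_mul_card φ.ker, Subgroup.index_ker, hker, mul_comm]
  have hG : Nat.card G = (2 * p + 1) * (p * Nat.card φ.range) := by
    rw [← hN, ← h.card_syl, P.card_eq_index_normalizer]
    exact (Subgroup.index_mul_card _).symm
  have he : Nat.card φ.range ∣ p - 1 := by
    have h1 := Subgroup.card_subgroup_dvd_card φ.range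
    rwa [IsCyclic.card_mulAut, hP, Nat.totient_prime Fact.out] at h1
  refine ⟨Nat.card φ.range, he, hG, ?_⟩
  obtain ⟨a, ha⟩ := IsCyclic.exists_generator (α := φ.range)
  have hoa : orderOf a = Nat.card φ.range := orderOf_eq_card_of_forall_mem_zpowers ha
  obtain ⟨g, hg⟩ := a.2
  have h1 : orderOf (a : MulAut ↥(P : Subgroup G)) = Nat.card φ.range := by
    rw [Subgroup.orderOf_coe]; exact hoa
  have h2 : Nat.card φ.range ∣ orderOf (g : G) := by
    rw [Subgroup.orderOf_coe, ← h1, ← hg]
    exact orderOf_map_dvd φ g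
  have hne : orderOf (g : G) / Nat.card φ.range ≠ 0 := by
    have hpos : 0 < orderOf (g : G) := orderOf_pos _
    have hle := Nat.le_of_dvd hpos h2
    have hcpos : 0 < Nat.card φ.range := Nat.card_pos
    exact (Nat.div_pos hle hcpos).ne'
  refine ⟨(g : G) ^ (orderOf (g : G) / Nat.card φ.range), ?_⟩
  rw [orderOf_pow_of_dvd hne (Nat.div_dvd_of_dvd h2), Nat.div_div_self h2 (orderOf_pos _).ne']

end MinCE


theorem factorization_of_eq {n q j m : ℕ} (hq : q.Prime) (hn : n = q ^ j * m) (hm : ¬ q ∣ m) :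
    n.factorization q = j := by
  have hm0 : m ≠ 0 := by rintro rfl; exact hm (dvd_zero _)
  rw [hn, Nat.factorization_mul (pow_ne_zero _ hq.ne_zero) hm0, Nat.Prime.factorization_pow hq]
  simp [Nat.factorization_eq_zero_of_not_dvd hm]

namespace MinCE

variable (h : MinCE p G)
include h

/-- A normal subgroup of index prime to `p` is everything. -/
theorem eq_top_of_normal_of_coprime_index (K : Subgroup G) [K.Normal]
    (hK : Nat.Coprime K.index p) : K = ⊤ := by
  apply h.no_proper
  intro Q
  rw [← Subgroup.relIndex_eq_one]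
  have h1 : K.relIndex Q ∣ K.index := Subgroup.relIndex_dvd_index_of_normal K Q
  have h2 : K.relIndex Q ∣ Nat.card ↥(Q : Subgroup G) := Subgroup.relIndex_dvd_card K Q
  rw [h.card_sylow_eq Q] at h2
  exact Nat.eq_one_of_dvd_coprimes hK h1 h2

theorem p_dvd_card : p ∣ Nat.card G := by
  obtain ⟨P⟩ : Nonempty (Sylow p G) := inferInstance
  rw [← h.card_sylow_eq P]
  exact Subgroup.card_subgroup_dvd_card _

/-- If `q ≠ p` is the smallest prime divisor of `|G|`, no Sylow `q`-subgroup is cyclic. -/
theorem false_of_isCyclic_sylow_minFac {q : ℕ} (hq : (Nat.card G).minFac = q) (hqp : q ≠ p)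
    (S : Sylow q G) (hS : IsCyclic ↥(S : Subgroup G)) : False := by
  have hcard1 : Nat.card G ≠ 1 := by
    intro h1
    have := h.p_dvd_card
    rw [h1] at this
    have := Nat.le_of_dvd one_pos this
    have := h.hp3
    omega
  haveI : Fact q.Prime := ⟨hq ▸ Nat.minFac_prime hcard1⟩
  have hcomp := IsCyclic.isComplement' hq hS
  have hidx := hcomp.symm.index_eq_card
  have hcop : Nat.Coprime
      (MonoidHom.transferSylow S (hS.normalizer_le_centralizer hq)).ker.index p := by
    rw [hidx]
    obtain ⟨k, hk⟩ := S.isPGroup'.exists_card_eq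
    rw [hk]
    exact Nat.Coprime.pow_left _ ((Nat.coprime_primes Fact.out Fact.out).mpr hqp)
  have htop := h.eq_top_of_normal_of_coprime_index _ hcop
  rw [htop, Subgroup.index_top] at hidx
  have hdvd : q ∣ Nat.card G := hq ▸ Nat.minFac_dvd _
  exact S.ne_bot_of_dvd_card hdvd (Subgroup.card_eq_one.mp hidx.symm)

/-- `|G| = 2^j·m` with `m` odd, `j ≥ 1`, and an element of order `2^j`: impossible. -/
theorem false_of_card_two_pow {j m : ℕ} (hj : j ≠ 0) (hG : Nat.card G = 2 ^ j * m)
    (hm : ¬ 2 ∣ m) (v : G) (hv : orderOf v = 2 ^ j) : False := by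
  have hmin : (Nat.card G).minFac = 2 := by
    rw [Nat.minFac_eq_two_iff, hG]
    exact Dvd.dvd.mul_right (dvd_pow_self 2 hj) m
  haveI : Fact (Nat.Prime 2) := ⟨Nat.prime_two⟩
  have hfac : (Nat.card G).factorization 2 = j := factorization_of_eq Nat.prime_two hG hm
  have hcard : Nat.card ↥(Subgroup.zpowers v) = 2 ^ (Nat.card G).factorization 2 := by
    rw [Nat.card_zpowers, hv, hfac]
  have h2p : 2 ≠ p := by have := h.hp3; omega
  refine h.false_of_isCyclic_sylow_minFac hmin h2p (Sylow.ofCard (Subgroup.zpowers v) hcard) ?_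
  rw [Sylow.coe_ofCard]
  infer_instance

/-- `|G| = q·m` with `q ∤ m` and `q ≠ p` the smallest prime divisor: impossible. -/
theorem false_of_card_prime {q m : ℕ} (hq : (Nat.card G).minFac = q) (hqp : q ≠ p)
    (hG : Nat.card G = q * m) (hm : ¬ q ∣ m) : False := by
  have hcard1 : Nat.card G ≠ 1 := by
    intro h1
    have := h.p_dvd_card
    rw [h1] at this
    have := Nat.le_of_dvd one_pos this
    have := h.hp3
    omega
  have hqprime : q.Prime := hq ▸ Nat.minFac_prime hcard1
  haveI : Fact q.Prime := ⟨hqprime⟩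
  have hfac : (Nat.card G).factorization q = 1 :=
    factorization_of_eq (j := 1) hqprime (by rw [hG, pow_one]) hm
  obtain ⟨S⟩ : Nonempty (Sylow q G) := inferInstance
  have hS : Nat.card ↥(S : Subgroup G) = q := by
    rw [Sylow.card_eq_multiplicity, hfac, pow_one]
  exact h.false_of_isCyclic_sylow_minFac hq hqp S (isCyclic_of_prime_card hS)

end MinCE

/-- There is no minimal counterexample for `p = 17`. -/
theorem not_minCE_seventeen [Fact (Nat.Prime 17)] (h : MinCE 17 G) : False := by
  obtain ⟨e, he, hG, v, hv⟩ := h.card_eq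
  have he16 : e ∣ 16 := he
  have hemem : e ∈ Nat.divisors 16 := Nat.mem_divisors.mpr ⟨he16, by norm_num⟩
  have hdiv : Nat.divisors 16 = {1, 2, 4, 8, 16} := by decide
  rw [hdiv] at hemem
  simp only [Finset.mem_insert, Finset.mem_singleton] at hemem
  rcases hemem with rfl | rfl | rfl | rfl | rfl
  · refine h.false_of_card_prime (q := 5) (m := 119) ?_ (by norm_num) (hG.trans (by norm_num)) (by norm_num)
    rw [hG]; norm_num
  · exact h.false_of_card_two_pow (j := 1) (m := 595) (by norm_num) (hG.trans (by norm_num)) (by norm_num) v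
      (hv.trans (by norm_num))
  · exact h.false_of_card_two_pow (j := 2) (m := 595) (by norm_num) (hG.trans (by norm_num)) (by norm_num) v
      (hv.trans (by norm_num))
  · exact h.false_of_card_two_pow (j := 3) (m := 595) (by norm_num) (hG.trans (by norm_num)) (by norm_num) v
      (hv.trans (by norm_num))
  · exact h.false_of_card_two_pow (j := 4) (m := 595) (by norm_num) (hG.trans (by norm_num)) (by norm_num) v
      (hv.trans (by norm_num))


/-- Minimal counterexample principle: if no group satisfies `MinCE p`, then no finite group has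
exactly `2p+1` Sylow `p`-subgroups. -/
theorem card_sylow_ne_of_no_minCE (hp3 : 3 ≤ p)
    (hno : ∀ (H : Type u) [Group H] [Finite H], MinCE p H → False) :
    ∀ (n : ℕ) (G : Type u) [Group G] [Finite G], Nat.card G = n →
      Nat.card (Sylow p G) ≠ 2 * p + 1 := by
  intro n
  induction n using Nat.strong_induction_on with
  | _ n ih =>
    intro G _ _ hn hcard
    apply hno G
    refine ⟨hp3, hcard, ?_, ?_⟩
    · intro K hKn hK
      by_contra hne
      haveI := hKn
      have h1 := card_sylow_quotient K hK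
      have hlt : Nat.card (G ⧸ K) < n := by
        have h2 := Subgroup.card_eq_card_quotient_mul_card_subgroup K
        have h3 : 1 < Nat.card ↥K := K.one_lt_card_iff_ne_bot.mpr hne
        have h4 : 0 < Nat.card (G ⧸ K) := Nat.card_pos
        rw [← hn, h2]
        nlinarith
      exact ih _ hlt (G ⧸ K) rfl (h1.trans hcard)
    · intro H hH
      by_contra hne
      have h1 := card_sylow_subgroup H hH
      have hlt : Nat.card ↥H < n := by
        have h2 := Subgroup.index_mul_card H
        have h3 : H.index ≠ 1 := fun e => hne (Subgroup.index_eq_one.mp e)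
        have h4 : H.index ≠ 0 := Subgroup.index_ne_zero_of_finite
        have h5 : 0 < Nat.card ↥H := Nat.card_pos
        have h6 : 2 ≤ H.index := by omega
        rw [← hn, ← h2]
        nlinarith
      exact ih _ hlt ↥H rfl (h1.trans hcard)

/-- No finite group has exactly `35` Sylow `17`-subgroups. -/
theorem card_sylow_seventeen_ne [Fact (Nat.Prime 17)] (G : Type u) [Group G] [Finite G] :
    Nat.card (Sylow 17 G) ≠ 35 :=
  card_sylow_ne_of_no_minCE (p := 17) (by norm_num)
    (fun _ _ _ hH => not_minCE_seventeen hH) _ G rfl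

end Cfsg.Agent.Helper55.SylNum
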