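import Mathlib
import Cfsg.Agent.Lib.Helper24.ClassTwo

set_option autoImplicit false

/-!
# Finite Dedekind groups contain a quaternion pair

In a finite non-abelian group all of whose subgroups are normal there are `x, y` of order `4`
with `x² = y²` and `y x y⁻¹ = x⁻¹`.
-/

namespace Cfsg.Agent.Helper55.Dedekind

variable {G : Type*} [Group G]

/-- In a finite cyclic group, an element killed by `p` lies in any subgroup of order `p`. -/
theorem mem_zpowers_of_pow_eq_one {C : Type*} [Group C] [Finite C] [IsCyclic C] {p : ℕ}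
    (hp : 0 < p) (y z : C) (hz : orderOf z = p) (hy : y ^ p = 1) : y ∈ Subgroup.zpowers z := by
  classical
  haveI := Fintype.ofFinite C
  have h1 := IsCyclic.card_pow_eq_one_le (α := C) hp
  have hsub : (Finset.univ.filter (fun a : C => a ∈ Subgroup.zpowers z)) ⊆
      (Finset.univ.filter (fun a : C => a ^ p = 1)) := by
    intro a ha
    rw [Finset.mem_filter] at ha ⊢
    refine ⟨Finset.mem_univ _, ?_⟩
    obtain ⟨k, rfl⟩ := Subgroup.mem_zpowers_iff.mp ha.2
    rw [← zpow_natCast, ← zpow_mul, mul_comm, zpow_mul, zpow_natCast, ← hz, pow_orderOf_eq_one,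
      one_zpow]
  have hcard : (Finset.univ.filter (fun a : C => a ∈ Subgroup.zpowers z)).card = p := by
    rw [← Fintype.card_subtype, ← Nat.card_eq_fintype_card]
    exact (Nat.card_zpowers z).trans hz
  have heq := Finset.eq_of_subset_of_card_le hsub (by rw [hcard]; exact h1)
  have hy' : y ∈ Finset.univ.filter (fun a : C => a ^ p = 1) := by
    rw [Finset.mem_filter]; exact ⟨Finset.mem_univ _, hy⟩
  rw [← heq, Finset.mem_filter] at hy'
  exact hy'.2

/-- Version inside a cyclic subgroup `zpowers g` of a finite group. -/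
theorem mem_zpowers_of_mem_zpowers [Finite G] {p : ℕ} (hp : 0 < p) (g y z : G)
    (hyg : y ∈ Subgroup.zpowers g) (hzg : z ∈ Subgroup.zpowers g) (hz : orderOf z = p)
    (hy : y ^ p = 1) : y ∈ Subgroup.zpowers z := by
  have h1 := mem_zpowers_of_pow_eq_one (C := ↥(Subgroup.zpowers g)) hp ⟨y, hyg⟩ ⟨z, hzg⟩
    (by rw [Subgroup.orderOf_mk]; exact hz) (by apply Subtype.ext; simpa using hy)
  obtain ⟨k, hk⟩ := Subgroup.mem_zpowers_iff.mp h1
  rw [Subgroup.mem_zpowers_iff]
  refine ⟨k, ?_⟩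
  have := congrArg Subtype.val hk
  simpa using this

theorem commute_of_mem_zpowers {g x : G} (h : g ∈ Subgroup.zpowers x) : Commute g x := by
  obtain ⟨k, rfl⟩ := Subgroup.mem_zpowers_iff.mp h
  exact (Commute.refl x).zpow_left k

section dedekind

variable (hn : ∀ H : Subgroup G, H.Normal)
include hn

theorem conj_mem_zpowers (g x : G) : g * x * g⁻¹ ∈ Subgroup.zpowers x :=
  (hn (Subgroup.zpowers x)).conj_mem x (Subgroup.mem_zpowers x) g

theorem comm_mem_left (x y : G) : y * x * y⁻¹ * x⁻¹ ∈ Subgroup.zpowers x :=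
  Subgroup.mul_mem _ (conj_mem_zpowers hn y x) (Subgroup.inv_mem _ (Subgroup.mem_zpowers x))

theorem comm_mem_right (x y : G) : y * x * y⁻¹ * x⁻¹ ∈ Subgroup.zpowers y := by
  have h1 : x * y⁻¹ * x⁻¹ ∈ Subgroup.zpowers y := by
    have := conj_mem_zpowers hn x y⁻¹
    rwa [Subgroup.zpowers_inv] at this
  have : y * x * y⁻¹ * x⁻¹ = y * (x * y⁻¹ * x⁻¹) := by group
  rw [this]
  exact Subgroup.mul_mem _ (Subgroup.mem_zpowers y) h1

theorem comm_commute_left (x y : G) : Commute (y * x * y⁻¹ * x⁻¹) x :=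
  commute_of_mem_zpowers (comm_mem_left hn x y)

theorem comm_commute_right (x y : G) : Commute (y * x * y⁻¹ * x⁻¹) y :=
  commute_of_mem_zpowers (comm_mem_right hn x y)

end dedekind

/-- A non-commuting pair with `orderOf x + orderOf y` minimal. -/
def MinPair (x y : G) : Prop :=
  x * y ≠ y * x ∧ ∀ u v : G, u * v ≠ v * u → orderOf x + orderOf y ≤ orderOf u + orderOf v

theorem MinPair.symm {x y : G} (h : MinPair x y) : MinPair y x :=
  ⟨fun e => h.1 e.symm, fun u v huv => by rw [add_comm]; exact h.2 u v huv⟩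

theorem exists_minPair (h : ∃ x y : G, x * y ≠ y * x) :
    ∃ x y : G, MinPair x y ∧ orderOf y ≤ orderOf x := by
  classical
  have hex : ∃ n : ℕ, ∃ u v : G, u * v ≠ v * u ∧ orderOf u + orderOf v = n := by
    obtain ⟨x, y, hxy⟩ := h
    exact ⟨_, x, y, hxy, rfl⟩
  obtain ⟨x, y, hxy, hsum⟩ := Nat.find_spec hex
  have hmin : MinPair x y := by
    refine ⟨hxy, fun u v huv => ?_⟩
    rw [hsum]
    exact Nat.find_min' hex ⟨u, v, huv, rfl⟩
  by_cases hle : orderOf y ≤ orderOf x
  · exact ⟨x, y, hmin, hle⟩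
  · exact ⟨y, x, hmin.symm, by omega⟩

section main

variable [Finite G] (hn : ∀ H : Subgroup G, H.Normal)
include hn

theorem MinPair.comm_ne_one {x y : G} (h : MinPair x y) : y * x * y⁻¹ * x⁻¹ ≠ 1 := by
  intro e
  apply h.1
  have : y * x = x * y := by
    have := congrArg (fun t => t * x * y) e
    simp only [one_mul] at this
    rw [← this]; group
  exact this.symm

omit [Finite G] hn in
theorem MinPair.ne_one_right {x y : G} (h : MinPair x y) : y ≠ 1 := by
  rintro rfl
  exact h.1 (by simp)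

/-- For a minimal pair the commutator is killed by every prime dividing `orderOf y`. -/
theorem MinPair.comm_pow_prime {x y : G} (h : MinPair x y) {p : ℕ} (hp : p.Prime)
    (hdvd : p ∣ orderOf y) : (y * x * y⁻¹ * x⁻¹) ^ p = 1 := by
  have hpos : 0 < orderOf y := orderOf_pos y
  have hlt : orderOf (y ^ p) < orderOf y := by
    rw [orderOf_pow_of_dvd hp.ne_zero hdvd]
    exact Nat.div_lt_self hpos hp.one_lt
  have hcomm : x * y ^ p = y ^ p * x := by
    by_contra hne
    have := h.2 x (y ^ p) hne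
    omega
  rw [← Cfsg.Agent.Helper24.commutator_pow_left_of_commute x y (comm_commute_right hn x y) p]
  rw [← hcomm]; group

/-- For a minimal pair, the commutator has prime order `p` and `x`, `y` are `p`-elements. -/
theorem MinPair.prime_power {x y : G} (h : MinPair x y) :
    ∃ p : ℕ, p.Prime ∧ orderOf (y * x * y⁻¹ * x⁻¹) = p ∧ (∃ a, orderOf x = p ^ a) ∧
      ∃ b, orderOf y = p ^ b := by
  have hc1 := h.comm_ne_one hn
  have key : ∀ {u v : G}, MinPair u v → ∀ q : ℕ, q.Prime → q ∣ orderOf v →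
      orderOf (v * u * v⁻¹ * u⁻¹) = q := by
    intro u v huv q hq hdvd
    have h1 := huv.comm_pow_prime hn hq hdvd
    have h2 := orderOf_dvd_of_pow_eq_one h1
    rcases (Nat.dvd_prime hq).mp h2 with h3 | h3
    · exact absurd (orderOf_eq_one_iff.mp h3) (huv.comm_ne_one hn)
    · exact h3
  have hy1 : orderOf y ≠ 1 := fun e => h.ne_one_right (orderOf_eq_one_iff.mp e)
  obtain ⟨p, hp, hpdvd⟩ := Nat.exists_prime_and_dvd hy1
  have hcp := key h p hp hpdvd
  have hinv : x * y * x⁻¹ * y⁻¹ = (y * x * y⁻¹ * x⁻¹)⁻¹ := by group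
  refine ⟨p, hp, hcp, ?_, ?_⟩
  · refine ⟨_, Nat.eq_prime_pow_of_unique_prime_dvd (orderOf_pos x).ne' ?_⟩
    intro q hq hqdvd
    have := key h.symm q hq hqdvd
    rw [hinv, orderOf_inv, hcp] at this
    exact this.symm
  · refine ⟨_, Nat.eq_prime_pow_of_unique_prime_dvd (orderOf_pos y).ne' ?_⟩
    intro q hq hqdvd
    have := key h q hq hqdvd
    rw [hcp] at this
    exact this.symm

omit [Finite G] hn in
/-- In class two, `[y, x^M] = [y, x]^M`. -/
theorem comm_pow_right_of_commute (x y : G) (hcx : Commute (y * x * y⁻¹ * x⁻¹) x) (M : ℕ) :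
    y * x ^ M * y⁻¹ * (x ^ M)⁻¹ = (y * x * y⁻¹ * x⁻¹) ^ M := by
  set c := y * x * y⁻¹ * x⁻¹ with hc
  have h2 : y * x * y⁻¹ = c * x := by rw [hc]; group
  calc y * x ^ M * y⁻¹ * (x ^ M)⁻¹ = (y * x * y⁻¹) ^ M * (x ^ M)⁻¹ := by rw [conj_pow]
    _ = (c * x) ^ M * (x ^ M)⁻¹ := by rw [h2]
    _ = c ^ M * x ^ M * (x ^ M)⁻¹ := by rw [hcx.mul_pow]
    _ = c ^ M := by group

omit [Finite G] hn in
theorem eq_of_mem_zpowers_of_orderOf_two {z c : G} (hz : orderOf z = 2)
    (hc : c ∈ Subgroup.zpowers z) (hc1 : c ≠ 1) : c = z := by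
  obtain ⟨k, rfl⟩ := Subgroup.mem_zpowers_iff.mp hc
  have hz2 : z ^ (2 : ℤ) = 1 := by
    rw [zpow_ofNat, ← hz]; exact pow_orderOf_eq_one z
  rcases Int.even_or_odd' k with ⟨m, rfl | rfl⟩
  · exfalso; apply hc1; rw [zpow_mul, hz2, one_zpow]
  · rw [zpow_add, zpow_mul, hz2, one_zpow, one_mul, zpow_one]

/-- For a minimal pair with `orderOf y ≤ orderOf x`, both have order `4` and the commutator
has order `2`. -/
theorem MinPair.orders {x y : G} (h : MinPair x y) (hle : orderOf y ≤ orderOf x) :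
    orderOf x = 4 ∧ orderOf y = 4 ∧ orderOf (y * x * y⁻¹ * x⁻¹) = 2 := by
  obtain ⟨p, hp, hcp, ⟨a, ha⟩, ⟨b, hb⟩⟩ := h.prime_power hn
  have hcL := comm_mem_left hn x y
  have hcR := comm_mem_right hn x y
  have hcx := comm_commute_left hn x y
  set c := y * x * y⁻¹ * x⁻¹ with hc
  have hb1 : 1 ≤ b := by
    by_contra hb0
    have : b = 0 := by omega
    rw [this, pow_zero] at hb
    exact h.ne_one_right (orderOf_eq_one_iff.mp hb)
  have hba : b ≤ a := by
    rw [ha, hb] at hle
    exact (Nat.pow_le_pow_iff_right hp.one_lt).mp hle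
  have hcpow : c ^ p = 1 := by rw [← hcp]; exact pow_orderOf_eq_one c
  -- the elements of order `p` in `⟨x⟩` and `⟨y⟩`
  have hXord : orderOf (x ^ (p ^ (a - 1))) = p := by
    rw [orderOf_pow_of_dvd (pow_ne_zero _ hp.ne_zero)
      (by rw [ha]; exact pow_dvd_pow p (by omega)), ha, Nat.pow_div (by omega) hp.pos]
    have : a - (a - 1) = 1 := by omega
    rw [this, pow_one]
  have hYp : (y ^ (p ^ (b - 1))) ^ p = 1 := by
    rw [← pow_mul, ← pow_succ]
    have : b - 1 + 1 = b := by omega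
    rw [this, ← hb]; exact pow_orderOf_eq_one y
  have hcX : c ∈ Subgroup.zpowers (x ^ (p ^ (a - 1))) :=
    mem_zpowers_of_mem_zpowers hp.pos x c _ hcL
      (Subgroup.pow_mem _ (Subgroup.mem_zpowers x) _) hXord hcpow
  have hYc : y ^ (p ^ (b - 1)) ∈ Subgroup.zpowers c :=
    mem_zpowers_of_mem_zpowers hp.pos y _ c
      (Subgroup.pow_mem _ (Subgroup.mem_zpowers y) _) hcR hcp hYp
  have hYX : (y ^ (p ^ (b - 1)))⁻¹ ∈ Subgroup.zpowers (x ^ (p ^ (a - 1))) :=
    Subgroup.inv_mem _ ((Subgroup.zpowers_le.mpr hcX) hYc)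
  rw [← mem_powers_iff_mem_zpowers] at hYX
  obtain ⟨M0, hM0⟩ := Submonoid.mem_powers_iff _ _ |>.mp hYX
  set n := p ^ (b - 1) with hn_def
  have hnpos : 0 < n := pow_pos hp.pos _
  set M := p ^ (a - b) * M0 with hM
  have hxMn : (x ^ M) ^ n = (y ^ n)⁻¹ := by
    rw [← hM0, ← pow_mul, ← pow_mul]
    congr 1
    rw [hM, hn_def]
    have : p ^ (a - 1) = p ^ (a - b) * p ^ (b - 1) := by
      rw [← pow_add]; congr 1; omega
    rw [this]; ring
  -- the element `u`
  have hdx := comm_commute_left hn (x ^ M) y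
  have hdy := comm_commute_right hn (x ^ M) y
  have hupow : (x ^ M * y) ^ n = c ^ (M * n.choose 2) := by
    rw [Cfsg.Agent.Helper24.mul_pow_of_commutator_commute (x ^ M) y hdx hdy n, hxMn,
      inv_mul_cancel, one_mul, comm_pow_right_of_commute x y hcx M, ← pow_mul]
  have hxu : x * (x ^ M * y) ≠ (x ^ M * y) * x := by
    intro e
    apply h.1
    have h1 : x * x ^ M = x ^ M * x := by rw [← pow_succ', ← pow_succ]
    rw [← mul_assoc, h1, mul_assoc, mul_assoc] at e
    exact mul_left_cancel e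
  have hyu : orderOf y ≤ orderOf (x ^ M * y) := by
    have := h.2 x (x ^ M * y) hxu
    omega
  have hndvd : ¬ p ∣ M * n.choose 2 := by
    rintro ⟨k, hk⟩
    have h1 : (x ^ M * y) ^ n = 1 := by
      rw [hupow, hk, pow_mul, hcpow, one_pow]
    have h2 : orderOf (x ^ M * y) ≤ n := Nat.le_of_dvd hnpos (orderOf_dvd_of_pow_eq_one h1)
    have h3 : n < orderOf y := by
      rw [hb, hn_def]
      exact Nat.pow_lt_pow_right hp.one_lt (by omega)
    omega
  have hab : a = b := by
    by_contra hne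
    apply hndvd
    have h1 : p ∣ p ^ (a - b) := dvd_pow_self p (by omega)
    exact Dvd.dvd.mul_right (Dvd.dvd.mul_right h1 M0) _
  have hchoose : ¬ p ∣ n.choose 2 := fun hd => hndvd (Dvd.dvd.mul_left hd M)
  have hb2 : 2 ≤ b := by
    by_contra hlt
    have hb' : b = 1 := by omega
    apply hchoose
    rw [hn_def, hb']
    simp
  have hpn : p ∣ n := by
    rw [hn_def]; exact dvd_pow_self p (by omega)
  have hch2 : n.choose 2 * 2 = n * (n - 1) := by
    rw [Nat.choose_two_right]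
    exact Nat.div_mul_cancel (Nat.even_mul_pred_self n).two_dvd
  have hp2 : p = 2 := by
    by_contra hne
    apply hchoose
    have hcop : Nat.Coprime p 2 := (Nat.coprime_primes hp Nat.prime_two).mpr hne
    have h1 : p ∣ n.choose 2 * 2 := by rw [hch2]; exact Dvd.dvd.mul_right hpn _
    exact hcop.dvd_of_dvd_mul_right h1
  have hbeq : b = 2 := by
    by_contra hne
    have hb3 : 3 ≤ b := by omega
    apply hchoose
    rw [hp2]
    have h4 : n = 2 * (2 * 2 ^ (b - 3)) := by
      rw [hn_def, hp2, ← pow_succ', ← pow_succ']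
      congr 1; omega
    have h5 : n.choose 2 * 2 = (2 * (2 ^ (b - 3) * (n - 1))) * 2 := by
      rw [hch2]
      calc n * (n - 1) = (2 * (2 * 2 ^ (b - 3))) * (n - 1) := by rw [← h4]
        _ = _ := by ring
    have h6 := Nat.eq_of_mul_eq_mul_right (by norm_num : 0 < 2) h5
    rw [h6]
    exact Dvd.intro _ rfl
  subst hab
  rw [hp2, hbeq] at ha hb
  refine ⟨by rw [ha]; norm_num, by rw [hb]; norm_num, by rw [hcp, hp2]⟩

/-- **Quaternion pair.** A finite non-abelian group with all subgroups normal contains `x, y`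
of order `4` with `y² = x²` and `y x y⁻¹ = x⁻¹`. -/
theorem exists_quaternion_pair (h : ∃ x y : G, x * y ≠ y * x) :
    ∃ x y : G, orderOf x = 4 ∧ orderOf y = 4 ∧ y ^ 2 = x ^ 2 ∧ y * x * y⁻¹ = x⁻¹ := by
  obtain ⟨x, y, hmin, hle⟩ := exists_minPair h
  obtain ⟨hx, hy, hc⟩ := hmin.orders hn hle
  have hc1 := hmin.comm_ne_one hn
  have hcL := comm_mem_left hn x y
  have hcR := comm_mem_right hn x y
  set c := y * x * y⁻¹ * x⁻¹ with hcdef
  have hc2 : c ^ 2 = 1 := by rw [← hc]; exact pow_orderOf_eq_one c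
  have hx2 : orderOf (x ^ 2) = 2 := by
    rw [orderOf_pow_of_dvd two_ne_zero (by rw [hx]; norm_num), hx]
  have hy2 : orderOf (y ^ 2) = 2 := by
    rw [orderOf_pow_of_dvd two_ne_zero (by rw [hy]; norm_num), hy]
  have hcx2 : c = x ^ 2 := eq_of_mem_zpowers_of_orderOf_two hx2
    (mem_zpowers_of_mem_zpowers two_pos x c (x ^ 2) hcL
      (Subgroup.pow_mem _ (Subgroup.mem_zpowers x) 2) hx2 hc2) hc1
  have hcy2 : c = y ^ 2 := eq_of_mem_zpowers_of_orderOf_two hy2
    (mem_zpowers_of_mem_zpowers two_pos y c (y ^ 2) hcR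
      (Subgroup.pow_mem _ (Subgroup.mem_zpowers y) 2) hy2 hc2) hc1
  refine ⟨x, y, hx, hy, by rw [← hcx2, ← hcy2], ?_⟩
  have hx4 : x ^ 4 = 1 := by rw [← hx]; exact pow_orderOf_eq_one x
  have h1 : y * x * y⁻¹ = c * x := by rw [hcdef]; group
  rw [h1, hcx2]
  apply eq_inv_of_mul_eq_one_left
  rw [← pow_succ, ← pow_succ]
  exact hx4

end main

end Cfsg.Agent.Helper55.Dedekind
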