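import Cfsg.Agent.Lib.Helper55.CD3Defs
import Cfsg.Agent.Lib.Helper62.CD3ATRANS

set_option autoImplicit false
set_option linter.style.haveILetI false

/-! CD3 (L123): Isaacs 12.3 in `Frob` form, assembled from the landed DG2 pieces. -/

namespace Cfsg.Agent.Helper55.CD3W

open Cfsg Cfsg.Agent.Helper55.CD3

universe u

variable {G : Type u} [Group G] [Finite G]

theorem frob_or_pgroup (K : Subgroup G) [K.Normal] [Group.IsSolvable (G ⧸ K)]
    (hK : ¬ commutator G ≤ K)
    (hmax : ∀ L : Subgroup G, L.Normal → K < L → commutator G ≤ L) :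
    ∃ p : ℕ, p.Prime ∧ (IsPGroup p (G ⧸ K) ∨ ∃ (F : Subgroup G) (_ : F.Normal), Frob K F p) := by
  obtain ⟨hna, hq⟩ := Cfsg.Agent.Helper19.DG2.bridge K hK hmax
  obtain ⟨hV, hab, q, n, hqp, hcard⟩ := Cfsg.Agent.Helper90.DG2.comm_abelian hna hq
  refine ⟨q, hqp, ?_⟩
  have hn : 0 < n := by
    rcases Nat.eq_zero_or_pos n with h0 | h0
    · exfalso
      rw [h0, pow_zero] at hcard
      exact hV ((Subgroup.card_eq_one).1 hcard)
    · exact h0
  by_cases hc : commutator (G ⧸ K) ≤ Subgroup.center (G ⧸ K)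
  · left
    obtain ⟨m, hm⟩ := Cfsg.Agent.Helper90.DG2.central_case hq hV q n hqp hcard hc
    haveI : Fact q.Prime := ⟨hqp⟩
    exact IsPGroup.of_card hm
  · right
    obtain ⟨hcop, hfpf⟩ := Cfsg.Agent.Helper16.DG2.noncentral_case hq hV hab q n hqp hcard hc
    obtain ⟨F, hFn, hKF, hGF, hidx, habF, hrel, hfpfF⟩ :=
      Cfsg.Agent.Helper62.CD3A.trans_to_subgroups K q n hab hcard hfpf
    refine ⟨F, hFn, ?_⟩
    haveI := hFn
    have hnt : Nontrivial (G ⧸ K) := by
      by_contra h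
      rw [not_nontrivial_iff_subsingleton] at h
      exact hna (fun a b => Subsingleton.elim _ _)
    have hlt : commutator (G ⧸ K) ≠ ⊤ :=
      ne_of_lt (Group.IsSolvable.commutator_lt_top_of_nontrivial (G ⧸ K))
    refine { le := hKF, prime := hqp, card := ⟨n, hn, hrel⟩, comm := habF, ab := hGF,
             ne_top := ?_, fpf := hfpfF, ndvd := ?_ }
    · intro h
      apply hlt
      rw [← Subgroup.index_eq_one, ← hidx, h, Subgroup.index_top]
    · rw [hidx]
      intro hdvd
      rw [hcard] at hcop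
      have h1 : q ∣ Nat.gcd (q ^ n) (commutator (G ⧸ K)).index :=
        Nat.dvd_gcd (dvd_pow_self q (Nat.pos_iff_ne_zero.1 hn)) hdvd
      rw [Nat.Coprime] at hcop
      rw [hcop] at h1
      exact hqp.one_lt.ne' (Nat.dvd_one.1 h1)

end Cfsg.Agent.Helper55.CD3W
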