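import Cfsg.Agent.Lib.Helper55.BlichChar1
import Cfsg.Agent.Lib.Helper79.Inflation

set_option autoImplicit false

/-! Blichfeldt's theorem, character-theoretic part 2: elements of large prime-power order
centralize abelian normal subgroups; Sylow subgroups for large primes are abelian; reduction
to irreducible faithful characters. -/

namespace Cfsg.Agent.Helper55.Blich

open Cfsg

universe u

variable {G : Type u} [Group G] [Finite G]

/-- Lemma N: an `r`-element (`r > n` prime) of a linear group of degree `n` centralizes every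
abelian normal subgroup. -/
theorem commute_of_normal_abelian {n : ℕ} (h : Lin n G) (A : Subgroup G) [hAn : A.Normal]
    (hA : ∀ a ∈ A, ∀ b ∈ A, a * b = b * a) (r : ℕ) (hr : r.Prime) (hnr : n < r) (x : G) (j : ℕ)
    (hx : x ^ (r ^ j) = 1) (a : G) (ha : a ∈ A) : x * a = a * x := by
  set H : Subgroup G := A ⊔ Subgroup.zpowers x with hH
  have hAH : A ≤ H := le_sup_left
  have hxH : x ∈ H := (le_sup_right : Subgroup.zpowers x ≤ H) (Subgroup.mem_zpowers x)
  let B : Subgroup H := A.subgroupOf H
  haveI : B.Normal := hAn.subgroupOf H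
  have hB : ∀ a ∈ B, ∀ b ∈ B, a * b = b * a := by
    intro a ha b hb
    apply Subtype.ext
    exact hA a ha b hb
  have hidx : B.index ∣ r ^ j := by
    show A.relIndex H ∣ r ^ j
    rw [hH, Subgroup.relIndex_sup_left]
    refine (Subgroup.relIndex_dvd_card _ _).trans ?_
    rw [Nat.card_zpowers]
    exact orderOf_dvd_of_pow_eq_one hx
  obtain ⟨i, _, hi⟩ := (Nat.dvd_prime_pow hr).1 hidx
  have := comm_of_abelian_normal_prime_pow_index (h.restrict H) r hr hnr B hB i hi
    ⟨x, hxH⟩ ⟨a, hAH ha⟩
  exact congrArg Subtype.val this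

/-- Sylow `p`-subgroups of a linear group of degree `n < p` are abelian. -/
theorem sylow_comm {n : ℕ} (h : Lin n G) (p : ℕ) [hp : Fact p.Prime] (hnp : n < p)
    (P : Subgroup G) (hP : IsPGroup p P) : ∀ a ∈ P, ∀ b ∈ P, a * b = b * a := by
  intro a ha b hb
  obtain ⟨k, hk⟩ := IsPGroup.exists_card_eq hP
  have hidx : (⊥ : Subgroup P).index = p ^ k := by rw [Subgroup.index_bot, hk]
  have hB : ∀ a ∈ (⊥ : Subgroup P), ∀ b ∈ (⊥ : Subgroup P), a * b = b * a := by
    intro a ha b hb
    rw [Subgroup.mem_bot] at ha hb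
    rw [ha, hb]
  have := comm_of_abelian_normal_prime_pow_index (h.restrict P) p hp.out hnp ⊥ hB k hidx
    ⟨a, ha⟩ ⟨b, hb⟩
  exact congrArg Subtype.val this

/-- Reduction: a linear group of degree `n` is irreducible of degree `n`, or trivial, or a
subdirect product of irreducible linear groups of smaller degree. -/
theorem Lin.reduce {n : ℕ} (h : Lin n G) :
    IrrLin n G ∨ Subsingleton G ∨
      (0 < n ∧ ∃ S : Set (Subgroup G), (∀ K ∈ S, ∃ hK : K.Normal, IrrLin (n - 1) (G ⧸ K)) ∧
        ∀ g : G, (∀ K ∈ S, g ∈ K) → g = 1) := by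
  classical
  obtain ⟨χ, hχ, hf, hd⟩ := h
  by_cases hirr : IsIrrCharacter G χ
  · exact Or.inl ⟨χ, hirr, hf, hd⟩
  right
  haveI : Fintype (IrrCharacter G) := Fintype.ofFinite _
  obtain ⟨m, hm⟩ := Cfsg.Agent.Helper81.exists_nat_decomp hχ
  by_cases hex : ∃ ψ, m ψ ≠ 0
  · right
    -- every constituent has smaller degree
    have hlt : ∀ ψ, m ψ ≠ 0 → charDegree (ψ : G → ℂ) < charDegree χ := by
      intro ψ hψ
      by_contra hcon
      push Not at hcon
      apply hirr
      have hdec := charDegree_decomp m hm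
      rw [← Finset.add_sum_erase _ _ (Finset.mem_univ ψ)] at hdec
      have hpos := Cfsg.Agent.Helper80.charDegree_pos ψ
      have hmpos : 0 < m ψ := Nat.pos_of_ne_zero hψ
      have h1 : m ψ * charDegree (ψ : G → ℂ) ≤ charDegree (ψ : G → ℂ) := by omega
      have hm1 : m ψ = 1 := by
        by_contra hne
        have : 2 ≤ m ψ := by omega
        nlinarith
      have h2 : ∑ ψ' ∈ Finset.univ.erase ψ, m ψ' * charDegree (ψ' : G → ℂ) = 0 := by
        rw [hm1] at hdec; omega
      have h3 : ∀ ψ', ψ' ≠ ψ → m ψ' = 0 := by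
        intro ψ' hne
        have := (Finset.sum_eq_zero_iff.1 h2) ψ' (Finset.mem_erase.2 ⟨hne, Finset.mem_univ _⟩)
        rcases Nat.mul_eq_zero.1 this with h | h
        · exact h
        · exact absurd h (Cfsg.Agent.Helper80.charDegree_pos ψ').ne'
      have : χ = (ψ : G → ℂ) := by
        rw [hm, Finset.sum_eq_single ψ]
        · rw [hm1]; simp
        · intro ψ' _ hne
          rw [h3 ψ' hne]; simp
        · intro hne
          exact absurd (Finset.mem_univ ψ) hne
      rw [this]
      exact ψ.2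
    obtain ⟨ψ0, hψ0⟩ := hex
    refine ⟨by have := hlt ψ0 hψ0; omega,
      {K | ∃ ψ, m ψ ≠ 0 ∧ K = Cfsg.Agent.Helper79.irrKer ψ}, ?_, ?_⟩
    · rintro K ⟨ψ, hψ, rfl⟩
      refine ⟨inferInstance, ?_⟩
      obtain ⟨ψb, hψb⟩ := Cfsg.Agent.Helper79.exists_deflate (Cfsg.Agent.Helper79.irrKer ψ) ψ le_rfl
      refine ⟨ψb, ψb.2, ?_, ?_⟩
      · intro x hx
        obtain ⟨g, rfl⟩ := QuotientGroup.mk_surjective x
        have h1 : (ψ : G → ℂ) g = (ψ : G → ℂ) 1 := by
          rw [← hψb, Cfsg.Agent.Helper79.inflate_apply, Cfsg.Agent.Helper79.inflate_apply,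
            QuotientGroup.mk_one]
          exact hx
        exact (QuotientGroup.eq_one_iff g).2 ((Cfsg.Agent.Helper79.mem_irrKer ψ g).2 h1)
      · have h1 := Cfsg.Agent.Helper79.charDegree_inflate (Cfsg.Agent.Helper79.irrKer ψ) ψb
        rw [hψb] at h1
        rw [← h1]
        have := hlt ψ hψ
        omega
    · intro g hg
      apply hf
      rw [hm]
      simp only [Finset.sum_apply, Pi.smul_apply, smul_eq_mul]
      apply Finset.sum_congr rfl
      intro ψ _
      by_cases h0 : m ψ = 0
      · simp [h0]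
      · have := hg _ ⟨ψ, h0, rfl⟩
        rw [Cfsg.Agent.Helper79.mem_irrKer] at this
        rw [this]
  · left
    push Not at hex
    have h0 : χ = 0 := by
      rw [hm]
      apply Finset.sum_eq_zero
      intro ψ _
      rw [hex ψ]; simp
    constructor
    intro a b
    rw [hf a (by rw [h0]; rfl), hf b (by rw [h0]; rfl)]

end Cfsg.Agent.Helper55.Blich
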