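import Cfsg.Agent.Lib.Helper55.BlichChar1
import Cfsg.Agent.Lib.Helper75.GaloisTwist
import Cfsg.Agent.Lib.Helper79.Glaub.Cyclo
import Cfsg.Agent.Lib.Helper78.CharOrtho

set_option autoImplicit false

/-! Blichfeldt's theorem, character-theoretic part 3: the Galois argument.  An irreducible
linear group of degree `n` whose order is divisible by two primes `p, q > n + 1` contains
commuting elements of orders `p` and `q`. -/

namespace Cfsg.Agent.Helper55.Blich

open Cfsg

universe u

/-- a faithful character of degree `< p - 1` cannot be rational on an element of order `p` -/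
theorem false_of_rational {G : Type u} [Group G] [Finite G] {χ : G → ℂ} (hχ : IsCharacter G χ)
    (hf : ∀ g : G, χ g = χ 1 → g = 1) (p : ℕ) (hp : p.Prime) (hd : charDegree χ + 1 < p)
    (x : G) (hx : orderOf x = p)
    (hstab : ∀ t : ℕ, ¬ p ∣ t → χ (x ^ t) = χ x) : False := by
  classical
  obtain ⟨n, ρ, rfl⟩ := hχ
  set N := Module.finrank ℂ (Fin n → ℂ) with hN
  have hNn : N = n := by rw [hN]; simp
  have h1 : ρ.character 1 = (N : ℂ) := Representation.char_one ρ
  have hdeg : charDegree ρ.character = N := by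
    unfold charDegree
    rw [h1, Complex.natCast_re, Nat.floor_natCast]
  rw [hdeg] at hd
  obtain ⟨μ, hμ, hpow⟩ := Cfsg.Agent.Helper75.exists_eigenvalues ρ x p hp.pos
    (by rw [← hx]; exact pow_orderOf_eq_one x)
  have hc : ρ.character x = ∑ i, μ i := by
    have := hpow 1
    simpa using this
  -- the value at `x` is an integer
  obtain ⟨w, hw⟩ := Cfsg.Agent.Helper79.Glaub.int_of_galois_stable p hp.pos μ (fun _ => 1) hμ
    (by
      intro k hk
      have hk' : ¬ p ∣ k := (Nat.Prime.coprime_iff_not_dvd hp).1 hk.symm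
      have := hstab k hk'
      rw [hpow k, hc] at this
      simpa using this)
  have hw' : ρ.character x = (w : ℂ) := by
    rw [hc, ← hw]; simp
  -- sum over all powers
  set a0 := (Finset.univ.filter (fun i => μ i = 1)).card with ha0
  have hsum1 : ∑ t ∈ Finset.range p, ρ.character (x ^ t) = (p : ℂ) * a0 := by
    simp_rw [hpow]
    rw [Finset.sum_comm]
    have : ∀ i, ∑ t ∈ Finset.range p, μ i ^ t = if μ i = 1 then (p : ℂ) else 0 := by
      intro i
      split_ifs with h
      · rw [h]; simp
      · rw [geom_sum_eq h, hμ i, sub_self, zero_div]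
    simp_rw [this]
    rw [Finset.sum_ite, Finset.sum_const_zero, add_zero, Finset.sum_const, nsmul_eq_mul, ha0]
    ring
  have hsum2 : ∑ t ∈ Finset.range p, ρ.character (x ^ t) = (N : ℂ) + ((p : ℂ) - 1) * w := by
    obtain ⟨p', rfl⟩ : ∃ p', p = p' + 1 := ⟨p - 1, by have := hp.pos; omega⟩
    rw [Finset.sum_range_succ']
    simp only [pow_zero]
    rw [h1]
    have : ∀ t ∈ Finset.range p', ρ.character (x ^ (t + 1)) = (w : ℂ) := by
      intro t ht
      rw [Finset.mem_range] at ht
      rw [hstab (t + 1) (by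
        intro hdv
        have := Nat.le_of_dvd (by omega) hdv
        omega), hw']
    rw [Finset.sum_congr rfl this, Finset.sum_const, Finset.card_range, nsmul_eq_mul]
    push_cast
    ring
  have heq : (N : ℤ) + ((p : ℤ) - 1) * w = (p : ℤ) * a0 := by
    have h := hsum2.symm.trans hsum1
    exact_mod_cast h
  have ha0le : a0 ≤ N := by
    have := Finset.card_le_univ (Finset.univ.filter (fun i => μ i = 1))
    rw [Fintype.card_fin] at this
    exact this
  -- N = a0
  have hNa : a0 = N := by
    set u : ℤ := (a0 : ℤ) - w with hu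
    have h2 : (N : ℤ) - a0 = ((p : ℤ) - 1) * u := by rw [hu]; linarith
    have hp1 : (0 : ℤ) < (p : ℤ) - 1 := by
      have := hp.two_le
      have : (2 : ℤ) ≤ p := by exact_mod_cast this
      linarith
    have h3 : (0 : ℤ) ≤ (N : ℤ) - a0 := by
      have : (a0 : ℤ) ≤ N := by exact_mod_cast ha0le
      linarith
    have h4 : (N : ℤ) - a0 < (p : ℤ) - 1 := by
      have : (N : ℤ) + 1 < p := by exact_mod_cast hd
      have : (0 : ℤ) ≤ a0 := Int.natCast_nonneg _
      linarith
    have hu0 : u = 0 := by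
      rcases lt_trichotomy u 0 with h | h | h
      · exfalso
        have : ((p : ℤ) - 1) * u < 0 := mul_neg_of_pos_of_neg hp1 h
        linarith
      · exact h
      · exfalso
        have : ((p : ℤ) - 1) * 1 ≤ ((p : ℤ) - 1) * u :=
          mul_le_mul_of_nonneg_left (by linarith) hp1.le
        linarith
    rw [hu0, mul_zero] at h2
    have : (a0 : ℤ) = N := by linarith
    exact_mod_cast this
  -- all eigenvalues are one
  have hall : ∀ i, μ i = 1 := by
    intro i
    have h5 : Finset.univ.filter (fun i => μ i = 1) = Finset.univ := by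
      apply Finset.eq_univ_of_card
      rw [← ha0, hNa, Fintype.card_fin]
    have : i ∈ Finset.univ.filter (fun i => μ i = 1) := by rw [h5]; exact Finset.mem_univ i
    exact (Finset.mem_filter.1 this).2
  have hx1 : x = 1 := by
    apply hf
    rw [hc, h1]
    simp [hall, hN]
  rw [hx1, orderOf_one] at hx
  exact hp.one_lt.ne hx

/-- an exponent `k` prime to `N`, congruent to `1` modulo the `p'`-part and generating the units
modulo `p` -/
theorem exists_twist_exponent (N p : ℕ) (hp : p.Prime) (hN : 0 < N) :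
    ∃ k : ℕ, k.Coprime N ∧ (∀ o : ℕ, o ∣ N → ¬ p ∣ o → k ≡ 1 [MOD o]) ∧
      (∀ t : ℕ, ¬ p ∣ t → ∃ s : ℕ, k ^ s ≡ t [MOD p]) := by
  haveI : Fact p.Prime := ⟨hp⟩
  obtain ⟨a, m', hm', hNeq⟩ := Nat.exists_eq_pow_mul_and_not_dvd hN.ne' p hp.ne_one
  have hcop : Nat.Coprime p m' := (Nat.Prime.coprime_iff_not_dvd hp).2 hm'
  obtain ⟨u, hu⟩ := IsCyclic.exists_generator (α := (ZMod p)ˣ)
  set t0 : ℕ := ((u : ZMod p)).val with ht0
  obtain ⟨k, hk1, hk2⟩ := Nat.chineseRemainder hcop t0 1
  have hkp : (k : ZMod p) = (u : ZMod p) := by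
    have : (k : ZMod p) = (t0 : ZMod p) := (ZMod.natCast_eq_natCast_iff _ _ _).2 hk1
    rw [this, ht0, ZMod.natCast_val, ZMod.cast_id', id]
  have hkp' : ¬ p ∣ k := by
    intro hdv
    have : (k : ZMod p) = 0 := (ZMod.natCast_eq_zero_iff _ _).2 hdv
    rw [hkp] at this
    exact u.ne_zero this
  refine ⟨k, ?_, ?_, ?_⟩
  · rw [hNeq]
    apply Nat.Coprime.mul_right
    · exact Nat.Coprime.pow_right _ ((Nat.Prime.coprime_iff_not_dvd hp).2 hkp').symm
    · have := hk2.gcd_eq
      rw [Nat.Coprime, this]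
      simp
  · intro o ho hpo
    have hco : Nat.Coprime o (p ^ a) :=
      Nat.Coprime.pow_right _ ((Nat.Prime.coprime_iff_not_dvd hp).2 hpo).symm
    rw [hNeq] at ho
    have : o ∣ m' := hco.dvd_of_dvd_mul_left ho
    exact hk2.of_dvd this
  · intro t ht
    have htne : (t : ZMod p) ≠ 0 := by
      intro h0
      exact ht ((ZMod.natCast_eq_zero_iff _ _).1 h0)
    set tu : (ZMod p)ˣ := Units.mk0 (t : ZMod p) htne with htu
    have hmem : tu ∈ Subgroup.zpowers u := hu tu
    rw [← mem_powers_iff_mem_zpowers] at hmem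
    obtain ⟨s, hs⟩ := hmem
    refine ⟨s, ?_⟩
    rw [← ZMod.natCast_eq_natCast_iff]
    push_cast
    rw [hkp]
    have := congrArg (fun v : (ZMod p)ˣ => (v : ZMod p)) hs
    simpa [htu] using this

variable {G : Type u} [Group G] [Finite G]

/-- stability under one generator exponent gives stability under all exponents prime to `p` -/
theorem stab_of_twist {χ : G → ℂ} (p k : ℕ)
    (hgen : ∀ t : ℕ, ¬ p ∣ t → ∃ s : ℕ, k ^ s ≡ t [MOD p])
    (hk : ∀ g : G, χ (g ^ k) = χ g) (x : G) (hx : orderOf x = p) (t : ℕ) (ht : ¬ p ∣ t) :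
    χ (x ^ t) = χ x := by
  obtain ⟨s, hs⟩ := hgen t ht
  have h1 : x ^ t = x ^ (k ^ s) := by
    rw [pow_eq_pow_iff_modEq, hx]
    exact hs.symm
  rw [h1]
  clear h1 hs
  induction s with
  | zero => simp
  | succ s ih => rw [pow_succ, pow_mul, hk, ih]

/-- The Galois argument. -/
theorem exists_commuting_of_irrLin {n : ℕ} (h : IrrLin n G) (p q : ℕ) (hp : p.Prime)
    (hq : q.Prime) (hpq : p ≠ q) (hnp : n + 1 < p) (hnq : n + 1 < q) (hpG : p ∣ Nat.card G)
    (hqG : q ∣ Nat.card G) : ∃ x y : G, orderOf x = p ∧ orderOf y = q ∧ x * y = y * x := by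
  classical
  by_contra hno
  push Not at hno
  haveI := Fintype.ofFinite G
  obtain ⟨χ, hχ, hf, hd⟩ := h
  have hGpos : 0 < Nat.card G := Nat.card_pos
  -- no element of order divisible by `p * q`
  have hord : ∀ g : G, ¬ p ∣ orderOf g ∨ ¬ q ∣ orderOf g := by
    intro g
    by_contra hcon
    push Not at hcon
    obtain ⟨h1, h2⟩ := hcon
    have hopos : 0 < orderOf g := orderOf_pos g
    refine hno (g ^ (orderOf g / p)) (g ^ (orderOf g / q))
      (orderOf_pow_orderOf_div hopos.ne' h1) (orderOf_pow_orderOf_div hopos.ne' h2) ?_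
    rw [← pow_add, ← pow_add, add_comm]
  obtain ⟨k, hk1, hk2, hk3⟩ := exists_twist_exponent (Nat.card G) p hp hGpos
  obtain ⟨l, hl1, hl2, hl3⟩ := exists_twist_exponent (Nat.card G) q hq hGpos
  have hpowk : ∀ g : G, ¬ p ∣ orderOf g → g ^ k = g := by
    intro g hg
    have := hk2 (orderOf g) (orderOf_dvd_natCard g) hg
    conv_rhs => rw [← pow_one g]
    rw [pow_eq_pow_iff_modEq]
    exact this
  have hpowl : ∀ g : G, ¬ q ∣ orderOf g → g ^ l = g := by
    intro g hg
    have := hl2 (orderOf g) (orderOf_dvd_natCard g) hg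
    conv_rhs => rw [← pow_one g]
    rw [pow_eq_pow_iff_modEq]
    exact this
  set χ' : IrrCharacter G := ⟨χ, hχ⟩ with hχ'
  have hirrk := Cfsg.Agent.Helper75.galois_twist_irr χ' k hk1
  have hirrl := Cfsg.Agent.Helper75.galois_twist_irr χ' l hl1
  have hirrkl := Cfsg.Agent.Helper75.galois_twist_irr χ' (k * l) (Nat.Coprime.mul_left hk1 hl1)
  -- the key identity
  have hid : (fun g => χ (g ^ (k * l))) + χ = (fun g => χ (g ^ k)) + (fun g => χ (g ^ l)) := by
    funext g
    simp only [Pi.add_apply]
    rcases hord g with hg | hg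
    · have h1 : g ^ (k * l) = g ^ l := by
        rw [mul_comm, pow_mul]
        apply hpowk
        intro hdv
        exact hg (hdv.trans (orderOf_pow_dvd l))
      rw [h1, hpowk g hg]
      ring
    · have h1 : g ^ (k * l) = g ^ k := by
        rw [pow_mul]
        apply hpowl
        intro hdv
        exact hg (hdv.trans (orderOf_pow_dvd k))
      rw [h1, hpowl g hg]
  -- inner product with `χ`
  have hinner := congrArg (fun f => classInner f χ) hid
  simp only [Cfsg.Agent.Helper78.classInner_add_left] at hinner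
  rw [Cfsg.Agent.Helper78.classInner_irr' hirrkl hχ, Cfsg.Agent.Helper78.classInner_irr' hχ hχ,
    Cfsg.Agent.Helper78.classInner_irr' hirrk hχ, Cfsg.Agent.Helper78.classInner_irr' hirrl hχ]
    at hinner
  have hcase : (fun g => χ (g ^ k)) = χ ∨ (fun g => χ (g ^ l)) = χ := by
    by_contra hcon
    push Not at hcon
    rw [if_neg hcon.1, if_neg hcon.2, if_pos rfl] at hinner
    split_ifs at hinner <;> norm_num at hinner
  have hχc := Cfsg.Agent.Helper80.isCharacter_of_irr hχ
  rcases hcase with hc | hc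
  · haveI : Fact p.Prime := ⟨hp⟩
    obtain ⟨x, hx⟩ := exists_prime_orderOf_dvd_card' (G := G) p hpG
    refine false_of_rational hχc hf p hp (by omega) x hx ?_
    exact stab_of_twist p k hk3 (fun g => congrFun hc g) x hx
  · haveI : Fact q.Prime := ⟨hq⟩
    obtain ⟨y, hy⟩ := exists_prime_orderOf_dvd_card' (G := G) q hqG
    refine false_of_rational hχc hf q hq (by omega) y hy ?_
    exact stab_of_twist q l hl3 (fun g => congrFun hc g) y hy

end Cfsg.Agent.Helper55.Blich
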