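import Cfsg.Agent.Lib.Helper55.BlichChar1
import Cfsg.Agent.Lib.Helper81.CharCore

set_option autoImplicit false

/-! Blichfeldt's theorem, character-theoretic part 4: a central element of large prime order
`p` in an irreducible linear group is detected by the determinant, so the group has a proper
normal subgroup of `p`-power index. -/

namespace Cfsg.Agent.Helper55.Blich

open Cfsg

universe u

variable {G : Type u} [Group G] [Finite G]

theorem exists_normal_prime_pow_index_of_central {n : ℕ} (h : IrrLin n G) (p : ℕ)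
    (hp : p.Prime) (hnp : n < p) (z : G) (hz : z ∈ Subgroup.center G) (hzo : orderOf z = p) :
    ∃ L : Subgroup G, L.Normal ∧ L ≠ ⊤ ∧ ∃ e : ℕ, L.index = p ^ e := by
  classical
  haveI : Fact p.Prime := ⟨hp⟩
  obtain ⟨χ, ⟨d, ρ, hirr, hχ⟩, hf, hd⟩ := h
  haveI := hirr
  have hfr : Module.finrank ℂ (Fin d → ℂ) = d := by simp
  have h1 : χ 1 = (d : ℂ) := by
    rw [← hχ, Representation.char_one, hfr]
  have hdeg : charDegree χ = d := by
    unfold charDegree
    rw [h1, Complex.natCast_re, Nat.floor_natCast]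
  rw [hdeg] at hd
  have hd0 : d ≠ 0 := Cfsg.Agent.Helper80.finrank_ne_zero_of_isIrreducible ρ hirr
  have hdC : (d : ℂ) ≠ 0 := by exact_mod_cast hd0
  -- `ρ z` is a scalar
  obtain ⟨c, hc⟩ := Cfsg.Agent.Helper81.schur_scalar ρ (ρ z) (by
    intro g
    have h2 : z * g = g * z := (Subgroup.mem_center_iff.1 hz g).symm
    have : ρ z * ρ g = ρ g * ρ z := by rw [← map_mul, ← map_mul, h2]
    exact this)
  have htr : ∀ c' : ℂ, LinearMap.trace ℂ (Fin d → ℂ) (c' • LinearMap.id) = c' * d := by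
    intro c'
    rw [map_smul, LinearMap.trace_id, hfr, smul_eq_mul]
  have hcp : c ^ p = 1 := by
    have h2 : (ρ z) ^ p = 1 := by rw [← map_pow, ← hzo, pow_orderOf_eq_one, map_one]
    rw [hc, smul_pow] at h2
    have h3 : (LinearMap.id : (Fin d → ℂ) →ₗ[ℂ] (Fin d → ℂ)) ^ p = LinearMap.id := by
      show (1 : Module.End ℂ (Fin d → ℂ)) ^ p = 1
      exact one_pow p
    rw [h3] at h2
    have h4 := congrArg (LinearMap.trace ℂ (Fin d → ℂ)) h2
    rw [htr] at h4
    have h5 : LinearMap.trace ℂ (Fin d → ℂ) (1 : Module.End ℂ (Fin d → ℂ)) = d := by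
      rw [show (1 : Module.End ℂ (Fin d → ℂ)) = LinearMap.id from rfl, LinearMap.trace_id, hfr]
    rw [h5] at h4
    exact mul_right_cancel₀ hdC (by rw [h4, one_mul])
  have hc1 : c ≠ 1 := by
    intro hc1
    have hz1 : z = 1 := by
      apply hf
      rw [← hχ]
      show LinearMap.trace ℂ (Fin d → ℂ) (ρ z) = LinearMap.trace ℂ (Fin d → ℂ) (ρ 1)
      rw [hc, hc1, one_smul, map_one]
      rfl
    rw [hz1, orderOf_one] at hzo
    exact hp.one_lt.ne hzo
  have hco : orderOf c = p := orderOf_eq_prime hcp hc1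
  have hdet : LinearMap.det (ρ z) = c ^ d := by
    rw [hc, LinearMap.det_smul, hfr, LinearMap.det_id, mul_one]
  -- the homomorphism
  obtain ⟨a, m', hm', hNeq⟩ := Nat.exists_eq_pow_mul_and_not_dvd
    (Nat.card_pos (α := G)).ne' p hp.ne_one
  let f : G →* ℂ := (powMonoidHom m').comp ((LinearMap.det : _ →* ℂ).comp ρ)
  have hfz : ∀ g, f g = (LinearMap.det (ρ g)) ^ m' := fun g => rfl
  refine ⟨f.ker, MonoidHom.normal_ker f, ?_, ?_⟩
  · intro htop
    have hzker : z ∈ f.ker := by rw [htop]; exact Subgroup.mem_top z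
    rw [MonoidHom.mem_ker, hfz, hdet, ← pow_mul] at hzker
    have hdvd : p ∣ d * m' := by
      rw [← hco]
      exact orderOf_dvd_of_pow_eq_one hzker
    rcases (Nat.Prime.dvd_mul hp).1 hdvd with h2 | h2
    · have := Nat.le_of_dvd (Nat.pos_of_ne_zero hd0) h2
      omega
    · exact hm' h2
  · have hpg : IsPGroup p (G ⧸ f.ker) := by
      intro x
      obtain ⟨g, rfl⟩ := QuotientGroup.mk_surjective x
      refine ⟨a, ?_⟩
      rw [← QuotientGroup.mk_pow, QuotientGroup.eq_one_iff, MonoidHom.mem_ker, map_pow, hfz,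
        ← pow_mul, ← map_pow, ← map_pow, mul_comm, ← hNeq, pow_card_eq_one', map_one, map_one]
    obtain ⟨e, he⟩ := IsPGroup.exists_card_eq hpg
    exact ⟨e, by rw [Subgroup.index_eq_card, he]⟩

end Cfsg.Agent.Helper55.Blich
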