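import Mathlib.GroupTheory.Sylow
import Mathlib.GroupTheory.PGroup
import Mathlib.GroupTheory.Index

set_option autoImplicit false

/-! Blichfeldt's theorem, group-theoretic part 1: abelian Hall subgroups, basic tools. -/

namespace Cfsg.Agent.Helper55.Blich

universe u

/-- `G` has an abelian Hall `σ`-subgroup. -/
def HasAbHall (σ : Set ℕ) (G : Type u) [Group G] : Prop :=
  ∃ A : Subgroup G, (∀ x ∈ A, ∀ y ∈ A, x * y = y * x) ∧
    (∀ q : ℕ, q.Prime → q ∣ Nat.card A → q ∈ σ) ∧ (∀ q : ℕ, q.Prime → q ∣ A.index → q ∉ σ)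

variable {G : Type u} [Group G]

/-- an abelian Hall subgroup of a subgroup, in terms of subgroups of `G` -/
theorem HasAbHall.exists_le {σ : Set ℕ} {H : Subgroup G} (h : HasAbHall σ H) :
    ∃ A : Subgroup G, A ≤ H ∧ (∀ x ∈ A, ∀ y ∈ A, x * y = y * x) ∧
      (∀ q : ℕ, q.Prime → q ∣ Nat.card A → q ∈ σ) ∧
      (∀ q : ℕ, q.Prime → q ∣ A.relIndex H → q ∉ σ) := by
  obtain ⟨A, hA1, hA2, hA3⟩ := h
  refine ⟨A.map H.subtype, Subgroup.map_subtype_le A, ?_, ?_, ?_⟩
  · rintro x ⟨a, ha, rfl⟩ y ⟨b, hb, rfl⟩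
    have := hA1 a ha b hb
    exact congrArg Subtype.val this
  · intro q hq hdvd
    apply hA2 q hq
    rwa [Nat.card_congr (Subgroup.equivMapOfInjective A H.subtype H.subtype_injective).toEquiv.symm]
      at hdvd
  · intro q hq hdvd
    apply hA3 q hq
    have : (A.map H.subtype).relIndex H = A.index := by
      unfold Subgroup.relIndex
      congr 1
      ext x
      simp [Subgroup.mem_subgroupOf]
    rwa [this] at hdvd

theorem hasAbHall_of_exists {σ : Set ℕ} (A : Subgroup G) (hA1 : ∀ x ∈ A, ∀ y ∈ A, x * y = y * x)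
    (hA2 : ∀ q : ℕ, q.Prime → q ∣ Nat.card A → q ∈ σ)
    (hA3 : ∀ q : ℕ, q.Prime → q ∣ A.index → q ∉ σ) : HasAbHall σ G := ⟨A, hA1, hA2, hA3⟩

/-- a `p`-subgroup is conjugate into any subgroup of index prime to `p` -/
theorem exists_conj_mem {p : ℕ} [Fact p.Prime] (P : Subgroup G) (hP : IsPGroup p P)
    (B : Subgroup G) (hB : ¬ p ∣ B.index) : ∃ g : G, ∀ u ∈ P, g⁻¹ * u * g ∈ B := by
  have hcard : ¬ p ∣ Nat.card (G ⧸ B) := by rwa [← Subgroup.index_eq_card]
  obtain ⟨c, hc⟩ := hP.nonempty_fixed_point_of_prime_not_dvd_card (G ⧸ B) hcard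
  obtain ⟨g, rfl⟩ := QuotientGroup.mk_surjective c
  refine ⟨g, fun u hu => ?_⟩
  have h1 := hc ⟨u, hu⟩
  have h2 : ((u * g : G) : G ⧸ B) = (g : G ⧸ B) := h1
  rw [QuotientGroup.eq] at h2
  have h3 : g⁻¹ * u * g = ((u * g)⁻¹ * g)⁻¹ := by group
  rw [h3]
  exact B.inv_mem h2

/-- Constructor of abelian Hall subgroups from a family of pairwise commuting subgroups of
prime power order. -/
theorem hasAbHall_of_family [Finite G] {σ : Set ℕ} (S : Set (Subgroup G))
    (h1 : ∀ R ∈ S, ∃ r : ℕ, r.Prime ∧ r ∈ σ ∧ IsPGroup r R)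
    (h2 : ∀ R ∈ S, ∀ R' ∈ S, ∀ x ∈ R, ∀ y ∈ R', x * y = y * x)
    (h3 : ∀ q : ℕ, q.Prime → q ∈ σ → ∃ R ∈ S, ¬ q ∣ R.index) : HasAbHall σ G := by
  set k : Set G := ⋃ R ∈ S, (R : Set G) with hk
  have hkcomm : ∀ x ∈ k, ∀ y ∈ k, x * y = y * x := by
    intro x hx y hy
    simp only [hk, Set.mem_iUnion, SetLike.mem_coe, exists_prop] at hx hy
    obtain ⟨R, hR, hxR⟩ := hx
    obtain ⟨R', hR', hyR'⟩ := hy
    exact h2 R hR R' hR' x hxR y hyR'
  set A : Subgroup G := Subgroup.closure k with hA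
  have hle : ∀ R ∈ S, R ≤ A := by
    intro R hR x hx
    apply Subgroup.subset_closure
    simp only [hk, Set.mem_iUnion, SetLike.mem_coe, exists_prop]
    exact ⟨R, hR, hx⟩
  have hAcomm : ∀ x ∈ A, ∀ y ∈ A, x * y = y * x := by
    intro x hx y hy
    letI := Subgroup.closureCommGroupOfComm hkcomm
    have := mul_comm (⟨x, hx⟩ : Subgroup.closure k) ⟨y, hy⟩
    exact congrArg Subtype.val this
  -- every element of `A` is a `σ`-element
  let T : Subgroup G :=
    { carrier := {x | x ∈ A ∧ ∀ q : ℕ, q.Prime → q ∣ orderOf x → q ∈ σ}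
      one_mem' := by
        refine ⟨A.one_mem, ?_⟩
        intro q hq hdvd
        rw [orderOf_one] at hdvd
        exact absurd (Nat.dvd_one.1 hdvd) hq.ne_one
      mul_mem' := by
        rintro x y ⟨hx, hx'⟩ ⟨hy, hy'⟩
        refine ⟨A.mul_mem hx hy, ?_⟩
        intro q hq hdvd
        have hc : Commute x y := hAcomm x hx y hy
        have h4 := hdvd.trans hc.orderOf_mul_dvd_lcm
        have h5 : q ∣ orderOf x * orderOf y := h4.trans (Nat.lcm_dvd_mul _ _)
        rcases (Nat.Prime.dvd_mul hq).1 h5 with h | h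
        · exact hx' q hq h
        · exact hy' q hq h
      inv_mem' := by
        rintro x ⟨hx, hx'⟩
        refine ⟨A.inv_mem hx, ?_⟩
        intro q hq hdvd
        rw [orderOf_inv] at hdvd
        exact hx' q hq hdvd }
  have hAT : A ≤ T := by
    rw [hA, Subgroup.closure_le]
    intro x hx
    have hxA : x ∈ A := Subgroup.subset_closure hx
    simp only [hk, Set.mem_iUnion, SetLike.mem_coe, exists_prop] at hx
    obtain ⟨R, hR, hxR⟩ := hx
    obtain ⟨r, hr, hrσ, hRp⟩ := h1 R hR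
    refine ⟨hxA, ?_⟩
    intro q hq hdvd
    obtain ⟨j, hj⟩ := hRp ⟨x, hxR⟩
    have h4 : x ^ r ^ j = 1 := by
      have := congrArg Subtype.val hj
      simpa using this
    have h5 : q ∣ r ^ j := hdvd.trans (orderOf_dvd_of_pow_eq_one h4)
    have h6 : q ∣ r := hq.dvd_of_dvd_pow h5
    rw [(Nat.prime_dvd_prime_iff_eq hq hr).1 h6]
    exact hrσ
  refine ⟨A, hAcomm, ?_, ?_⟩
  · intro q hq hdvd
    haveI : Fact q.Prime := ⟨hq⟩
    obtain ⟨x, hx⟩ := exists_prime_orderOf_dvd_card' (G := A) q hdvd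
    have h4 := (hAT x.2).2 q hq
    apply h4
    rw [← Subgroup.orderOf_coe] at hx
    rw [hx]
  · intro q hq hdvd hqσ
    obtain ⟨R, hR, hRq⟩ := h3 q hq hqσ
    exact hRq (hdvd.trans (Subgroup.index_dvd_of_le (hle R hR)))

end Cfsg.Agent.Helper55.Blich
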