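import Cfsg.Agent.Lib.Helper55.BlichGroup1
import Cfsg.Agent.Lib.Helper55.BlichChar2
import Cfsg.Agent.Lib.Helper55.BlichChar3
import Cfsg.Agent.Lib.Helper55.BlichChar4
import Cfsg.Agent.Lib.Helper55.HallCount

set_option autoImplicit false

/-! Blichfeldt's theorem, group-theoretic part 2: the minimal counterexample. -/

namespace Cfsg.Agent.Helper55.Blich

open scoped Pointwise

universe u

variable {G : Type u} [Group G] [Finite G]

/-- A minimal counterexample to Blichfeldt's theorem. -/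
structure MinCE (σ : Set ℕ) (n : ℕ) (G : Type u) [Group G] [Finite G] : Prop where
  lin : Lin n G
  hσ : ∀ q ∈ σ, n + 1 < q
  not_hall : ¬ HasAbHall σ G
  sub : ∀ H : Subgroup G, H ≠ ⊤ → HasAbHall σ H
  quot : ∀ (K : Subgroup G) (_ : K.Normal) (m : ℕ), m < n → Lin m (G ⧸ K) → HasAbHall σ (G ⧸ K)

theorem mem_smul_sylow' {p : ℕ} (g : G) (T : Sylow p G) (x : G) :
    x ∈ ((g • T : Sylow p G) : Subgroup G) ↔ g⁻¹ * x * g ∈ (T : Subgroup G) := by
  rw [Sylow.coe_subgroup_smul, Subgroup.mem_pointwise_smul_iff_inv_smul_mem]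
  simp [MulAut.smul_def]

namespace MinCE

variable {σ : Set ℕ} {n : ℕ} (h : MinCE σ n G)
include h

theorem exists_sub (H : Subgroup G) (hH : H ≠ ⊤) :
    ∃ A : Subgroup G, A ≤ H ∧ (∀ x ∈ A, ∀ y ∈ A, x * y = y * x) ∧
      (∀ q : ℕ, q.Prime → q ∣ Nat.card A → q ∈ σ) ∧
      (∀ q : ℕ, q.Prime → q ∣ A.relIndex H → q ∉ σ) := (h.sub H hH).exists_le

theorem exists_prime_dvd_index (A : Subgroup G) (hA1 : ∀ x ∈ A, ∀ y ∈ A, x * y = y * x)
    (hA2 : ∀ q : ℕ, q.Prime → q ∣ Nat.card A → q ∈ σ) :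
    ∃ q : ℕ, q.Prime ∧ q ∈ σ ∧ q ∣ A.index := by
  by_contra hcon
  push Not at hcon
  exact h.not_hall ⟨A, hA1, hA2, fun q hq hdvd hqσ => hcon q hq hqσ hdvd⟩

/-- no `σ`-prime divides the index of a proper subgroup's Hall subgroup times ... : a proper
subgroup whose index is prime to `σ` gives a contradiction -/
theorem false_of_index (H : Subgroup G) (hH : H ≠ ⊤)
    (hidx : ∀ q : ℕ, q.Prime → q ∈ σ → ¬ q ∣ H.index) : False := by
  obtain ⟨A, hAH, hA1, hA2, hA3⟩ := h.exists_sub H hH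
  obtain ⟨q, hq, hqσ, hdvd⟩ := h.exists_prime_dvd_index A hA1 hA2
  rw [← Subgroup.relIndex_mul_index hAH] at hdvd
  rcases (Nat.Prime.dvd_mul hq).1 hdvd with h1 | h1
  · exact hA3 q hq h1 hqσ
  · exact hidx q hq hqσ h1

theorem lt_of_mem {q : ℕ} (hq : q ∈ σ) : n < q := by
  have := h.hσ q hq
  omega

/-- with a proper normal subgroup of `p`-power index, Sylow subgroups for the other primes of
`σ` are normal -/
theorem normal_sylow (L : Subgroup G) [L.Normal] (hL : L ≠ ⊤) (p : ℕ) (hp : p.Prime) (e : ℕ)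
    (hidx : L.index = p ^ e) (r : ℕ) [hrf : Fact r.Prime] (hrσ : r ∈ σ) (hrp : r ≠ p) :
    ∃ R : Sylow r G, (R : Subgroup G).Normal := by
  have hr := hrf.out
  obtain ⟨A, hAL, hAc, hAσ, hAi⟩ := h.exists_sub L hL
  obtain ⟨R0⟩ := (inferInstance : Nonempty (Sylow r G))
  have hAidx : ¬ r ∣ A.index := by
    rw [← Subgroup.relIndex_mul_index hAL, hidx]
    intro hd
    rcases (Nat.Prime.dvd_mul hr).1 hd with h1 | h1
    · exact hAi r hr h1 hrσ
    · exact hrp ((Nat.prime_dvd_prime_iff_eq hr hp).1 (hr.dvd_of_dvd_pow h1))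
  obtain ⟨g, hg⟩ := exists_conj_mem (R0 : Subgroup G) R0.2 A hAidx
  set R1 : Sylow r G := g⁻¹ • R0 with hR1
  have hR1A : (R1 : Subgroup G) ≤ A := by
    intro x hx
    rw [hR1, mem_smul_sylow', inv_inv] at hx
    have := hg _ hx
    have h2 : g⁻¹ * (g * x * g⁻¹) * g = x := by group
    rwa [h2] at this
  refine ⟨R1, ?_⟩
  by_contra hnn
  have hN : Subgroup.normalizer ((R1 : Subgroup G) : Set G) ≠ ⊤ := by
    intro htop
    exact hnn (Subgroup.normalizer_eq_top_iff.1 htop)
  set N := Subgroup.normalizer ((R1 : Subgroup G) : Set G) with hNdef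
  have hAN : A ≤ N := by
    intro a ha
    rw [hNdef, Subgroup.mem_normalizer_iff]
    intro x
    constructor
    · intro hx
      have : a * x = x * a := hAc a ha x (hR1A hx)
      rw [this, mul_inv_cancel_right]
      exact hx
    · intro hx
      have hc : a * (a * x * a⁻¹) = (a * x * a⁻¹) * a := hAc a ha _ (hR1A hx)
      have : a * x * a⁻¹ = x := by
        have h3 : a * x * a⁻¹ * a = a * x := by group
        rw [← hc] at h3
        have h4 := mul_left_cancel h3
        exact h4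
      rwa [this] at hx
  have hfrat : N ⊔ L = ⊤ := Sylow.normalizer_sup_eq_top' R1 (hR1A.trans hAL)
  have hNidx : N.index = N.relIndex L := by
    rw [← Subgroup.relIndex_top_right, ← hfrat]
    exact Cfsg.Agent.Helper55.HallCount.relIndex_sup_self_left N L
  apply h.false_of_index N hN
  intro q hq hqσ hdvd
  rw [hNidx] at hdvd
  have h5 : N.relIndex L ∣ A.relIndex L := Subgroup.relIndex_dvd_of_le_left L hAN
  exact hAi q hq (hdvd.trans h5) hqσ

/-- a minimal counterexample has no proper normal subgroup of `p`-power index, `p ∈ σ` -/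
theorem no_normal_prime_pow_index (L : Subgroup G) [L.Normal] (hL : L ≠ ⊤) (p : ℕ)
    (hp : p.Prime) (hpσ : p ∈ σ) (e : ℕ) (hidx : L.index = p ^ e) : False := by
  haveI : Fact p.Prime := ⟨hp⟩
  obtain ⟨P0⟩ := (inferInstance : Nonempty (Sylow p G))
  apply h.not_hall
  apply hasAbHall_of_family
    {R | ∃ r : ℕ, r.Prime ∧ r ∈ σ ∧ IsPGroup r R ∧ ¬ r ∣ R.index ∧
      (r ≠ p → R.Normal) ∧ (r = p → R = (P0 : Subgroup G))}
  · rintro R ⟨r, hr, hrσ, hRp, -, -, -⟩
    exact ⟨r, hr, hrσ, hRp⟩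
  · -- pairwise commuting
    have key : ∀ R R' : Subgroup G, ∀ r r' : ℕ, r.Prime → r'.Prime → r ∈ σ → r' ∈ σ →
        IsPGroup r R → IsPGroup r' R' → R.Normal → ∀ x ∈ R, ∀ y ∈ R', x * y = y * x := by
      intro R R' r r' hr hr' hrσ hr'σ hRp hR'p hRn x hx y hy
      haveI : Fact r.Prime := ⟨hr⟩
      haveI := hRn
      have hRab := sylow_comm h.lin r (h.lt_of_mem hrσ) R hRp
      obtain ⟨j, hj⟩ := hR'p ⟨y, hy⟩
      have hy' : y ^ r' ^ j = 1 := by
        have := congrArg Subtype.val hj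
        simpa using this
      exact (commute_of_normal_abelian h.lin R hRab r' hr' (h.lt_of_mem hr'σ) y j hy' x hx).symm
    rintro R ⟨r, hr, hrσ, hRp, -, hRn, hRP⟩ R' ⟨r', hr', hr'σ, hR'p, -, hR'n, hR'P⟩ x hx y hy
    by_cases h1 : r = p
    · by_cases h2 : r' = p
      · rw [hRP h1] at hx
        rw [hR'P h2] at hy
        exact sylow_comm h.lin p (h.lt_of_mem hpσ) (P0 : Subgroup G) P0.2 x hx y hy
      · exact (key R' R r' r hr' hr hr'σ hrσ hR'p hRp (hR'n h2) y hy x hx).symm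
    · exact key R R' r r' hr hr' hrσ hr'σ hRp hR'p (hRn h1) x hx y hy
  · intro q hq hqσ
    haveI : Fact q.Prime := ⟨hq⟩
    by_cases hqp : q = p
    · subst hqp
      exact ⟨(P0 : Subgroup G), ⟨q, hq, hqσ, P0.2, P0.not_dvd_index, fun hne => absurd rfl hne,
        fun _ => rfl⟩, P0.not_dvd_index⟩
    · obtain ⟨R, hRn⟩ := h.normal_sylow L hL p hp e hidx q hqσ hqp
      exact ⟨(R : Subgroup G), ⟨q, hq, hqσ, R.2, R.not_dvd_index, fun _ => hRn,
        fun he => absurd he hqp⟩, R.not_dvd_index⟩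

/-- a minimal counterexample with an irreducible faithful character has no central element of
prime order in `σ` -/
theorem no_central (hirr : IrrLin n G) (z : G) (hz : z ∈ Subgroup.center G) (p : ℕ)
    (hp : p.Prime) (hpσ : p ∈ σ) (hzo : orderOf z = p) : False := by
  obtain ⟨L, hLn, hLt, e, he⟩ :=
    exists_normal_prime_pow_index_of_central hirr p hp (h.lt_of_mem hpσ) z hz hzo
  haveI := hLn
  exact h.no_normal_prime_pow_index L hLt p hp hpσ e he

end MinCE

end Cfsg.Agent.Helper55.Blich
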