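import Cfsg.Agent.Lib.Helper55.CD3Defs

set_option autoImplicit false
set_option linter.style.haveILetI false

/-! CD3 (A1): in the `p`-group case `p` divides every nonlinear degree and one of `m, n` is a power of `p`. -/

namespace Cfsg.Agent.Helper55.CD3W

open Cfsg Cfsg.Agent.Helper79 Cfsg.Agent.Helper55.CD3

universe u

variable {G : Type u} [Group G] [Finite G]

theorem caseA_dvd (K : Subgroup G) [K.Normal] (p : ℕ) (hp : p.Prime) (hP : IsPGroup p (G ⧸ K))
    (hna : ¬ ∀ a b : G ⧸ K, a * b = b * a) (m n : ℕ) (hm : 1 < m) (hmn : m < n) (hcd : CD3 G m n) :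
    (∀ χ : IrrCharacter G, charDegree (χ : G → ℂ) ≠ 1 → p ∣ charDegree (χ : G → ℂ)) ∧
      ((∃ a : ℕ, m = p ^ a) ∨ (∃ a : ℕ, n = p ^ a)) := by
  classical
  haveI : Fact p.Prime := ⟨hp⟩
  obtain ⟨e, he⟩ := IsPGroup.iff_card.1 hP
  obtain ⟨β, hβ1, hβp⟩ := Cfsg.Agent.Helper78.DG2.pgroup_char hna p e hp he
  have hβd : charDegree (β : G ⧸ K → ℂ) ∣ p ^ e := by
    rw [← he]; exact irr_degree_dvd_card β
  obtain ⟨a, -, ha⟩ := (Nat.dvd_prime_pow hp).1 hβd
  obtain ⟨ψ0, hψ0⟩ := Cfsg.Agent.Helper79.DG2.inflate_deg K β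
  have hβmn : charDegree (β : G ⧸ K → ℂ) = m ∨ charDegree (β : G ⧸ K → ℂ) = n := by
    rcases hcd ψ0 with h | h | h
    · rw [hψ0] at h; omega
    · left; rw [← hψ0]; exact h
    · right; rw [← hψ0]; exact h
  refine ⟨?_, ?_⟩
  · intro χ hχ1
    by_contra hnd
    have hidx : K.index = p ^ e := by rw [Subgroup.index_eq_card]; exact he
    have hcop : Nat.Coprime (charDegree (χ : G → ℂ)) K.index := by
      rw [hidx]
      exact Nat.Coprime.pow_right e ((Nat.Prime.coprime_iff_not_dvd hp).2 hnd).symm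
    haveI : Group.IsNilpotent (G ⧸ K) := hP.isNilpotent
    haveI : Group.IsSolvable (G ⧸ K) := inferInstance
    have hχK := Cfsg.Agent.Helper81.DG2.restrict_irr_of_coprime K χ hcop
    obtain ⟨ψ, hψ⟩ := Cfsg.Agent.Helper79.DG2.gallagher_deg K χ hχK β
    have hχmn : charDegree (χ : G → ℂ) = m ∨ charDegree (χ : G → ℂ) = n := by
      rcases hcd χ with h | h | h
      · exact absurd h hχ1
      · exact Or.inl h
      · exact Or.inr h
    have hψ3 := hcd ψ
    rw [hψ] at hψ3
    have hχm : charDegree (χ : G → ℂ) = m := by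
      rcases hβmn with hb | hb <;> rcases hχmn with hc | hc <;> rw [hb, hc] at hψ3 <;>
        first
        | exact hc
        | (exfalso; rcases hψ3 with h | h | h <;> nlinarith)
    have hβm : charDegree (β : G ⧸ K → ℂ) = m := by
      rcases hβmn with hb | hb
      · exact hb
      · exfalso
        rw [hb, hχm] at hψ3
        rcases hψ3 with h | h | h <;> nlinarith
    apply hnd
    rw [hχm, ← hβm]
    exact hβp
  · rcases hβmn with h | h
    · left; exact ⟨a, h ▸ ha⟩
    · right; exact ⟨a, h ▸ ha⟩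

end Cfsg.Agent.Helper55.CD3W
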