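import Cfsg.Agent.Lib.Helper55.CD3Defs

set_option autoImplicit false
set_option linter.style.haveILetI false

/-! CD3 (A3): degrees of a normal `p`-complement (backup copy). -/

namespace Cfsg.Agent.Helper55.CD3W

open Cfsg Cfsg.Agent.Helper79 Cfsg.Agent.Helper55.CD3

universe u

variable {G : Type u} [Group G] [Finite G]

theorem pcompl_deg (p : ℕ) (hp : p.Prime) (H : Subgroup G) [H.Normal] (hH : (Nat.card H).Coprime p)
    (k : ℕ) (hk : H.index = p ^ k) (θ : IrrCharacter H) :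
    ¬ p ∣ charDegree (θ : H → ℂ) ∧
      ∃ (χ : IrrCharacter G) (j : ℕ), charDegree (χ : G → ℂ) = p ^ j * charDegree (θ : H → ℂ) := by
  classical
  haveI := Fintype.ofFinite H
  refine ⟨?_, ?_⟩
  · intro hdvd
    have h1 : p ∣ Nat.card H := dvd_trans hdvd (irr_degree_dvd_card θ)
    have h2 : p ∣ Nat.gcd (Nat.card H) p := Nat.dvd_gcd h1 dvd_rfl
    rw [Nat.Coprime] at hH
    rw [hH] at h2
    exact hp.one_lt.ne' (Nat.dvd_one.1 h2)
  · obtain ⟨χ, e, he, hdvd, -⟩ := Cfsg.Agent.Helper76.CD2.exists_over H θ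
    rw [hk] at hdvd
    obtain ⟨j, -, hj⟩ := (Nat.dvd_prime_pow hp).1 hdvd
    exact ⟨χ, j, by rw [he, hj]⟩

end Cfsg.Agent.Helper55.CD3W
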