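import Cfsg.Agent.Lib.Helper55.CD3Easy
import Cfsg.Agent.Lib.Helper55.CD3A3

set_option autoImplicit false
set_option linter.style.haveILetI false

/-! CD3 (A4a): nonabelian normal `p`-complement. -/

namespace Cfsg.Agent.Helper55.CD3W

open Cfsg Cfsg.Agent.Helper79 Cfsg.Agent.Helper55.CD3
open scoped commutatorElement

universe u

variable {G : Type u} [Group G] [Finite G]

theorem caseA_nonab_aux (p : ℕ) (hp : p.Prime) (H : Subgroup G) [H.Normal]
    (hH : (Nat.card H).Coprime p) (k : ℕ) (hk : H.index = p ^ k) (f d a : ℕ) (hf : f = p ^ a)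
    (hcd : CD3 G f d)
    (hHna : ¬ ∀ a ∈ H, ∀ b ∈ H, a * b = b * a) : derivedSeries G 3 = ⊥ := by
  classical
  -- a nonlinear character of `H`
  have hnl : ∃ θ₀ : IrrCharacter H, charDegree (θ₀ : H → ℂ) ≠ 1 := by
    by_contra hall
    apply hHna
    have hlin : ∀ θ : IrrCharacter H, charDegree (θ : H → ℂ) = 1 :=
      fun θ => by_contra fun h => hall ⟨θ, h⟩
    have hc := Cfsg.Agent.Helper76.CD2.comm_of_all_linear hlin
    intro x hx y hy
    have := hc ⟨x, hx⟩ ⟨y, hy⟩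
    exact congrArg Subtype.val this
  obtain ⟨θ₀, hθ₀⟩ := hnl
  -- the structure of degrees of `H`
  have key : ∀ θ : IrrCharacter H, charDegree (θ : H → ℂ) ≠ 1 →
      ¬ p ∣ charDegree (θ : H → ℂ) ∧ ∃ j : ℕ, d = p ^ j * charDegree (θ : H → ℂ) := by
    intro θ hθ
    obtain ⟨hnd, χ, j, hχ⟩ := pcompl_deg p hp H hH k hk θ
    refine ⟨hnd, j, ?_⟩
    rcases hcd χ with h | h | h
    · exfalso
      rw [h] at hχ
      have : charDegree (θ : H → ℂ) ∣ 1 := ⟨p ^ j, by rw [hχ]; ring⟩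
      exact hθ (Nat.dvd_one.1 this)
    · exfalso
      rw [h, hf] at hχ
      have h1 : charDegree (θ : H → ℂ) ∣ p ^ a := ⟨p ^ j, by rw [hχ]; ring⟩
      obtain ⟨i, -, hi⟩ := (Nat.dvd_prime_pow hp).1 h1
      rcases Nat.eq_zero_or_pos i with h0 | h0
      · rw [h0, pow_zero] at hi; exact hθ hi
      · exact hnd (hi ▸ dvd_pow_self p (Nat.pos_iff_ne_zero.1 h0))
    · rw [← h]; exact hχ
  obtain ⟨hnd₀, j₀, hd₀⟩ := key θ₀ hθ₀
  -- `cd(H) ⊆ {1, deg θ₀}`
  have hcdH : ∀ θ : IrrCharacter H, charDegree (θ : H → ℂ) = 1 ∨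
      charDegree (θ : H → ℂ) = charDegree (θ₀ : H → ℂ) := by
    intro θ
    by_cases hθ : charDegree (θ : H → ℂ) = 1
    · exact Or.inl hθ
    · right
      obtain ⟨hnd, j, hd⟩ := key θ hθ
      have hc1 : Nat.Coprime (charDegree (θ : H → ℂ)) (p ^ j₀) :=
        Nat.Coprime.pow_right j₀ ((Nat.Prime.coprime_iff_not_dvd hp).2 hnd).symm
      have hc2 : Nat.Coprime (charDegree (θ₀ : H → ℂ)) (p ^ j) :=
        Nat.Coprime.pow_right j ((Nat.Prime.coprime_iff_not_dvd hp).2 hnd₀).symm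
      have h1 : charDegree (θ : H → ℂ) ∣ p ^ j₀ * charDegree (θ₀ : H → ℂ) := by
        rw [← hd₀, hd]; exact Dvd.intro_left _ rfl
      have h2 : charDegree (θ₀ : H → ℂ) ∣ p ^ j * charDegree (θ : H → ℂ) := by
        rw [← hd, hd₀]; exact Dvd.intro_left _ rfl
      exact Nat.dvd_antisymm (hc1.dvd_of_dvd_mul_left h1) (hc2.dvd_of_dvd_mul_left h2)
  have hH2 : ⁅⁅H, H⁆, ⁅H, H⁆⁆ = ⊥ := two_deg_sub H _ hcdH
  -- `d` is not a power of `p`
  have hdnp : ∀ i : ℕ, d ≠ p ^ i := by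
    intro i hi
    have h1 : charDegree (θ₀ : H → ℂ) ∣ p ^ i := ⟨p ^ j₀, by rw [← hi, hd₀]; ring⟩
    obtain ⟨i', -, hi'⟩ := (Nat.dvd_prime_pow hp).1 h1
    rcases Nat.eq_zero_or_pos i' with h0 | h0
    · rw [h0, pow_zero] at hi'; exact hθ₀ hi'
    · exact hnd₀ (hi' ▸ dvd_pow_self p (Nat.pos_iff_ne_zero.1 h0))
  -- the quotient by `H'`
  haveI hN : (⁅H, H⁆ : Subgroup G).Normal := inferInstance
  set N : Subgroup G := ⁅H, H⁆ with hNdef
  have hNH : N ≤ H := Subgroup.commutator_le_left H H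
  set A : Subgroup (G ⧸ N) := H.map (QuotientGroup.mk' N) with hA
  haveI hAn : A.Normal :=
    Subgroup.Normal.map inferInstance _ (QuotientGroup.mk'_surjective N)
  have hAc : ∀ x ∈ A, ∀ y ∈ A, x * y = y * x := by
    rintro x ⟨a, ha, rfl⟩ y ⟨b, hb, rfl⟩
    have hab : ⁅a, b⁆ ∈ N := Subgroup.commutator_mem_commutator ha hb
    have h1 : (QuotientGroup.mk' N) ⁅a, b⁆ = 1 := (QuotientGroup.eq_one_iff _).2 hab
    rw [map_commutatorElement, commutatorElement_eq_one_iff_mul_comm] at h1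
    exact h1
  have hAidx : A.index = p ^ k := by
    rw [hA, Subgroup.index_map_eq H (QuotientGroup.mk'_surjective N)
      (by rw [QuotientGroup.ker_mk']; exact hNH), hk]
  have hQ : ∀ ψ : IrrCharacter (G ⧸ N), charDegree (ψ : G ⧸ N → ℂ) = 1 ∨
      charDegree (ψ : G ⧸ N → ℂ) = f := by
    intro ψ
    have h1 : charDegree (ψ : G ⧸ N → ℂ) ∣ p ^ k := by
      rw [← hAidx]; exact Cfsg.Agent.Helper55.Blich.ito_dvd A hAc ψ
    obtain ⟨i, -, hi⟩ := (Nat.dvd_prime_pow hp).1 h1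
    rcases cd3_quotient f d hcd N ψ with h | h | h
    · exact Or.inl h
    · exact Or.inr h
    · exact absurd (h ▸ hi) (hdnp i)
  have hQ2 : derivedSeries (G ⧸ N) 2 = ⊥ := two_deg f hQ
  have hG2 : derivedSeries G 2 ≤ N := by
    have h1 := map_derivedSeries_le_derivedSeries (QuotientGroup.mk' N) 2
    rw [hQ2, le_bot_iff] at h1
    intro g hg
    have h2 : (QuotientGroup.mk' N) g ∈ Subgroup.map (QuotientGroup.mk' N) (derivedSeries G 2) :=
      Subgroup.mem_map_of_mem _ hg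
    rw [h1, Subgroup.mem_bot] at h2
    exact (QuotientGroup.eq_one_iff g).1 h2
  rw [derivedSeries_succ, eq_bot_iff, ← hH2]
  exact Subgroup.commutator_mono hG2 hG2

theorem caseA_nonab (p : ℕ) (hp : p.Prime) (H : Subgroup G) [H.Normal] (hH : (Nat.card H).Coprime p)
    (k : ℕ) (hk : H.index = p ^ k) (m n : ℕ) (hcd : CD3 G m n)
    (hpow : (∃ a : ℕ, m = p ^ a) ∨ (∃ a : ℕ, n = p ^ a))
    (hHna : ¬ ∀ a ∈ H, ∀ b ∈ H, a * b = b * a) : derivedSeries G 3 = ⊥ := by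
  rcases hpow with ⟨a, ha⟩ | ⟨a, ha⟩
  · exact caseA_nonab_aux p hp H hH k hk m n a ha hcd hHna
  · refine caseA_nonab_aux p hp H hH k hk n m a ha (fun χ => ?_) hHna
    rcases hcd χ with h | h | h
    · exact Or.inl h
    · exact Or.inr (Or.inr h)
    · exact Or.inr (Or.inl h)

end Cfsg.Agent.Helper55.CD3W
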