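import Cfsg.Agent.Lib.Helper55.CD3Defs

set_option autoImplicit false
set_option linter.style.haveILetI false

/-! CD3 (A4c): Taketa's argument for three degrees. -/

namespace Cfsg.Agent.Helper55.CD3W

open Cfsg Cfsg.Agent.Helper79 Cfsg.Agent.Helper55.CD3

universe u

variable {G : Type u} [Group G] [Fintype G]

theorem taketa3 (m n : ℕ) (hm : 1 < m) (hmn : m < n) (hcd : CD3 G m n)
    (hM : ∀ χ : IrrCharacter G, Monomial (χ : G → ℂ)) : derivedSeries G 3 = ⊥ := by
  classical
  have hone : ∀ a : IrrCharacter G, (a : G → ℂ) 1 = ((charDegree (a : G → ℂ) : ℕ) : ℂ) :=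
    fun a => (irr_one_eq a).1
  have hpos : ∀ a : IrrCharacter G, 0 < charDegree (a : G → ℂ) := fun a => (irr_one_eq a).2
  have hdeg_of : ∀ (a : IrrCharacter G) (k : ℕ), (a : G → ℂ) 1 = (k : ℂ) →
      charDegree (a : G → ℂ) = k := by
    intro a k hk
    have := hone a
    rw [hk] at this
    exact_mod_cast this.symm
  -- the step
  have step : ∀ k d : ℕ,
      (∀ a : IrrCharacter G, charDegree (a : G → ℂ) ≤ d →
        ∀ g ∈ derivedSeries G k, (a : G → ℂ) g = (a : G → ℂ) 1) →
      ∀ a : IrrCharacter G, charDegree (a : G → ℂ) = d + 1 →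
        ∀ g ∈ derivedSeries G (k + 1), (a : G → ℂ) g = (a : G → ℂ) 1 := by
    intro k d hk a hda g hg
    obtain ⟨H, lam, hχ⟩ := hM a
    refine Cfsg.Agent.Helper76.Taketa2.taketa_step k d ?_ a ?_ H lam hχ g hg
    · intro b j hb hj
      exact hk b (by rw [hdeg_of b j hb]; exact hj)
    · rw [hone a, hda]
  have mono1 : derivedSeries G 2 ≤ derivedSeries G 1 := derivedSeries_antitone G (by norm_num)
  have mono2 : derivedSeries G 3 ≤ derivedSeries G 2 := derivedSeries_antitone G (by norm_num)
  -- degree 1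
  have h1 : ∀ a : IrrCharacter G, charDegree (a : G → ℂ) = 1 →
      ∀ g ∈ derivedSeries G 1, (a : G → ℂ) g = (a : G → ℂ) 1 := by
    intro a ha g hg
    refine step 0 0 ?_ a (by rw [ha]) g hg
    intro b hb
    exact absurd (hpos b) (by omega)
  -- degree m
  have h2 : ∀ a : IrrCharacter G, charDegree (a : G → ℂ) = m →
      ∀ g ∈ derivedSeries G 2, (a : G → ℂ) g = (a : G → ℂ) 1 := by
    intro a ha g hg
    refine step 1 (m - 1) ?_ a (by rw [ha]; omega) g hg
    intro b hb g' hg'
    have hb1 : charDegree (b : G → ℂ) = 1 := by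
      rcases hcd b with h | h | h
      · exact h
      · omega
      · omega
    exact h1 b hb1 g' hg'
  -- degree n
  have h3 : ∀ a : IrrCharacter G, charDegree (a : G → ℂ) = n →
      ∀ g ∈ derivedSeries G 3, (a : G → ℂ) g = (a : G → ℂ) 1 := by
    intro a ha g hg
    refine step 2 (n - 1) ?_ a (by rw [ha]; omega) g hg
    intro b hb g' hg'
    rcases hcd b with h | h | h
    · exact h1 b h g' (mono1 hg')
    · exact h2 b h g' hg'
    · omega
  rw [eq_bot_iff]
  intro g hg
  rw [Subgroup.mem_bot]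
  have hconj : IsConj g 1 := by
    rw [Cfsg.Agent.Helper3.isConj_iff_forall_irr]
    intro χ
    rcases hcd χ with h | h | h
    · exact h1 χ h g (mono1 (mono2 hg))
    · exact h2 χ h g (mono2 hg)
    · exact h3 χ h g hg
  exact isConj_one_left.mp hconj

end Cfsg.Agent.Helper55.CD3W
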