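import Cfsg.Agent.S4458
import Cfsg.Agent.S0040
import Cfsg.Agent.Lib.Helper81.CharCorr
import Cfsg.Agent.Lib.Helper81.CharProd
import Cfsg.Agent.Lib.Helper81.CharCanon
import Cfsg.Agent.Lib.Helper81.CharCoprime
import Cfsg.Agent.Lib.Helper81.CharAbel
import Cfsg.Agent.Lib.Helper3.CharMonomial
import Cfsg.Agent.Lib.Helper3.CharNilpotent
import Cfsg.Agent.Lib.Helper89.DG2Main

set_option autoImplicit false

/-! Definitions for the CD3 lemma server (S4460: three character degrees => derived length <= 3). -/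

namespace Cfsg.Agent.Helper55.CD3

open Cfsg

universe u

/-- all irreducible character degrees of `G` lie in `{1, m, n}` -/
def CD3 (G : Type u) [Group G] (m n : ℕ) : Prop :=
  ∀ χ : IrrCharacter G, charDegree (χ : G → ℂ) = 1 ∨ charDegree (χ : G → ℂ) = m ∨
    charDegree (χ : G → ℂ) = n

/-- `d` is an irreducible character degree of `G` -/
def HasDeg (G : Type u) [Group G] (d : ℕ) : Prop :=
  ∃ χ : IrrCharacter G, charDegree (χ : G → ℂ) = d

/-- `χ` is monomial -/
def Monomial {G : Type u} [Group G] [Fintype G] (χ : G → ℂ) : Prop :=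
  ∃ (H : Subgroup G) (lam : H →* ℂˣ), χ = Cfsg.indFun H (fun h => ((lam h : ℂˣ) : ℂ))

/-- The Frobenius setting of Isaacs 12.3(b) / 12.4: `K ≤ F` normal in `G`, `F/K` an abelian `p`-group
`≠ 1`, `G/F` abelian `≠ 1` of order prime to `p`, acting fixed-point-freely on `F/K`. -/
structure Frob {G : Type u} [Group G] (K F : Subgroup G) [K.Normal] [F.Normal] (p : ℕ) : Prop where
  le : K ≤ F
  prime : p.Prime
  card : ∃ k : ℕ, 0 < k ∧ K.relIndex F = p ^ k
  comm : ∀ x ∈ F, ∀ y ∈ F, x * y * x⁻¹ * y⁻¹ ∈ K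
  ab : commutator G ≤ F
  ne_top : F ≠ ⊤
  fpf : ∀ g : G, g ∉ F → ∀ x ∈ F, g * x * g⁻¹ * x⁻¹ ∈ K → x ∈ K
  ndvd : ¬ p ∣ F.index

/-- minimal counterexample to solvability -/
structure MinCE (G : Type u) [Group G] (m n : ℕ) : Prop where
  hm : 1 < m
  hmn : m < n
  cd : CD3 G m n
  dm : HasDeg G m
  dn : HasDeg G n
  ns : ¬ Group.IsSolvable G
  quot : ∀ L : Subgroup G, ∀ _ : L.Normal, L ≠ ⊥ → Group.IsSolvable (G ⧸ L)
  cop : Nat.Coprime m n

end Cfsg.Agent.Helper55.CD3
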