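import Cfsg.Agent.Lib.Helper55.CD3Defs

set_option autoImplicit false
set_option linter.style.haveILetI false

/-! CD3 easy pieces (backup copies): T2, T2s, T3, T4. -/

namespace Cfsg.Agent.Helper55.CD3W

open Cfsg Cfsg.Agent.Helper79 Cfsg.Agent.Helper55.CD3
open scoped commutatorElement

universe u

variable {G : Type u} [Group G] [Finite G]

theorem cd3_quotient (m n : ℕ) (hcd : CD3 G m n) (N : Subgroup G) [N.Normal] : CD3 (G ⧸ N) m n := by
  intro ψ
  rw [← charDegree_inflate N ψ]
  exact hcd _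

theorem two_deg (x : ℕ)
    (h : ∀ χ : IrrCharacter G, charDegree (χ : G → ℂ) = 1 ∨ charDegree (χ : G → ℂ) = x) :
    derivedSeries G 2 = ⊥ := by
  have hab : ∀ a ∈ commutator G, ∀ b ∈ commutator G, a * b = b * a := by
    by_cases hx : x ≠ 1 ∧ ∃ χ : IrrCharacter G, charDegree (χ : G → ℂ) = x
    · exact Cfsg.Agent.S4458.result x h hx.2 hx.1
    · have hlin : ∀ χ : IrrCharacter G, charDegree (χ : G → ℂ) = 1 := by
        intro χ
        rcases h χ with h1 | h1
        · exact h1
        · by_contra hne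
          exact hx ⟨fun hx1 => hne (h1.trans hx1), χ, h1⟩
      have hc := Cfsg.Agent.Helper76.CD2.comm_of_all_linear hlin
      intro a _ b _
      exact hc a b
  rw [derivedSeries_succ, derivedSeries_one, eq_bot_iff, Subgroup.commutator_le]
  intro a ha b hb
  rw [Subgroup.mem_bot, commutatorElement_eq_one_iff_mul_comm]
  exact hab a ha b hb

theorem two_deg_sub (F : Subgroup G) (x : ℕ)
    (h : ∀ θ : IrrCharacter F, charDegree (θ : F → ℂ) = 1 ∨ charDegree (θ : F → ℂ) = x) :
    ⁅⁅F, F⁆, ⁅F, F⁆⁆ = ⊥ := by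
  have h2 : derivedSeries F 2 = ⊥ := two_deg x h
  have hmap1 : (derivedSeries F 1).map F.subtype = ⁅F, F⁆ := by
    rw [derivedSeries_one, commutator_def, Subgroup.map_commutator, ← MonoidHom.range_eq_map,
      Subgroup.range_subtype]
  have hmap2 : (derivedSeries F 2).map F.subtype = ⁅⁅F, F⁆, ⁅F, F⁆⁆ := by
    rw [derivedSeries_succ, Subgroup.map_commutator, hmap1]
  rw [← hmap2, h2, Subgroup.map_bot]

theorem derived3_of_normal (F : Subgroup G) [F.Normal] (hab : commutator G ≤ F)
    (hF : ⁅⁅F, F⁆, ⁅F, F⁆⁆ = ⊥) : derivedSeries G 3 = ⊥ := by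
  have h1 : derivedSeries G 1 ≤ F := by rw [derivedSeries_one]; exact hab
  have h2 : derivedSeries G 2 ≤ ⁅F, F⁆ := by
    rw [derivedSeries_succ]; exact Subgroup.commutator_mono h1 h1
  rw [derivedSeries_succ, eq_bot_iff, ← hF]
  exact Subgroup.commutator_mono h2 h2

end Cfsg.Agent.Helper55.CD3W
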