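import Cfsg.Agent.Lib.Helper55.CD3Defs
import Cfsg.Agent.Lib.Helper55.CD3Easy
import Cfsg.Agent.Lib.Helper55.CD3L123
import Cfsg.Agent.Lib.Helper55.CD3A1
import Cfsg.Agent.Lib.Helper55.CD3A4a
import Cfsg.Agent.Lib.Helper55.CD3A4c
import Cfsg.Agent.Lib.Helper76.CD3A4b
import Cfsg.Agent.Lib.Helper20.CD3FrobAPI
import Cfsg.Agent.Lib.Helper53.CD3A
import Cfsg.Agent.Lib.Helper57.CD3ACARD

set_option autoImplicit false
set_option linter.style.haveILetI false

/-! Final assembly for S4460 (Isaacs 12.15): exactly three character degrees ⇒ `G''' = 1`.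
The relative theorem of helper1's CD3B server enters as the hypothesis `Hmain`. -/

namespace Cfsg.Agent.Helper55.CD3W

open Cfsg Cfsg.Agent.Helper79 Cfsg.Agent.Helper81 Cfsg.Agent.Helper55.CD3

universe u

/-- the shape of helper1's CD3B theorem -/
def CD3BMain (G : Type u) [Group G] : Prop :=
  ∀ (F : Subgroup G) (_ : F.Normal) (_ : Group.IsSolvable F) (p a d : ℕ) (_ : p.Prime), 0 < a →
    (∀ χ : G → ℂ, IsIrrCharacter G χ → (∃ x ∈ ⁅F, F⁆, χ x ≠ χ 1) → χ 1 = (d : ℂ)) →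
    (∀ θ : F → ℂ, IsIrrCharacter F θ → θ 1 ≠ 1 →
      ∃ d' : ℕ, θ 1 = (d' : ℂ) ∧ d'.factorization p = a) →
    ⁅⁅F, F⁆, ⁅F, F⁆⁆ = ⊥

theorem thmB {G : Type u} [Group G] [Finite G] (Hmain : CD3BMain G) (hs : Group.IsSolvable G)
    (m n : ℕ) (hm : 1 < m) (hmn : m < n) (hcd : CD3 G m n) (hdm : HasDeg G m) :
    derivedSeries G 3 = ⊥ := by
  classical
  haveI := hs
  have hna : ¬ ∀ a b : G, a * b = b * a := by
    intro hab
    obtain ⟨χ, hχ⟩ := hdm
    have := Cfsg.Agent.Helper76.CD2.all_linear_of_comm hab χ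
    omega
  obtain ⟨K, hKn, hK, hmax⟩ := Cfsg.Agent.Helper89.DG2.exists_max_nonab hna
  haveI := hKn
  haveI : Group.IsSolvable (G ⧸ K) := inferInstance
  obtain ⟨p, hp, hcase⟩ := frob_or_pgroup K hK hmax
  rcases hcase with hP | ⟨F, hFn, hF⟩
  · have hnaQ := (Cfsg.Agent.Helper19.DG2.bridge K hK hmax).1
    obtain ⟨hdvd, hpow⟩ := caseA_dvd K p hp hP hnaQ m n hm hmn hcd
    obtain ⟨H, hHn, hHc, k, hk⟩ := Cfsg.Agent.S4456.result p hp hdvd
    haveI := hHn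
    by_cases hHab : ∀ a ∈ H, ∀ b ∈ H, a * b = b * a
    · haveI := Fintype.ofFinite G
      exact taketa3 m n hm hmn hcd
        (fun χ => Cfsg.Agent.Helper76.CD3.mgroup_of_abelian_pcompl p hp H hHc k hk hHab χ)
    · exact caseA_nonab p hp H hHc k hk m n hcd hpow hHab
  · haveI := hFn
    have hFs : Group.IsSolvable F := inferInstance
    obtain ⟨k, hk, hidx⟩ := hF.card
    have hF2 : ⁅⁅F, F⁆, ⁅F, F⁆⁆ = ⊥ :=
      Cfsg.Agent.Helper20.CD3.caseB m n hm hmn hcd K F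
        (Cfsg.Agent.Helper20.CD3.frob_habF hF) (Cfsg.Agent.Helper20.CD3.frob_habG hF)
        (Cfsg.Agent.Helper20.CD3.frob_hfpf hF) p k hF.prime hk hidx hF.ndvd
        (Cfsg.Agent.Helper20.CD3.frob_one_lt_index hF)
        (fun a d ha h1 h2 => Hmain F hFn hFs p a d hF.prime ha h1 h2)
    exact derived3_of_normal F hF.ab hF2

theorem main_of {G : Type u} [Group G] [Finite G] (Hmain : CD3BMain G)
    (hcd : Nat.card {n : ℕ // ∃ χ : IrrCharacter G, charDegree (χ : G → ℂ) = n} = 3) :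
    derivedSeries G 3 = ⊥ := by
  obtain ⟨m, n, hm, hmn, h3, hdm, -⟩ := Cfsg.Agent.Helper57.CD3A.three_degrees hcd
  exact thmB Hmain (Cfsg.Agent.Helper53.CD3A.cd3_solvable hcd) m n hm hmn h3 hdm

end Cfsg.Agent.Helper55.CD3W
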