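import Cfsg.Agent.Lib.Helper55.CD3Defs
import Cfsg.Agent.Lib.Helper20.CD3VanK

set_option autoImplicit false
set_option linter.style.haveILetI false

/-! Interface wrappers for the CD3 assembly (S4460): helper20's general Lemma 12.4 in `Frob` form. -/

namespace Cfsg.Agent.Helper55.CD3W

open Cfsg Cfsg.Agent.Helper79 Cfsg.Agent.Helper81 Cfsg.Agent.Helper55.CD3
open scoped commutatorElement

universe u

variable {G : Type u} [Group G] [Finite G]

theorem lemma12_4 (K F : Subgroup G) [K.Normal] [F.Normal] (p : ℕ) (h : Frob K F p)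
    (θ : IrrCharacter F) :
    (∀ x : F, (x : G) ∉ K → (θ : F → ℂ) x = 0) ∨ HasDeg G (F.index * charDegree (θ : F → ℂ)) := by
  refine Cfsg.Agent.Helper20.CD3.strong124 K F ?_ ?_ ?_ θ
  · intro x hx y hy
    rw [commutatorElement_def]
    exact h.comm x hx y hy
  · intro a b
    apply h.ab
    rw [commutator_def]
    exact Subgroup.commutator_mem_commutator (Subgroup.mem_top a) (Subgroup.mem_top b)
  · intro g hg x hx hgx
    rw [commutatorElement_def] at hgx
    exact h.fpf g hg x hx hgx

theorem vanish_dvd (K F : Subgroup G) [K.Normal] [F.Normal] (p : ℕ) (h : Frob K F p)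
    (θ : IrrCharacter F) (hv : ∀ x : F, (x : G) ∉ K → (θ : F → ℂ) x = 0) :
    p ∣ charDegree (θ : F → ℂ) := by
  obtain ⟨k, hk, hidx⟩ := h.card
  refine Cfsg.Agent.Helper20.CD3.p_dvd_degree_of_vanish_off K F ?_ p k h.prime hk hidx θ hv
  intro x hx y hy
  rw [commutatorElement_def]
  exact h.comm x hx y hy

end Cfsg.Agent.Helper55.CD3W
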