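import Mathlib
import Cfsg.Agent.Lib.Helper9.CoprimeIndex
import Cfsg.Agent.Lib.Helper79.GroupAux

set_option autoImplicit false

/-! Products of conjugacy classes of coprime sizes (Bertram–Herzog–Mann style lemmas). -/

namespace Cfsg.Agent.Helper55.ClassProd

open Subgroup

variable {G : Type*} [Group G]

/-- conjugacy class as a set -/
def cl (g : G) : Set G := {x | ∃ c : G, c * g * c⁻¹ = x}

theorem mem_cl {g x : G} : x ∈ cl g ↔ ∃ c : G, c * g * c⁻¹ = x := Iff.rfl

theorem self_mem_cl (g : G) : g ∈ cl g := ⟨1, by simp⟩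

theorem conj_mem_cl (g c : G) : c * g * c⁻¹ ∈ cl g := ⟨c, rfl⟩

theorem cl_conj_mem {g x : G} (hx : x ∈ cl g) (c : G) : c * x * c⁻¹ ∈ cl g := by
  obtain ⟨d, rfl⟩ := hx
  exact ⟨c * d, by group⟩

theorem cl_conj (g c : G) : cl (c * g * c⁻¹) = cl g := by
  ext x
  constructor
  · rintro ⟨d, rfl⟩
    exact ⟨d * c, by group⟩
  · rintro ⟨d, rfl⟩
    exact ⟨d * c⁻¹, by group⟩

/-- The size of a conjugacy class is the index of the centralizer. -/
theorem ncard_cl (g : G) : (cl g).ncard = (Subgroup.centralizer ({g} : Set G)).index := by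
  have h0 : (Subgroup.centralizer ({g} : Set G)).index =
      (MulAction.stabilizer (ConjAct G) g).index := by
    rw [Subgroup.centralizer_eq_comap_stabilizer]
    exact Subgroup.index_comap_of_surjective (MulAction.stabilizer (ConjAct G) g)
      (f := (ConjAct.toConjAct (G := G)).toMonoidHom) (ConjAct.toConjAct (G := G)).surjective
  rw [h0, MulAction.index_stabilizer]
  congr 1

theorem index_centralizer_conj (g c : G) :
    (Subgroup.centralizer ({c * g * c⁻¹} : Set G)).index =
      (Subgroup.centralizer ({g} : Set G)).index := by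
  rw [← ncard_cl, ← ncard_cl, cl_conj]

theorem mem_centralizer_singleton {g x : G} :
    x ∈ Subgroup.centralizer ({g} : Set G) ↔ g * x = x * g := by
  rw [Subgroup.mem_centralizer_iff]
  constructor
  · intro h; exact h g rfl
  · intro h y hy; rw [Set.mem_singleton_iff] at hy; rw [hy]; exact h

theorem index_centralizer_eq_one_iff [Finite G] (g : G) :
    (Subgroup.centralizer ({g} : Set G)).index = 1 ↔ g ∈ Subgroup.center G := by
  rw [Subgroup.index_eq_one]
  constructor
  · intro h
    rw [Subgroup.mem_center_iff]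
    intro x
    have : x ∈ Subgroup.centralizer ({g} : Set G) := by rw [h]; trivial
    exact (mem_centralizer_singleton.mp this).symm
  · intro h
    rw [eq_top_iff]
    intro x _
    rw [mem_centralizer_singleton]
    exact ((Subgroup.mem_center_iff.mp h) x).symm

theorem index_centralizer_ne_zero [Finite G] (g : G) :
    (Subgroup.centralizer ({g} : Set G)).index ≠ 0 := Subgroup.index_ne_zero_of_finite

/-- product of conjugates of elements with coprime class sizes is a conjugate of the product -/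
theorem conj_mul_conj_mem [Finite G] (a b : G)
    (hcop : (Subgroup.centralizer ({a} : Set G)).index.Coprime
      (Subgroup.centralizer ({b} : Set G)).index) {x y : G} (hx : x ∈ cl a) (hy : y ∈ cl b) :
    x * y ∈ cl (a * b) := by
  obtain ⟨g, rfl⟩ := hx
  obtain ⟨h, rfl⟩ := hy
  obtain ⟨β, hβ, α, hα, hx⟩ := Cfsg.Agent.Helper9.exists_mul_of_coprime_index
    (Subgroup.centralizer ({a} : Set G)) (Subgroup.centralizer ({b} : Set G)) hcop (h⁻¹ * g)
  rw [mem_centralizer_singleton] at hβ hα
  refine ⟨h * β, ?_⟩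
  have hg : g = h * β * α := by rw [mul_assoc, ← hx]; group
  have e1 : g * a * g⁻¹ = h * β * a * β⁻¹ * h⁻¹ := by
    rw [hg]
    have : α * a * α⁻¹ = a := by rw [← hα]; group
    calc h * β * α * a * (h * β * α)⁻¹ = h * β * (α * a * α⁻¹) * β⁻¹ * h⁻¹ := by group
      _ = _ := by rw [this]
  have e2 : h * b * h⁻¹ = h * β * b * β⁻¹ * h⁻¹ := by
    have : β * b * β⁻¹ = b := by rw [← hβ]; group
    calc h * b * h⁻¹ = h * (β * b * β⁻¹) * h⁻¹ := by rw [this]
      _ = _ := by group
  rw [e1, e2]
  group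


theorem index_le_index_mul_right [Finite G] (a b : G)
    (hcop : (Subgroup.centralizer ({a} : Set G)).index.Coprime
      (Subgroup.centralizer ({b} : Set G)).index) :
    (Subgroup.centralizer ({b} : Set G)).index ≤ (Subgroup.centralizer ({a * b} : Set G)).index := by
  rw [← ncard_cl, ← ncard_cl]
  apply Set.ncard_le_ncard_of_injOn (fun y => a * y)
  · intro y hy
    exact conj_mul_conj_mem a b hcop (self_mem_cl a) hy
  · intro y _ y' _ h
    exact mul_left_cancel h

theorem index_le_index_mul_left [Finite G] (a b : G)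
    (hcop : (Subgroup.centralizer ({a} : Set G)).index.Coprime
      (Subgroup.centralizer ({b} : Set G)).index) :
    (Subgroup.centralizer ({a} : Set G)).index ≤ (Subgroup.centralizer ({a * b} : Set G)).index := by
  rw [← ncard_cl, ← ncard_cl]
  apply Set.ncard_le_ncard_of_injOn (fun y => y * b)
  · intro y hy
    exact conj_mul_conj_mem a b hcop hy (self_mem_cl b)
  · intro y _ y' _ h
    exact mul_right_cancel h

theorem index_mul_dvd [Finite G] (a b : G)
    (hcop : (Subgroup.centralizer ({a} : Set G)).index.Coprime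
      (Subgroup.centralizer ({b} : Set G)).index) :
    (Subgroup.centralizer ({a * b} : Set G)).index ∣
      (Subgroup.centralizer ({a} : Set G)).index * (Subgroup.centralizer ({b} : Set G)).index := by
  rw [← Cfsg.Agent.Helper9.index_inf_of_coprime _ _ hcop]
  apply Subgroup.index_dvd_of_le
  intro x hx
  rw [Subgroup.mem_inf, mem_centralizer_singleton, mem_centralizer_singleton] at hx
  rw [mem_centralizer_singleton, mul_assoc, hx.2, ← mul_assoc, hx.1, mul_assoc]

/-- A finite set stable under left multiplication by a subgroup has cardinality divisible by the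
order of the subgroup. -/
theorem card_dvd_ncard_of_mul_mem [Finite G] (H : Subgroup G) :
    ∀ (n : ℕ) (X : Set G), X.ncard = n → (∀ h ∈ H, ∀ x ∈ X, h * x ∈ X) → Nat.card H ∣ n := by
  intro n
  induction n using Nat.strong_induction_on with
  | _ n ih =>
    intro X hn hX
    by_cases hne : X = ∅
    · subst hne
      simp at hn
      subst hn
      exact dvd_zero _
    · obtain ⟨x, hx⟩ := Set.nonempty_iff_ne_empty.mpr hne
      set O : Set G := (fun h : G => h * x) '' (H : Set G) with hO
      have hOX : O ⊆ X := by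
        rintro _ ⟨h, hh, rfl⟩
        exact hX h hh x hx
      have hOcard : O.ncard = Nat.card H := by
        rw [hO, Set.ncard_image_of_injective _ (mul_left_injective x)]
        rfl
      have hX' : ∀ h ∈ H, ∀ y ∈ X \ O, h * y ∈ X \ O := by
        rintro h hh y ⟨hy, hyO⟩
        refine ⟨hX h hh y hy, ?_⟩
        rintro ⟨k, hk, hky⟩
        apply hyO
        refine ⟨h⁻¹ * k, H.mul_mem (H.inv_mem hh) hk, ?_⟩
        simp only at hky ⊢
        rw [mul_assoc, hky]
        group
      have hsplit : (X \ O).ncard + O.ncard = X.ncard :=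
        Set.ncard_sdiff_add_ncard_of_subset hOX (Set.toFinite _)
      have hlt : (X \ O).ncard < n := by
        have : 0 < Nat.card H := Nat.card_pos
        omega
      have := ih _ hlt (X \ O) rfl hX'
      rw [← hn, ← hsplit, hOcard]
      exact dvd_add this dvd_rfl

/-- generators of `[a, G]` -/
def Wgen (a : G) : Set G := {w | ∃ x ∈ cl a, ∃ y ∈ cl a, w = x⁻¹ * y}

/-- The normal subgroup generated by all `x⁻¹ y`, `x, y` conjugates of `a` (this is `[a, G]`). -/
def Wsub (a : G) : Subgroup G := Subgroup.normalClosure (Wgen a)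

instance Wsub_normal (a : G) : (Wsub a).Normal := Subgroup.normalClosure_normal

theorem Wsub_eq_closure (a : G) : Wsub a = Subgroup.closure (Wgen a) := by
  unfold Wsub Subgroup.normalClosure
  apply le_antisymm
  · apply Subgroup.closure_mono
    intro w hw
    rw [Group.mem_conjugatesOfSet_iff] at hw
    obtain ⟨v, ⟨x, hx, y, hy, rfl⟩, hvw⟩ := hw
    rw [isConj_iff] at hvw
    obtain ⟨c, rfl⟩ := hvw
    refine ⟨c * x * c⁻¹, cl_conj_mem hx c, c * y * c⁻¹, cl_conj_mem hy c, by group⟩
  · apply Subgroup.closure_mono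
    exact Group.subset_conjugatesOfSet

theorem inv_mul_conj_mem_Wsub (a g : G) : a⁻¹ * (g * a * g⁻¹) ∈ Wsub a := by
  rw [Wsub_eq_closure]
  exact Subgroup.subset_closure ⟨a, self_mem_cl a, g * a * g⁻¹, conj_mem_cl a g, rfl⟩

theorem Wsub_le_of_mem {a : G} (N : Subgroup G) [N.Normal] (ha : a ∈ N) : Wsub a ≤ N := by
  rw [Wsub_eq_closure, Subgroup.closure_le]
  rintro w ⟨x, ⟨c, rfl⟩, y, ⟨d, rfl⟩, rfl⟩
  have h1 : c * a * c⁻¹ ∈ N := ‹N.Normal›.conj_mem a ha c
  have h2 : d * a * d⁻¹ ∈ N := ‹N.Normal›.conj_mem a ha d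
  exact N.mul_mem (N.inv_mem h1) h2

open Pointwise in
/-- If `|a^G|`, `|b^G|` are coprime and `|(ab)^G| = |b^G|`, then `b^G` is stable under left
multiplication by `[a, G]`. -/
theorem Wsub_mul_mem [Finite G] (a b : G)
    (hcop : (Subgroup.centralizer ({a} : Set G)).index.Coprime
      (Subgroup.centralizer ({b} : Set G)).index)
    (heq : (Subgroup.centralizer ({a * b} : Set G)).index =
      (Subgroup.centralizer ({b} : Set G)).index) :
    ∀ w ∈ Wsub a, ∀ y ∈ cl b, w * y ∈ cl b := by
  have key : ∀ x ∈ cl a, x • cl b = cl (a * b) := by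
    intro x hx
    apply Set.eq_of_subset_of_ncard_le
    · rintro _ ⟨y, hy, rfl⟩
      exact conj_mul_conj_mem a b hcop hx hy
    · rw [ncard_cl, heq, ← ncard_cl b, ← Set.image_smul,
        Set.ncard_image_of_injective _ (MulAction.injective x)]
    · exact Set.toFinite _
  have hle : Wsub a ≤ MulAction.stabilizer G (cl b) := by
    rw [Wsub_eq_closure, Subgroup.closure_le]
    rintro w ⟨x, hx, y, hy, rfl⟩
    rw [SetLike.mem_coe, MulAction.mem_stabilizer_iff, mul_smul, key y hy, ← key x hx,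
      inv_smul_smul]
  intro w hw y hy
  have h1 := hle hw
  rw [MulAction.mem_stabilizer_iff] at h1
  have h2 : w • y ∈ w • cl b := Set.smul_mem_smul_set hy
  rw [h1] at h2
  exact h2

theorem card_Wsub_dvd [Finite G] (a b : G)
    (hcop : (Subgroup.centralizer ({a} : Set G)).index.Coprime
      (Subgroup.centralizer ({b} : Set G)).index)
    (heq : (Subgroup.centralizer ({a * b} : Set G)).index =
      (Subgroup.centralizer ({b} : Set G)).index) :
    Nat.card (Wsub a) ∣ (Subgroup.centralizer ({b} : Set G)).index :=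
  card_dvd_ncard_of_mul_mem (Wsub a) _ (cl b) (ncard_cl b) (Wsub_mul_mem a b hcop heq)

/-- If `z` is central and `a z` is conjugate to `a`, then the order of `z` divides `|a^G|`. -/
theorem orderOf_dvd_index_of_central [Finite G] (a z : G) (hz : z ∈ Subgroup.center G)
    (g : G) (hg : g * a * g⁻¹ = a * z) :
    orderOf z ∣ (Subgroup.centralizer ({a} : Set G)).index := by
  rw [← Nat.card_zpowers]
  apply card_dvd_ncard_of_mul_mem (Subgroup.zpowers z) _ (cl a) (ncard_cl a)
  intro h hh y hy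
  rw [Subgroup.mem_zpowers_iff] at hh
  obtain ⟨k, rfl⟩ := hh
  have hzk : z ^ k ∈ Subgroup.center G := Subgroup.zpow_mem _ hz k
  have hstep : ∀ y ∈ cl a, z * y ∈ cl a := by
    rintro _ ⟨c, rfl⟩
    refine ⟨c * g, ?_⟩
    have h1 : c * g * a * (c * g)⁻¹ = c * (g * a * g⁻¹) * c⁻¹ := by group
    rw [h1, hg]
    have h2 : z * (c * a * c⁻¹) = (c * a * c⁻¹) * z := (Subgroup.mem_center_iff.mp hz _).symm
    rw [h2]
    have h3 : c * (a * z) * c⁻¹ = c * a * (z * c⁻¹) := by group
    rw [h3, ← Subgroup.mem_center_iff.mp hz c⁻¹]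
    group
  -- the set of `w` with `w * cl a ⊆ cl a` contains `z`, hence `z ^ k` (finite order)
  have hpow : ∀ n : ℕ, ∀ y ∈ cl a, z ^ n * y ∈ cl a := by
    intro n
    induction n with
    | zero => intro y hy; simpa using hy
    | succ n ih =>
      intro y hy
      rw [pow_succ, mul_assoc]
      exact ih _ (hstep y hy)
  obtain ⟨n, hn⟩ : ∃ n : ℕ, z ^ k = z ^ n := by
    have hfin : IsOfFinOrder z := isOfFinOrder_of_finite z
    obtain ⟨n, hn⟩ := (hfin.mem_powers_iff_mem_zpowers).mpr ⟨k, rfl⟩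
    exact ⟨n, hn.symm⟩
  rw [hn]
  exact hpow n y hy


/-- a normal subgroup of order coprime to the index of `X` lies in `X` -/
theorem le_of_normal_coprime_index [Finite G] (X N : Subgroup G) [N.Normal]
    (hcop : (Nat.card N).Coprime X.index) : N ≤ X := by
  have h1 : X.relIndex N ∣ X.index := Cfsg.Agent.Helper79.relIndex_dvd_index_of_normal_right X N
  have h2 : X.relIndex N ∣ Nat.card N := Subgroup.index_dvd_card _
  have h3 : X.relIndex N = 1 := Nat.eq_one_of_dvd_coprimes hcop h2 h1
  exact Subgroup.relIndex_eq_one.mp h3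

theorem closure_normal_of_conj_mem (s : Set G) (h : ∀ x ∈ s, ∀ c : G, c * x * c⁻¹ ∈ s) :
    (Subgroup.closure s).Normal := by
  constructor
  intro n hn g
  induction hn using Subgroup.closure_induction with
  | mem x hx => exact Subgroup.subset_closure (h x hx g)
  | one => simp
  | mul x y _ _ hx hy =>
    have : g * (x * y) * g⁻¹ = (g * x * g⁻¹) * (g * y * g⁻¹) := by group
    rw [this]
    exact mul_mem hx hy
  | inv x _ hx =>
    have : g * x⁻¹ * g⁻¹ = (g * x * g⁻¹)⁻¹ := by group
    rw [this]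
    exact inv_mem hx

/-- If `k⁻¹ k^g` is central, `|[k,G]|` divides `M` and `|k^G|` is coprime to `M`, then `g`
centralizes `k`. -/
theorem conj_eq_of_central [Finite G] (k g : G) (M : ℕ) (hM : Nat.card (Wsub k) ∣ M)
    (hcop : (Subgroup.centralizer ({k} : Set G)).index.Coprime M)
    (hz : k⁻¹ * (g * k * g⁻¹) ∈ Subgroup.center G) : g * k * g⁻¹ = k := by
  set z := k⁻¹ * (g * k * g⁻¹) with hzdef
  have h1 : g * k * g⁻¹ = k * z := by rw [hzdef]; group
  have h2 : orderOf z ∣ (Subgroup.centralizer ({k} : Set G)).index :=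
    orderOf_dvd_index_of_central k z hz g h1
  have h3 : orderOf z ∣ M :=
    (Subgroup.orderOf_dvd_natCard _ (inv_mul_conj_mem_Wsub k g)).trans hM
  have h4 : orderOf z = 1 := Nat.eq_one_of_dvd_coprimes hcop h2 h3
  rw [h1, orderOf_eq_one_iff.mp h4, mul_one]


/-- If `t` has no nontrivial fixed point in the finite normal subgroup `N`, then every element of
`N` is a commutator `n₀⁻¹ t n₀ t⁻¹`. -/
theorem exists_commutator_eq {L : Type*} [Group L] [Finite L] (N : Subgroup L) [hN : N.Normal]
    (t : L) (hfpf : ∀ n ∈ N, n * t = t * n → n = 1) (n : L) (hn : n ∈ N) :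
    ∃ n₀ ∈ N, n = n₀⁻¹ * t * n₀ * t⁻¹ := by
  let f : N → N := fun n₀ => ⟨(n₀ : L)⁻¹ * t * n₀ * t⁻¹, by
    have : (n₀ : L)⁻¹ * t * n₀ * t⁻¹ = (n₀ : L)⁻¹ * (t * n₀ * t⁻¹) := by group
    rw [this]
    exact N.mul_mem (N.inv_mem n₀.2) (hN.conj_mem _ n₀.2 t)⟩
  have hinj : Function.Injective f := by
    intro n₁ n₂ h
    have h' : (n₁ : L)⁻¹ * t * n₁ * t⁻¹ = (n₂ : L)⁻¹ * t * n₂ * t⁻¹ := congrArg Subtype.val h
    have h2 : (n₁ : L)⁻¹ * t * n₁ = (n₂ : L)⁻¹ * t * n₂ := mul_right_cancel h'
    have h1 : ((n₁ : L) * (n₂ : L)⁻¹) * t = t * ((n₁ : L) * (n₂ : L)⁻¹) := by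
      calc ((n₁ : L) * (n₂ : L)⁻¹) * t = n₁ * ((n₂ : L)⁻¹ * t * n₂) * (n₂ : L)⁻¹ := by group
        _ = n₁ * ((n₁ : L)⁻¹ * t * n₁) * (n₂ : L)⁻¹ := by rw [h2]
        _ = t * ((n₁ : L) * (n₂ : L)⁻¹) := by group
    have h3 := hfpf _ (N.mul_mem n₁.2 (N.inv_mem n₂.2)) h1
    apply Subtype.ext
    exact mul_inv_eq_one.mp h3
  have hsurj := Finite.surjective_of_injective hinj
  obtain ⟨n₀, hn₀⟩ := hsurj ⟨n, hn⟩
  exact ⟨n₀, n₀.2, (congrArg Subtype.val hn₀).symm⟩

/-- If every element of the finite normal subgroup `N` is a commutator `n' h n'⁻¹ h⁻¹`, then `h`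
has no nontrivial fixed point in `N`. -/
theorem fpf_of_forall_exists {L : Type*} [Group L] [Finite L] (N : Subgroup L) [hN : N.Normal]
    (h : L) (hsurj : ∀ n ∈ N, ∃ n' ∈ N, n = n' * h * n'⁻¹ * h⁻¹) :
    ∀ n ∈ N, n * h = h * n → n = 1 := by
  let f : N → N := fun n' => ⟨(n' : L) * h * (n' : L)⁻¹ * h⁻¹, by
    have : (n' : L) * h * (n' : L)⁻¹ * h⁻¹ = (n' : L) * (h * (n' : L)⁻¹ * h⁻¹) := by group
    rw [this]
    exact N.mul_mem n'.2 (hN.conj_mem _ (N.inv_mem n'.2) h)⟩
  have hs : Function.Surjective f := by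
    rintro ⟨n, hn⟩
    obtain ⟨n', hn', e⟩ := hsurj n hn
    exact ⟨⟨n', hn'⟩, Subtype.ext e.symm⟩
  have hinj := Finite.injective_iff_surjective.mpr hs
  intro n hn hcomm
  have h1 : f ⟨n, hn⟩ = f 1 := by
    apply Subtype.ext
    show n * h * n⁻¹ * h⁻¹ = ((1 : N) : L) * h * ((1 : N) : L)⁻¹ * h⁻¹
    rw [hcomm]
    simp
  have h2 := hinj h1
  exact congrArg Subtype.val h2

end Cfsg.Agent.Helper55.ClassProd
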