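import Mathlib
import Cfsg.Prelude.Def_Solvable
import Cfsg.Agent.Lib.Helper55.ClassProd
import Cfsg.Agent.S4127
import Cfsg.Agent.S4108

set_option autoImplicit false

/-! Disconnected class-size prime graph: `G/Z(G)` is Frobenius with abelian kernel and complement
(Bertram–Herzog–Mann / Kazarin). -/

namespace Cfsg.Agent.Helper55.ClassGraph

open Subgroup Cfsg.Agent.Helper55.ClassProd

variable {G : Type*} [Group G]

local notation "cs" g:max => Subgroup.index (Subgroup.centralizer (singleton g))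

/-- noncentral with class size an `S`-number -/
def T1 (S : Set ℕ) (g : G) : Prop := cs g ≠ 1 ∧ ∀ r : ℕ, r.Prime → r ∣ cs g → r ∈ S

/-- noncentral with class size an `S'`-number -/
def T2 (S : Set ℕ) (g : G) : Prop := cs g ≠ 1 ∧ ∀ r : ℕ, r.Prime → r ∣ cs g → r ∉ S

/-- the dichotomy hypothesis -/
def Dich (G : Type*) [Group G] (S : Set ℕ) : Prop :=
  ∀ g : G, (∀ r : ℕ, r.Prime → r ∣ cs g → r ∈ S) ∨ (∀ r : ℕ, r.Prime → r ∣ cs g → r ∉ S)

section basic

variable {S : Set ℕ}

theorem not_T1_T2 {g : G} (h1 : T1 S g) (h2 : T2 S g) : False := by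
  obtain ⟨r, hr, hdvd⟩ := Nat.exists_prime_and_dvd h1.1
  exact h2.2 r hr hdvd (h1.2 r hr hdvd)

theorem coprime_of_T1_T2 {a b : G} (ha : T1 S a) (hb : T2 S b) : (cs a).Coprime (cs b) := by
  apply Nat.coprime_of_dvd
  intro r hr h1 h2
  exact hb.2 r hr h2 (ha.2 r hr h1)

theorem T1_not_center [Finite G] {a : G} (ha : T1 S a) : a ∉ Subgroup.center G := by
  intro h
  exact ha.1 ((index_centralizer_eq_one_iff a).mpr h)

theorem T2_not_center [Finite G] {a : G} (ha : T2 S a) : a ∉ Subgroup.center G := by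
  intro h
  exact ha.1 ((index_centralizer_eq_one_iff a).mpr h)

theorem T1_or_T2 [Finite G] (hd : Dich G S) {g : G} (hg : g ∉ Subgroup.center G) :
    T1 S g ∨ T2 S g := by
  have h1 : cs g ≠ 1 := fun h => hg ((index_centralizer_eq_one_iff g).mp h)
  rcases hd g with h | h
  · exact Or.inl ⟨h1, h⟩
  · exact Or.inr ⟨h1, h⟩

theorem T1_conj {a : G} (ha : T1 S a) (c : G) : T1 S (c * a * c⁻¹) := by
  unfold T1
  rw [index_centralizer_conj]
  exact ha

theorem T2_conj {a : G} (ha : T2 S a) (c : G) : T2 S (c * a * c⁻¹) := by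
  unfold T2
  rw [index_centralizer_conj]
  exact ha

theorem index_mul_comm (a b : G) : cs (a * b) = cs (b * a) := by
  have : b * a = a⁻¹ * (a * b) * a⁻¹⁻¹ := by group
  rw [this, index_centralizer_conj]

theorem centralizer_mul_center {a z : G} (hz : z ∈ Subgroup.center G) :
    Subgroup.centralizer ({a * z} : Set G) = Subgroup.centralizer ({a} : Set G) := by
  ext x
  rw [mem_centralizer_singleton, mem_centralizer_singleton]
  have h1 := Subgroup.mem_center_iff.mp hz x
  constructor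
  · intro h
    have : a * x * z = x * a * z := by
      rw [mul_assoc a x z, h1, ← mul_assoc, h, mul_assoc]
    exact mul_right_cancel this
  · intro h
    rw [mul_assoc, ← h1, ← mul_assoc, h, mul_assoc]

theorem centralizer_inv (a : G) :
    Subgroup.centralizer ({a⁻¹} : Set G) = Subgroup.centralizer ({a} : Set G) := by
  ext x
  rw [mem_centralizer_singleton, mem_centralizer_singleton]
  constructor
  · intro h
    have : a * (a⁻¹ * x) * a = a * (x * a⁻¹) * a := by rw [h]
    simpa [mul_assoc] using this.symm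
  · intro h
    have : a⁻¹ * (a * x) * a⁻¹ = a⁻¹ * (x * a) * a⁻¹ := by rw [h]
    simpa [mul_assoc] using this.symm

/-- class size of a product of a `T1` and a `T2` element -/
theorem index_mul_T1_T2 [Finite G] (hd : Dich G S) {a b : G} (ha : T1 S a) (hb : T2 S b) :
    (cs (a * b) = cs a ∧ cs b < cs a ∧ T1 S (a * b)) ∨
      (cs (a * b) = cs b ∧ cs a < cs b ∧ T2 S (a * b)) := by
  have hcop := coprime_of_T1_T2 ha hb
  have hle1 := index_le_index_mul_left a b hcop
  have hle2 := index_le_index_mul_right a b hcop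
  have hdvd := index_mul_dvd a b hcop
  have ha0 : cs a ≠ 0 := index_centralizer_ne_zero a
  have hb0 : cs b ≠ 0 := index_centralizer_ne_zero b
  have hn1 : cs (a * b) ≠ 1 := by
    intro h
    have : cs a ≤ 1 := h ▸ hle1
    have h1 := ha.1
    omega
  have hne : cs a ≠ cs b := by
    intro h
    rw [h] at hcop
    exact hb.1 ((Nat.coprime_self _).mp hcop)
  rcases hd (a * b) with h | h
  · left
    have hc : (cs (a * b)).Coprime (cs b) := by
      apply Nat.coprime_of_dvd
      intro r hr h1 h2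
      exact hb.2 r hr h2 (h r hr h1)
    have h3 : cs (a * b) ∣ cs a := hc.dvd_of_dvd_mul_right hdvd
    have h4 : cs (a * b) ≤ cs a := Nat.le_of_dvd (Nat.pos_of_ne_zero ha0) h3
    have h5 : cs (a * b) = cs a := le_antisymm h4 hle1
    refine ⟨h5, ?_, hn1, h⟩
    rw [h5] at hle2
    omega
  · right
    have hc : (cs (a * b)).Coprime (cs a) := by
      apply Nat.coprime_of_dvd
      intro r hr h1 h2
      exact h r hr h1 (ha.2 r hr h2)
    have h3 : cs (a * b) ∣ cs b := hc.dvd_of_dvd_mul_left hdvd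
    have h4 : cs (a * b) ≤ cs b := Nat.le_of_dvd (Nat.pos_of_ne_zero hb0) h3
    have h5 : cs (a * b) = cs b := le_antisymm h4 hle2
    refine ⟨h5, ?_, hn1, h⟩
    rw [h5] at hle1
    omega

/-- Bezout: commuting with two coprime powers implies commuting with the element -/
theorem commute_of_pow {y a : G} {i j : ℕ} (hcop : i.Coprime j) (hi : Commute y (a ^ i))
    (hj : Commute y (a ^ j)) : Commute y a := by
  have hb := Nat.gcd_eq_gcd_ab i j
  rw [hcop.gcd_eq_one] at hb
  have h1 : a = (a ^ i) ^ (Nat.gcdA i j) * (a ^ j) ^ (Nat.gcdB i j) := by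
    rw [← zpow_natCast a i, ← zpow_natCast a j, ← zpow_mul, ← zpow_mul, ← zpow_add, ← hb]
    simp
  rw [h1]
  exact (hi.zpow_right _).mul_right (hj.zpow_right _)

theorem mem_center_of_pow {a : G} {i j : ℕ} (hcop : i.Coprime j)
    (hi : a ^ i ∈ Subgroup.center G) (hj : a ^ j ∈ Subgroup.center G) :
    a ∈ Subgroup.center G := by
  rw [Subgroup.mem_center_iff]
  intro y
  have h1 : Commute y (a ^ i) := Subgroup.mem_center_iff.mp hi y
  have h2 : Commute y (a ^ j) := Subgroup.mem_center_iff.mp hj y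
  exact commute_of_pow hcop h1 h2

theorem eq_one_of_pow {a : G} {i j : ℕ} (hcop : i.Coprime j) (hi : a ^ i = 1) (hj : a ^ j = 1) :
    a = 1 := by
  have h1 : orderOf a ∣ i := orderOf_dvd_of_pow_eq_one hi
  have h2 : orderOf a ∣ j := orderOf_dvd_of_pow_eq_one hj
  have h3 : orderOf a = 1 := Nat.eq_one_of_dvd_coprimes hcop h1 h2
  exact orderOf_eq_one_iff.mp h3

end basic


section core

variable [Finite G] {S : Set ℕ} {b₀ : G}

theorem card_Wsub_dvd_max (hmax : ∀ g : G, cs g ≤ cs b₀) (hb₀ : T2 S b₀) {a : G} (ha : T1 S a) :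
    Nat.card (Wsub a) ∣ cs b₀ := by
  have hcop := coprime_of_T1_T2 ha hb₀
  apply card_Wsub_dvd a b₀ hcop
  exact le_antisymm (hmax _) (index_le_index_mul_right a b₀ hcop)

theorem Wsub_le_centralizer (hmax : ∀ g : G, cs g ≤ cs b₀) (hb₀ : T2 S b₀) {a a' : G}
    (ha : T1 S a) (ha' : T1 S a') : Wsub a ≤ Subgroup.centralizer ({a'} : Set G) := by
  apply le_of_normal_coprime_index
  exact Nat.Coprime.coprime_dvd_left (card_Wsub_dvd_max hmax hb₀ ha)
    (coprime_of_T1_T2 ha' hb₀).symm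

theorem pow_mem_center (hmax : ∀ g : G, cs g ≤ cs b₀) (hb₀ : T2 S b₀) {a : G} (ha : T1 S a) :
    a ^ (cs b₀) ∈ Subgroup.center G := by
  rw [Subgroup.mem_center_iff]
  intro g
  set w := a⁻¹ * (g * a * g⁻¹) with hw
  have hwW : w ∈ Wsub a := inv_mul_conj_mem_Wsub a g
  have hwa : Commute a w := by
    have := Wsub_le_centralizer hmax hb₀ ha ha hwW
    rw [mem_centralizer_singleton] at this
    exact this
  have hwm : w ^ (cs b₀) = 1 := by
    have h1 : orderOf w ∣ Nat.card (Wsub a) := Subgroup.orderOf_dvd_natCard _ hwW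
    exact orderOf_dvd_iff_pow_eq_one.mp (h1.trans (card_Wsub_dvd_max hmax hb₀ ha))
  have h1 : g * a * g⁻¹ = a * w := by rw [hw]; group
  have h2 : g * a ^ (cs b₀) * g⁻¹ = a ^ (cs b₀) := by
    rw [← conj_pow, h1, hwa.mul_pow, hwm, mul_one]
  calc g * a ^ (cs b₀) = (g * a ^ (cs b₀) * g⁻¹) * g := by group
    _ = a ^ cs b₀ * g := by rw [h2]

/-- the subgroup generated by the `T1` elements -/
def K1 (G : Type*) [Group G] (S : Set ℕ) : Subgroup G := Subgroup.closure {t : G | T1 S t}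

instance K1_normal : (K1 G S).Normal :=
  closure_normal_of_conj_mem _ (fun _ hx c => T1_conj hx c)

omit [Finite G] in
theorem Wsub_le_K1 {a : G} (ha : T1 S a) : Wsub a ≤ K1 G S :=
  Wsub_le_of_mem (K1 G S) (Subgroup.subset_closure ha)

theorem Wsub_le_centralizer_K1 (hmax : ∀ g : G, cs g ≤ cs b₀) (hb₀ : T2 S b₀) {a : G}
    (ha : T1 S a) : Wsub a ≤ Subgroup.centralizer (K1 G S : Set G) := by
  unfold K1
  rw [Subgroup.centralizer_closure]
  intro w hw
  rw [Subgroup.mem_centralizer_iff]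
  intro t ht
  have := Wsub_le_centralizer hmax hb₀ ha ht hw
  rw [mem_centralizer_singleton] at this
  exact this

theorem T1_commute (hmax : ∀ g : G, cs g ≤ cs b₀) (hb₀ : T2 S b₀) {a a' : G}
    (ha : T1 S a) (ha' : T1 S a') : a * a' = a' * a := by
  have haK : a ∈ K1 G S := Subgroup.subset_closure ha
  have ha'K : a' ∈ K1 G S := Subgroup.subset_closure ha'
  set c := a⁻¹ * (a' * a * a'⁻¹) with hc
  have hcc : c ∈ Subgroup.center G := by
    rw [Subgroup.mem_center_iff]
    intro g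
    set u := a⁻¹ * (g * a * g⁻¹) with hu
    set u' := a'⁻¹ * (g * a' * g⁻¹) with hu'
    have huW : u ∈ Wsub a := inv_mul_conj_mem_Wsub a g
    have hu'W : u' ∈ Wsub a' := inv_mul_conj_mem_Wsub a' g
    have hucent := Wsub_le_centralizer_K1 hmax hb₀ ha huW
    have hu'cent := Wsub_le_centralizer_K1 hmax hb₀ ha' hu'W
    rw [Subgroup.mem_centralizer_iff] at hucent hu'cent
    have hua : Commute u a := (hucent a haK).symm
    have hua' : Commute u a' := (hucent a' ha'K).symm
    have huu' : Commute u u' := (hucent u' (Wsub_le_K1 ha' hu'W)).symm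
    have hu'a : Commute u' a := (hu'cent a haK).symm
    have h1 : g * a * g⁻¹ = a * u := by rw [hu]; group
    have h1' : g * a' * g⁻¹ = a' * u' := by rw [hu']; group
    have e0 : g * c * g⁻¹ = (g * a * g⁻¹)⁻¹ * ((g * a' * g⁻¹) * (g * a * g⁻¹) * (g * a' * g⁻¹)⁻¹) := by
      rw [hc]; group
    have e1 : (a' * u') * (a * u) * (a' * u')⁻¹ = a' * (u' * (a * u) * u'⁻¹) * a'⁻¹ := by group
    have e2 : u' * (a * u) * u'⁻¹ = a * u := by
      rw [(hu'a.mul_right huu'.symm).eq]; group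
    have e3 : a' * (a * u) * a'⁻¹ = (a' * a * a'⁻¹) * (a' * u * a'⁻¹) := by group
    have e4 : a' * u * a'⁻¹ = u := by
      rw [← hua'.eq]; group
    have hy : Commute u (a⁻¹ * (a' * a * a'⁻¹)) :=
      hua.inv_right.mul_right ((hua'.mul_right hua).mul_right hua'.inv_right)
    have e5 : (a * u)⁻¹ * ((a' * a * a'⁻¹) * u) = u⁻¹ * ((a⁻¹ * (a' * a * a'⁻¹)) * u) := by group
    have e6 : g * c * g⁻¹ = c := by
      rw [e0, h1, h1', e1, e2, e3, e4, e5, ← hy.eq, hc]
      group
    calc g * c = (g * c * g⁻¹) * g := by group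
      _ = c * g := by rw [e6]
  have h2 : a' * a * a'⁻¹ = a :=
    conj_eq_of_central a a' (cs b₀) (card_Wsub_dvd_max hmax hb₀ ha) (coprime_of_T1_T2 ha hb₀) hcc
  calc a * a' = (a' * a * a'⁻¹) * a' := by rw [h2]
    _ = a' * a := by group


/-- `K`: generated by the `T1` elements and the center -/
def KK (G : Type*) [Group G] (S : Set ℕ) : Subgroup G :=
  Subgroup.closure ({t : G | T1 S t} ∪ (Subgroup.center G : Set G))

instance KK_normal : (KK G S).Normal := by
  apply closure_normal_of_conj_mem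
  rintro x (hx | hx) c
  · exact Or.inl (T1_conj hx c)
  · exact Or.inr ((inferInstance : (Subgroup.center G).Normal).conj_mem x hx c)

omit [Finite G] in
theorem T1_mem_KK {a : G} (ha : T1 S a) : a ∈ KK G S := Subgroup.subset_closure (Or.inl ha)

omit [Finite G] in
theorem center_le_KK : Subgroup.center G ≤ KK G S := fun _ hz => Subgroup.subset_closure (Or.inr hz)

theorem KK_comm (hmax : ∀ g : G, cs g ≤ cs b₀) (hb₀ : T2 S b₀) {x y : G} (hx : x ∈ KK G S)
    (hy : y ∈ KK G S) : x * y = y * x := by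
  have hcomm : ∀ s ∈ ({t : G | T1 S t} ∪ (Subgroup.center G : Set G)),
      ∀ t ∈ ({t : G | T1 S t} ∪ (Subgroup.center G : Set G)), s * t = t * s := by
    rintro s (hs | hs) t (ht | ht)
    · exact T1_commute hmax hb₀ hs ht
    · exact Subgroup.mem_center_iff.mp ht s
    · exact (Subgroup.mem_center_iff.mp hs t).symm
    · exact Subgroup.mem_center_iff.mp ht s
  have hK : IsMulCommutative (KK G S) := Subgroup.isMulCommutative_closure hcomm
  have h := mul_comm' (⟨x, hx⟩ : KK G S) ⟨y, hy⟩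
  exact congrArg Subtype.val h

theorem KK_pow_mem_center (hmax : ∀ g : G, cs g ≤ cs b₀) (hb₀ : T2 S b₀) {k : G}
    (hk : k ∈ KK G S) : k ^ (cs b₀) ∈ Subgroup.center G := by
  unfold KK at hk
  induction hk using Subgroup.closure_induction with
  | mem x hx =>
    rcases hx with hx | hx
    · exact pow_mem_center hmax hb₀ hx
    · exact Subgroup.pow_mem _ hx _
  | one => simp
  | mul x y hx hy ihx ihy =>
    have hc : Commute x y := KK_comm hmax hb₀ hx hy
    rw [hc.mul_pow]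
    exact Subgroup.mul_mem _ ihx ihy
  | inv x hx ihx =>
    rw [inv_pow]
    exact Subgroup.inv_mem _ ihx

omit [Finite G] in
theorem T1_inv {a : G} (ha : T1 S a) : T1 S a⁻¹ := by
  unfold T1
  rw [centralizer_inv]
  exact ha

omit [Finite G] in
theorem index_center_mul {y z : G} (hz : z ∈ Subgroup.center G) : cs (z * y) = cs y := by
  have h1 : z * y = y * z := (Subgroup.mem_center_iff.mp hz y).symm
  rw [h1, centralizer_mul_center hz]

/-- the `T2` elements with class size larger than all `T1` class sizes -/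
def Bset (G : Type*) [Group G] (S : Set ℕ) : Set G :=
  {y : G | T2 S y ∧ ∀ a : G, T1 S a → cs a < cs y}

theorem T1_mul_mem_Bset (hd : Dich G S) {a y : G} (ha : T1 S a) (hy : y ∈ Bset G S) :
    a * y ∈ Bset G S := by
  rcases index_mul_T1_T2 hd ha hy.1 with h | h
  · have := hy.2 a ha
    omega
  · refine ⟨h.2.2, ?_⟩
    intro a' ha'
    rw [h.1]
    exact hy.2 a' ha'

omit [Finite G] in
theorem center_mul_mem_Bset {z y : G} (hz : z ∈ Subgroup.center G) (hy : y ∈ Bset G S) :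
    z * y ∈ Bset G S := by
  unfold Bset T2 at *
  simp only [Set.mem_ofPred_eq] at hy ⊢
  rw [index_center_mul hz]
  exact hy

theorem KK_mul_mem_Bset (hd : Dich G S) {k : G} (hk : k ∈ KK G S) :
    (∀ y ∈ Bset G S, k * y ∈ Bset G S) ∧ (∀ y ∈ Bset G S, k⁻¹ * y ∈ Bset G S) := by
  unfold KK at hk
  induction hk using Subgroup.closure_induction with
  | mem x hx =>
    rcases hx with hx | hx
    · exact ⟨fun y hy => T1_mul_mem_Bset hd hx hy, fun y hy => T1_mul_mem_Bset hd (T1_inv hx) hy⟩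
    · exact ⟨fun y hy => center_mul_mem_Bset hx hy,
        fun y hy => center_mul_mem_Bset (Subgroup.inv_mem _ hx) hy⟩
  | one => simp
  | mul x y _ _ ihx ihy =>
    refine ⟨fun t ht => ?_, fun t ht => ?_⟩
    · rw [mul_assoc]
      exact ihx.1 _ (ihy.1 t ht)
    · rw [mul_inv_rev, mul_assoc]
      exact ihy.2 _ (ihx.2 t ht)
  | inv x _ ihx =>
    refine ⟨ihx.2, ?_⟩
    rw [inv_inv]
    exact ihx.1

/-- Step F: `K` contains no `T2` elements -/
theorem KK_not_T2 (hd : Dich G S) (hmax : ∀ g : G, cs g ≤ cs b₀) (hb₀ : T2 S b₀) {b : G}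
    (hb : b ∈ KK G S) (hT2 : T2 S b) : False := by
  by_cases h : ∃ a : G, T1 S a ∧ cs b < cs a
  · obtain ⟨a, ha, hlt⟩ := h
    have hcop : (cs b).Coprime (cs a) := (coprime_of_T1_T2 ha hT2).symm
    have heq : cs (b * a) = cs a := by
      rw [index_mul_comm]
      rcases index_mul_T1_T2 hd ha hT2 with h | h
      · exact h.1
      · omega
    have hdvd : Nat.card (Wsub b) ∣ cs a := card_Wsub_dvd b a hcop heq
    have hWK : Wsub b ≤ KK G S := Wsub_le_of_mem (KK G S) hb
    have hcent : b ∈ Subgroup.center G := by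
      rw [Subgroup.mem_center_iff]
      intro g
      have hw : b⁻¹ * (g * b * g⁻¹) ∈ Wsub b := inv_mul_conj_mem_Wsub b g
      have hz : b⁻¹ * (g * b * g⁻¹) ∈ Subgroup.center G := by
        apply mem_center_of_pow (coprime_of_T1_T2 ha hb₀)
        · have h1 : orderOf (b⁻¹ * (g * b * g⁻¹)) ∣ cs a :=
            (Subgroup.orderOf_dvd_natCard _ hw).trans hdvd
          rw [orderOf_dvd_iff_pow_eq_one.mp h1]
          exact Subgroup.one_mem _
        · exact KK_pow_mem_center hmax hb₀ (hWK hw)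
      have h2 := conj_eq_of_central b g (cs a) hdvd hcop hz
      calc g * b = (g * b * g⁻¹) * g := by group
        _ = b * g := by rw [h2]
    exact T2_not_center hT2 hcent
  · push Not at h
    have hbB : b ∈ Bset G S := by
      refine ⟨hT2, fun a ha => ?_⟩
      have h1 := h a ha
      have h2 : cs a ≠ cs b := by
        intro h3
        have hc := coprime_of_T1_T2 ha hT2
        rw [h3] at hc
        exact hT2.1 ((Nat.coprime_self _).mp hc)
      omega
    have h1 := (KK_mul_mem_Bset hd hb).2 b hbB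
    rw [inv_mul_cancel] at h1
    exact T2_not_center h1.1 (Subgroup.one_mem _)

theorem T1_of_mem_KK (hd : Dich G S) (hmax : ∀ g : G, cs g ≤ cs b₀) (hb₀ : T2 S b₀) {k : G}
    (hk : k ∈ KK G S) (hkc : k ∉ Subgroup.center G) : T1 S k := by
  rcases T1_or_T2 hd hkc with h | h
  · exact h
  · exact (KK_not_T2 hd hmax hb₀ hk h).elim

theorem T2_of_not_mem_KK (hd : Dich G S) {g : G} (hg : g ∉ KK G S) : T2 S g := by
  have hgc : g ∉ Subgroup.center G := fun h => hg (center_le_KK h)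
  rcases T1_or_T2 hd hgc with h | h
  · exact (hg (T1_mem_KK h)).elim
  · exact h


section stepG

variable {a₀ : G} {p : ℕ} [hpF : Fact p.Prime]

omit [Finite G] in
theorem mem_S_of_dvd (ha₀ : T1 S a₀) (hp : p ∣ cs a₀) : p ∈ S := ha₀.2 p hpF.out hp

omit [Finite G] hpF in
theorem coprime_p_max (hb₀ : T2 S b₀) (ha₀ : T1 S a₀) (hp : p ∣ cs a₀) : p.Coprime (cs b₀) :=
  Nat.Coprime.coprime_dvd_left hp (coprime_of_T1_T2 ha₀ hb₀)

theorem exists_conj_mem_centralizer_sylow (hd : Dich G S) (ha₀ : T1 S a₀) (hp : p ∣ cs a₀)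
    (P : Sylow p G) {g : G} (hg : g ∉ KK G S) :
    ∃ c : G, c⁻¹ * g * c ∈ Subgroup.centralizer ((P : Subgroup G) : Set G) := by
  have hT2 := T2_of_not_mem_KK hd hg
  have hnd : ¬ p ∣ cs g := fun h => hT2.2 p hpF.out h (mem_S_of_dvd ha₀ hp)
  obtain ⟨T, hT, -⟩ := Cfsg.Agent.S4127.exists_sylow_mem_le_centralizer p g 1 hnd
    (Subgroup.one_mem _) ⟨0, by simp⟩
  obtain ⟨c, hc⟩ := MulAction.exists_smul_eq G P T
  refine ⟨c, ?_⟩
  rw [Subgroup.mem_centralizer_iff]
  intro x hx
  have hx' : c * x * c⁻¹ ∈ (T : Subgroup G) := by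
    rw [← hc, Sylow.coe_subgroup_smul]
    have := Subgroup.smul_mem_pointwise_smul x (MulAut.conj c) (P : Subgroup G) hx
    rwa [MulAut.smul_def, MulAut.conj_apply] at this
  have h1 := hT hx'
  rw [mem_centralizer_singleton] at h1
  calc x * (c⁻¹ * g * c) = c⁻¹ * ((c * x * c⁻¹) * g) * c := by group
    _ = c⁻¹ * (g * (c * x * c⁻¹)) * c := by rw [h1]
    _ = c⁻¹ * g * c * x := by group

theorem centralizer_sylow_sup_KK (hd : Dich G S) (ha₀ : T1 S a₀) (hp : p ∣ cs a₀)
    (P : Sylow p G) : KK G S ⊔ Subgroup.centralizer ((P : Subgroup G) : Set G) = ⊤ := by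
  apply Cfsg.Agent.S4127.eq_top_of_conj_cover
  intro g
  by_cases hg : g ∈ KK G S
  · exact ⟨1, by simpa using (le_sup_left : KK G S ≤ _) hg⟩
  · obtain ⟨c, hc⟩ := exists_conj_mem_centralizer_sylow hd ha₀ hp P hg
    exact ⟨c, (le_sup_right : _ ≤ KK G S ⊔ _) hc⟩

theorem exists_mem_sylow_not_center (hp : p ∣ cs a₀) (P : Sylow p G) :
    ∃ x ∈ (P : Subgroup G), x ∉ Subgroup.center G := by
  by_contra hcon
  push Not at hcon
  have hle : (P : Subgroup G) ≤ Subgroup.centralizer ({a₀} : Set G) := by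
    intro x hx
    rw [mem_centralizer_singleton]
    exact (Subgroup.mem_center_iff.mp (hcon x hx) a₀)
  have h1 : cs a₀ ∣ (P : Subgroup G).index := Subgroup.index_dvd_of_le hle
  exact P.not_dvd_index (hp.trans h1)

theorem sylow_elt_not_mem_KK (hmax : ∀ g : G, cs g ≤ cs b₀) (hb₀ : T2 S b₀) (ha₀ : T1 S a₀)
    (hp : p ∣ cs a₀) (P : Sylow p G) {x : G} (hxP : x ∈ (P : Subgroup G))
    (hxc : x ∉ Subgroup.center G) : x ∉ KK G S := by
  intro hxK
  obtain ⟨k, hk⟩ := (IsPGroup.iff_orderOf.mp P.2) ⟨x, hxP⟩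
  apply hxc
  apply mem_center_of_pow ((coprime_p_max hb₀ ha₀ hp).pow_left k)
  · have h1 : x ^ (p ^ k) = 1 := by
      have : orderOf x = p ^ k := by rw [← hk]; exact (Subgroup.orderOf_mk x hxP).symm
      rw [← this]
      exact pow_orderOf_eq_one x
    rw [h1]
    exact Subgroup.one_mem _
  · exact KK_pow_mem_center hmax hb₀ hxK

theorem mem_center_of_commute_sylow_elt (hd : Dich G S) (hmax : ∀ g : G, cs g ≤ cs b₀)
    (hb₀ : T2 S b₀) (ha₀ : T1 S a₀) (hp : p ∣ cs a₀) (P : Sylow p G) {x : G}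
    (hxP : x ∈ (P : Subgroup G)) (hxc : x ∉ Subgroup.center G) {a : G} (haK : a ∈ KK G S)
    (hax : a * x = x * a) : a ∈ Subgroup.center G := by
  by_contra hac
  have hT1 : T1 S a := T1_of_mem_KK hd hmax hb₀ haK hac
  have hT2 : T2 S x := T2_of_not_mem_KK hd (sylow_elt_not_mem_KK hmax hb₀ ha₀ hp P hxP hxc)
  obtain ⟨k, hk⟩ := (IsPGroup.iff_orderOf.mp P.2) ⟨x, hxP⟩
  have hxk : x ^ (p ^ k) = 1 := by
    have : orderOf x = p ^ k := by rw [← hk]; exact (Subgroup.orderOf_mk x hxP).symm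
    rw [← this]
    exact pow_orderOf_eq_one x
  have hcomm : Commute a x := hax
  have hle : Subgroup.centralizer ({a * x} : Set G) ≤
      Subgroup.centralizer ({a} : Set G) ⊓ Subgroup.centralizer ({x} : Set G) := by
    intro y hy
    rw [mem_centralizer_singleton] at hy
    have hy' : Commute y (a * x) := hy.symm
    have h1 : Commute y (a ^ (p ^ k)) := by
      have := hy'.pow_right (p ^ k)
      rwa [hcomm.mul_pow, hxk, mul_one] at this
    have h2 : Commute y (a ^ (cs b₀)) :=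
      Subgroup.mem_center_iff.mp (KK_pow_mem_center hmax hb₀ haK) y
    have h3 : Commute y a :=
      commute_of_pow ((coprime_p_max hb₀ ha₀ hp).pow_left k) h1 h2
    have h4 : Commute y x := by
      have : x = a⁻¹ * (a * x) := by group
      rw [this]
      exact h3.inv_right.mul_right hy'
    rw [Subgroup.mem_inf, mem_centralizer_singleton, mem_centralizer_singleton]
    exact ⟨h3.symm.eq, h4.symm.eq⟩
  have hd1 : cs a ∣ cs (a * x) := Subgroup.index_dvd_of_le (hle.trans inf_le_left)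
  have hd2 : cs x ∣ cs (a * x) := Subgroup.index_dvd_of_le (hle.trans inf_le_right)
  obtain ⟨r, hr, hra⟩ := Nat.exists_prime_and_dvd hT1.1
  obtain ⟨r', hr', hrx⟩ := Nat.exists_prime_and_dvd hT2.1
  rcases hd (a * x) with h | h
  · exact hT2.2 r' hr' hrx (h r' hr' (hrx.trans hd2))
  · exact h r hr (hra.trans hd1) (hT1.2 r hr hra)

theorem KK_inf_centralizer_sylow_le (hd : Dich G S) (hmax : ∀ g : G, cs g ≤ cs b₀)
    (hb₀ : T2 S b₀) (ha₀ : T1 S a₀) (hp : p ∣ cs a₀) (P : Sylow p G) :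
    KK G S ⊓ Subgroup.centralizer ((P : Subgroup G) : Set G) ≤ Subgroup.center G := by
  obtain ⟨x, hxP, hxc⟩ := exists_mem_sylow_not_center (a₀ := a₀) hp P
  intro a ha
  rw [Subgroup.mem_inf] at ha
  obtain ⟨haK, haC⟩ := ha
  rw [Subgroup.mem_centralizer_iff] at haC
  exact mem_center_of_commute_sylow_elt hd hmax hb₀ ha₀ hp P hxP hxc haK (haC x hxP).symm


theorem stepH (hd : Dich G S) (hmax : ∀ g : G, cs g ≤ cs b₀)
    (hb₀ : T2 S b₀) (ha₀ : T1 S a₀) (hp : p ∣ cs a₀) (P : Sylow p G) {x : G} {c : G}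
    (hcH : c ∈ Subgroup.centralizer ((P : Subgroup G) : Set G)) (hcc : c ∉ Subgroup.center G)
    {k₀ : G} (hk₀ : k₀ ∈ KK G S) :
    ∃ k' ∈ KK G S, ∃ z ∈ Subgroup.center G, k₀⁻¹ * x * k₀ * x⁻¹ = z * (k' * c * k'⁻¹ * c⁻¹) := by
  by_cases hk₀c : k₀ ∈ Subgroup.center G
  · refine ⟨1, Subgroup.one_mem _, 1, Subgroup.one_mem _, ?_⟩
    have h1 := Subgroup.mem_center_iff.mp hk₀c x
    have h2 : k₀⁻¹ * x * k₀ * x⁻¹ = k₀⁻¹ * (x * k₀) * x⁻¹ := by group
    rw [h2, h1]
    group
  · have hT1 := T1_of_mem_KK hd hmax hb₀ hk₀ hk₀c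
    have hcK : c ∉ KK G S := fun h =>
      hcc (KK_inf_centralizer_sylow_le hd hmax hb₀ ha₀ hp P (Subgroup.mem_inf.mpr ⟨h, hcH⟩))
    have hT2c := T2_of_not_mem_KK hd hcK
    have hkcK : k₀ * c ∉ KK G S := by
      intro h
      apply hcK
      have := (KK G S).mul_mem ((KK G S).inv_mem hk₀) h
      simpa using this
    have hT2kc := T2_of_not_mem_KK hd hkcK
    have heq : cs (k₀ * c) = cs c := by
      rcases index_mul_T1_T2 hd hT1 hT2c with h | h
      · exact (not_T1_T2 h.2.2 hT2kc).elim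
      · exact h.1
    set w := k₀⁻¹ * x * k₀ * x⁻¹ with hw
    have hwW : w ∈ Wsub k₀ := by
      have : w = k₀⁻¹ * (x * k₀ * x⁻¹) := by rw [hw]; group
      rw [this]
      exact inv_mul_conj_mem_Wsub k₀ x
    obtain ⟨g, hg⟩ := Wsub_mul_mem k₀ c (coprime_of_T1_T2 hT1 hT2c) heq w hwW c (self_mem_cl c)
    have hgtop : g ∈ ((KK G S ⊔ Subgroup.centralizer ((P : Subgroup G) : Set G) : Subgroup G) :
        Set G) := by
      rw [centralizer_sylow_sup_KK hd ha₀ hp P]
      trivial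
    rw [Subgroup.normal_mul] at hgtop
    obtain ⟨k', hk', c', hc', rfl⟩ := hgtop
    set c₂ := c' * c * c'⁻¹ with hc₂
    have hc₂H : c₂ ∈ Subgroup.centralizer ((P : Subgroup G) : Set G) :=
      Subgroup.mul_mem _ (Subgroup.mul_mem _ hc' hcH) (Subgroup.inv_mem _ hc')
    have hg' : k' * c₂ * k'⁻¹ = w * c := by rw [← hg, hc₂]; group
    set z := c₂ * c⁻¹ with hz
    have hzK : z ∈ KK G S := by
      have h1 : c₂ = k'⁻¹ * (w * c) * k' := by rw [← hg']; group
      have h2 : z = (k'⁻¹ * w) * (c * k' * c⁻¹) := by rw [hz, h1]; group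
      rw [h2]
      exact (KK G S).mul_mem ((KK G S).mul_mem ((KK G S).inv_mem hk')
        (Wsub_le_of_mem (KK G S) hk₀ hwW)) (KK_normal.conj_mem k' hk' c)
    have hzH : z ∈ Subgroup.centralizer ((P : Subgroup G) : Set G) :=
      Subgroup.mul_mem _ hc₂H (Subgroup.inv_mem _ hcH)
    have hzc : z ∈ Subgroup.center G :=
      KK_inf_centralizer_sylow_le hd hmax hb₀ ha₀ hp P (Subgroup.mem_inf.mpr ⟨hzK, hzH⟩)
    refine ⟨k', hk', z, hzc, ?_⟩
    have hc₂' : c₂ = z * c := by rw [hz]; group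
    have h5 : w = k' * c₂ * k'⁻¹ * c⁻¹ := by rw [hg']; group
    rw [h5, hc₂']
    have hzcomm := Subgroup.mem_center_iff.mp hzc k'
    calc k' * (z * c) * k'⁻¹ * c⁻¹ = (k' * z) * c * k'⁻¹ * c⁻¹ := by group
      _ = (z * k') * c * k'⁻¹ * c⁻¹ := by rw [hzcomm]
      _ = z * (k' * c * k'⁻¹ * c⁻¹) := by group

end stepG

/-- The asymmetric core: if the largest class size is a `T2` number and some `T1` element exists,
`G/Z(G)` is a Frobenius group with abelian kernel and complement. -/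
theorem core (hd : Dich G S) (hmax : ∀ g : G, cs g ≤ cs b₀) (hb₀ : T2 S b₀) {a₀ : G}
    (ha₀ : T1 S a₀) :
    ∃ H : Subgroup (G ⧸ Subgroup.center G), Cfsg.IsFrobeniusComplement H ∧ IsMulCommutative H ∧
      ∀ x ∈ Cfsg.frobeniusKernel H, ∀ y ∈ Cfsg.frobeniusKernel H, x * y = y * x := by
  obtain ⟨p, hpp, hp⟩ := Nat.exists_prime_and_dvd ha₀.1
  haveI : Fact p.Prime := ⟨hpp⟩
  obtain ⟨P⟩ : Nonempty (Sylow p G) := inferInstance
  obtain ⟨x, hxP, hxc⟩ := exists_mem_sylow_not_center (a₀ := a₀) hp P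
  set K := KK G S with hK
  set Hc := Subgroup.centralizer ((P : Subgroup G) : Set G) with hHc
  set π := QuotientGroup.mk' (Subgroup.center G) with hπ
  have hπs : Function.Surjective π := QuotientGroup.mk'_surjective _
  set N' := K.map π with hN'
  set H' := Hc.map π with hH'
  haveI hKn : K.Normal := KK_normal
  haveI hN'n : N'.Normal := Subgroup.Normal.map hKn π hπs
  have hsup := centralizer_sylow_sup_KK hd ha₀ hp P
  have hinf := KK_inf_centralizer_sylow_le hd hmax hb₀ ha₀ hp P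
  have hker : ∀ g : G, π g = 1 ↔ g ∈ Subgroup.center G := fun g => QuotientGroup.eq_one_iff g
  have hdecG : ∀ g : G, ∃ k ∈ K, ∃ c ∈ Hc, g = k * c := by
    intro g
    have hg : g ∈ ((K ⊔ Hc : Subgroup G) : Set G) := by rw [hsup]; trivial
    rw [Subgroup.normal_mul] at hg
    obtain ⟨k, hk, c, hc, rfl⟩ := hg
    exact ⟨k, hk, c, hc, rfl⟩
  have hdec : ∀ y : G ⧸ Subgroup.center G, ∃ n ∈ N', ∃ h ∈ H', y = n * h := by
    intro y
    obtain ⟨g, rfl⟩ := hπs y
    obtain ⟨k, hk, c, hc, rfl⟩ := hdecG g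
    exact ⟨π k, Subgroup.mem_map_of_mem _ hk, π c, Subgroup.mem_map_of_mem _ hc, map_mul _ _ _⟩
  have hint : ∀ y : G ⧸ Subgroup.center G, y ∈ N' → y ∈ H' → y = 1 := by
    rintro y ⟨k, hk, rfl⟩ ⟨c, hc, hkc⟩
    have h1 : c⁻¹ * k ∈ Subgroup.center G := by
      rw [← hker, map_mul, map_inv, hkc]
      simp
    have h2 : c ∈ K := by
      have : c = k * (c⁻¹ * k)⁻¹ := by group
      rw [this]
      exact K.mul_mem hk (K.inv_mem (center_le_KK h1))
    rw [← hkc]
    exact (hker c).mpr (hinf (Subgroup.mem_inf.mpr ⟨h2, hc⟩))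
  have hfpfx : ∀ n ∈ N', n * π x = π x * n → n = 1 := by
    rintro n ⟨k, hk, rfl⟩ hcomm
    rw [hker]
    by_contra hkc
    have hT1 := T1_of_mem_KK hd hmax hb₀ hk hkc
    have h1 : (k * x)⁻¹ * (x * k) ∈ Subgroup.center G := by
      rw [← hker, map_mul, map_inv, map_mul, map_mul, hcomm]
      simp
    have h2 : k⁻¹ * (x⁻¹ * k * x⁻¹⁻¹) ∈ Subgroup.center G := by
      have : k⁻¹ * (x⁻¹ * k * x⁻¹⁻¹) = ((k * x)⁻¹ * (x * k))⁻¹ := by group
      rw [this]
      exact Subgroup.inv_mem _ h1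
    have h3 := conj_eq_of_central k x⁻¹ (cs b₀) (card_Wsub_dvd_max hmax hb₀ hT1)
      (coprime_of_T1_T2 hT1 hb₀) h2
    have h4 : k * x = x * k := by
      calc k * x = x * (x⁻¹ * k * x⁻¹⁻¹) := by group
        _ = x * k := by rw [h3]
    exact hkc (mem_center_of_commute_sylow_elt hd hmax hb₀ ha₀ hp P hxP hxc hk h4)
  have hfpf : ∀ h ∈ H', h ≠ 1 → ∀ n ∈ N', n * h = h * n → n = 1 := by
    rintro h ⟨c, hc, rfl⟩ hh1
    have hcc : c ∉ Subgroup.center G := fun hc' => hh1 ((hker c).mpr hc')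
    apply fpf_of_forall_exists N' (π c)
    intro n hn
    obtain ⟨n₀, ⟨k₀, hk₀, rfl⟩, hn₀⟩ := exists_commutator_eq N' (π x) hfpfx n hn
    obtain ⟨k', hk', z, hz, he⟩ := stepH (x := x) hd hmax hb₀ ha₀ hp P hc hcc hk₀
    refine ⟨π k', Subgroup.mem_map_of_mem _ hk', ?_⟩
    have h1 : n = π (k₀⁻¹ * x * k₀ * x⁻¹) := by
      rw [hn₀]
      simp only [map_mul, map_inv]
    rw [h1, he, map_mul, (hker z).mpr hz, one_mul]
    simp only [map_mul, map_inv]
  have hN1 : N' ≠ ⊥ := by
    intro h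
    have h1 : π a₀ ∈ N' := Subgroup.mem_map_of_mem _ (T1_mem_KK ha₀)
    rw [h, Subgroup.mem_bot, hker] at h1
    exact T1_not_center ha₀ h1
  have hH1 : H' ≠ ⊥ := by
    intro h
    have hle : Hc ≤ K := by
      intro c hc
      have h1 : π c ∈ H' := Subgroup.mem_map_of_mem _ hc
      rw [h, Subgroup.mem_bot, hker] at h1
      exact center_le_KK h1
    have h2 : K = ⊤ := by rw [← hsup]; exact (sup_eq_left.mpr hle).symm
    apply sylow_elt_not_mem_KK hmax hb₀ ha₀ hp P hxP hxc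
    rw [← hK, h2]
    trivial
  obtain ⟨hfrob, hkernel⟩ := Cfsg.Agent.S4108.frob_aux N' H' hdec hint hfpf hN1 hH1
  have hCa : Subgroup.centralizer ({a₀} : Set G) = K := by
    apply le_antisymm
    · intro g hg
      rw [mem_centralizer_singleton] at hg
      by_contra hgK
      obtain ⟨k, hk, c, hc, rfl⟩ := hdecG g
      have hcK : c ∉ K := fun h => hgK (K.mul_mem hk h)
      have hcc : c ∉ Subgroup.center G := fun h => hcK (center_le_KK h)
      have h2 : a₀ * k = k * a₀ := KK_comm hmax hb₀ (T1_mem_KK ha₀) hk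
      have h1 : a₀ * c = c * a₀ := by
        have h3 : k * (a₀ * c) = k * (c * a₀) := by
          calc k * (a₀ * c) = (k * a₀) * c := by group
            _ = (a₀ * k) * c := by rw [h2]
            _ = a₀ * (k * c) := by group
            _ = k * c * a₀ := hg
            _ = k * (c * a₀) := by group
        exact mul_left_cancel h3
      have h4 : π a₀ = 1 := by
        apply hfpf (π c) (Subgroup.mem_map_of_mem _ hc) (fun h => hcc ((hker c).mp h)) (π a₀)
          (Subgroup.mem_map_of_mem _ (T1_mem_KK ha₀))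
        rw [← map_mul, ← map_mul, h1]
      exact T1_not_center ha₀ ((hker a₀).mp h4)
    · intro k hk
      rw [mem_centralizer_singleton]
      exact KK_comm hmax hb₀ (T1_mem_KK ha₀) hk
  have hGK : ∀ g h : G, g * h * g⁻¹ * h⁻¹ ∈ K := by
    intro g h
    by_cases hg : g ∈ K
    · have : g * h * g⁻¹ * h⁻¹ = g * (h * g⁻¹ * h⁻¹) := by group
      rw [this]
      exact K.mul_mem hg (hKn.conj_mem _ (K.inv_mem hg) h)
    · have hT2 := T2_of_not_mem_KK hd hg
      have htop : Subgroup.centralizer ({g} : Set G) ⊔ K = ⊤ := by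
        rw [← Subgroup.index_eq_one]
        have h1 : (Subgroup.centralizer ({g} : Set G) ⊔ K).index ∣ cs g :=
          Subgroup.index_dvd_of_le le_sup_left
        have h2 : (Subgroup.centralizer ({g} : Set G) ⊔ K).index ∣ cs a₀ := by
          rw [hCa]
          exact Subgroup.index_dvd_of_le le_sup_right
        exact Nat.eq_one_of_dvd_coprimes (coprime_of_T1_T2 ha₀ hT2) h2 h1
      have hh : h ∈ ((Subgroup.centralizer ({g} : Set G) ⊔ K : Subgroup G) : Set G) := by
        rw [htop]; trivial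
      rw [Subgroup.mul_normal] at hh
      obtain ⟨c, hc, k, hk, rfl⟩ := hh
      rw [SetLike.mem_coe, mem_centralizer_singleton] at hc
      have h3 : g * (c * k) * g⁻¹ * (c * k)⁻¹ = c * (g * k * g⁻¹ * k⁻¹) * c⁻¹ := by
        calc g * (c * k) * g⁻¹ * (c * k)⁻¹ = (g * c) * k * g⁻¹ * k⁻¹ * c⁻¹ := by group
          _ = (c * g) * k * g⁻¹ * k⁻¹ * c⁻¹ := by rw [hc]
          _ = _ := by group
      rw [h3]
      apply hKn.conj_mem
      have h4 : g * k * g⁻¹ * k⁻¹ = (g * k * g⁻¹) * k⁻¹ := by group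
      rw [h4]
      exact K.mul_mem (hKn.conj_mem k hk g) (K.inv_mem hk)
  refine ⟨H', hfrob, ?_, ?_⟩
  · refine ⟨⟨?_⟩⟩
    rintro ⟨_, c, hc, rfl⟩ ⟨_, c', hc', rfl⟩
    apply Subtype.ext
    show π c * π c' = π c' * π c
    rw [← map_mul, ← map_mul]
    symm
    show ((c' * c : G) : G ⧸ Subgroup.center G) = ((c * c' : G) : G ⧸ Subgroup.center G)
    rw [QuotientGroup.eq]
    apply hinf
    rw [Subgroup.mem_inf]
    constructor
    · have : (c' * c)⁻¹ * (c * c') = c⁻¹ * c'⁻¹ * c⁻¹⁻¹ * c'⁻¹⁻¹ := by group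
      rw [this]
      exact hGK _ _
    · exact Hc.mul_mem (Hc.inv_mem (Hc.mul_mem hc' hc)) (Hc.mul_mem hc hc')
  · rw [hkernel]
    rintro y ⟨k, hk, rfl⟩ y' ⟨k', hk', rfl⟩
    rw [← map_mul, ← map_mul, KK_comm hmax hb₀ hk hk']

end core

end Cfsg.Agent.Helper55.ClassGraph
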