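import Mathlib
import Cfsg.Agent.Lib.Helper55.ClassGraph

set_option autoImplicit false

/-! An abstract "kernel" construction for a conjugation-invariant family `T` of elements whose
commutator subgroups `[a, G]` have order dividing `M`, with `|a^G|` coprime to `M`. -/

namespace Cfsg.Agent.Helper55.ClassSys

open Subgroup Cfsg.Agent.Helper55.ClassProd Cfsg.Agent.Helper55.ClassGraph

variable {G : Type*} [Group G]

local notation "cs" g:max => Subgroup.index (Subgroup.centralizer (singleton g))

/-- a conjugation-invariant family `T` with `|[a,G]|` dividing `M` and `|a^G|` coprime to `M` -/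
structure Sys (T : G → Prop) (M : ℕ) : Prop where
  conj : ∀ a c : G, T a → T (c * a * c⁻¹)
  card_dvd : ∀ a : G, T a → Nat.card (Wsub a) ∣ M
  cop : ∀ a : G, T a → (cs a).Coprime M

variable [Finite G] {T : G → Prop} {M : ℕ}

theorem Sys.Wsub_le_centralizer (h : Sys T M) {a a' : G} (ha : T a) (ha' : T a') :
    Wsub a ≤ Subgroup.centralizer ({a'} : Set G) := by
  apply le_of_normal_coprime_index
  exact Nat.Coprime.coprime_dvd_left (h.card_dvd a ha) (h.cop a' ha').symm

theorem Sys.pow_mem_center (h : Sys T M) {a : G} (ha : T a) : a ^ M ∈ Subgroup.center G := by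
  rw [Subgroup.mem_center_iff]
  intro g
  set w := a⁻¹ * (g * a * g⁻¹) with hw
  have hwW : w ∈ Wsub a := inv_mul_conj_mem_Wsub a g
  have hwa : Commute a w := by
    have := h.Wsub_le_centralizer ha ha hwW
    rw [mem_centralizer_singleton] at this
    exact this
  have hwm : w ^ M = 1 := by
    have h1 : orderOf w ∣ Nat.card (Wsub a) := Subgroup.orderOf_dvd_natCard _ hwW
    exact orderOf_dvd_iff_pow_eq_one.mp (h1.trans (h.card_dvd a ha))
  have h1 : g * a * g⁻¹ = a * w := by rw [hw]; group
  have h2 : g * a ^ M * g⁻¹ = a ^ M := by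
    rw [← conj_pow, h1, hwa.mul_pow, hwm, mul_one]
  calc g * a ^ M = (g * a ^ M * g⁻¹) * g := by group
    _ = a ^ M * g := by rw [h2]

/-- the subgroup generated by `T` -/
def K1 (T : G → Prop) : Subgroup G := Subgroup.closure {t : G | T t}

omit [Finite G] in
theorem Sys.K1_normal (h : Sys T M) : (K1 T).Normal :=
  closure_normal_of_conj_mem _ (fun x hx c => h.conj x c hx)

omit [Finite G] in
theorem Sys.Wsub_le_K1 (h : Sys T M) {a : G} (ha : T a) : Wsub a ≤ K1 T :=
  haveI := h.K1_normal
  Wsub_le_of_mem (K1 T) (Subgroup.subset_closure ha)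

theorem Sys.Wsub_le_centralizer_K1 (h : Sys T M) {a : G} (ha : T a) :
    Wsub a ≤ Subgroup.centralizer (K1 T : Set G) := by
  unfold K1
  rw [Subgroup.centralizer_closure]
  intro w hw
  rw [Subgroup.mem_centralizer_iff]
  intro t ht
  have := h.Wsub_le_centralizer ha ht hw
  rw [mem_centralizer_singleton] at this
  exact this

theorem Sys.commute (h : Sys T M) {a a' : G} (ha : T a) (ha' : T a') : a * a' = a' * a := by
  have haK : a ∈ K1 T := Subgroup.subset_closure ha
  have ha'K : a' ∈ K1 T := Subgroup.subset_closure ha'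
  set c := a⁻¹ * (a' * a * a'⁻¹) with hc
  have hcc : c ∈ Subgroup.center G := by
    rw [Subgroup.mem_center_iff]
    intro g
    set u := a⁻¹ * (g * a * g⁻¹) with hu
    set u' := a'⁻¹ * (g * a' * g⁻¹) with hu'
    have huW : u ∈ Wsub a := inv_mul_conj_mem_Wsub a g
    have hu'W : u' ∈ Wsub a' := inv_mul_conj_mem_Wsub a' g
    have hucent := h.Wsub_le_centralizer_K1 ha huW
    have hu'cent := h.Wsub_le_centralizer_K1 ha' hu'W
    rw [Subgroup.mem_centralizer_iff] at hucent hu'cent
    have hua : Commute u a := (hucent a haK).symm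
    have hua' : Commute u a' := (hucent a' ha'K).symm
    have huu' : Commute u u' := (hucent u' (h.Wsub_le_K1 ha' hu'W)).symm
    have hu'a : Commute u' a := (hu'cent a haK).symm
    have h1 : g * a * g⁻¹ = a * u := by rw [hu]; group
    have h1' : g * a' * g⁻¹ = a' * u' := by rw [hu']; group
    have e0 : g * c * g⁻¹ =
        (g * a * g⁻¹)⁻¹ * ((g * a' * g⁻¹) * (g * a * g⁻¹) * (g * a' * g⁻¹)⁻¹) := by
      rw [hc]; group
    have e1 : (a' * u') * (a * u) * (a' * u')⁻¹ = a' * (u' * (a * u) * u'⁻¹) * a'⁻¹ := by group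
    have e2 : u' * (a * u) * u'⁻¹ = a * u := by
      rw [(hu'a.mul_right huu'.symm).eq]; group
    have e3 : a' * (a * u) * a'⁻¹ = (a' * a * a'⁻¹) * (a' * u * a'⁻¹) := by group
    have e4 : a' * u * a'⁻¹ = u := by
      rw [← hua'.eq]; group
    have hy : Commute u (a⁻¹ * (a' * a * a'⁻¹)) :=
      hua.inv_right.mul_right ((hua'.mul_right hua).mul_right hua'.inv_right)
    have e5 : (a * u)⁻¹ * ((a' * a * a'⁻¹) * u) = u⁻¹ * ((a⁻¹ * (a' * a * a'⁻¹)) * u) := by group
    have e6 : g * c * g⁻¹ = c := by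
      rw [e0, h1, h1', e1, e2, e3, e4, e5, ← hy.eq, hc]
      group
    calc g * c = (g * c * g⁻¹) * g := by group
      _ = c * g := by rw [e6]
  have h2 : a' * a * a'⁻¹ = a :=
    conj_eq_of_central a a' M (h.card_dvd a ha) (h.cop a ha) hcc
  calc a * a' = (a' * a * a'⁻¹) * a' := by rw [h2]
    _ = a' * a := by group

/-- `K`: generated by `T` and the center -/
def KK (T : G → Prop) : Subgroup G :=
  Subgroup.closure ({t : G | T t} ∪ (Subgroup.center G : Set G))

omit [Finite G] in
theorem Sys.KK_normal (h : Sys T M) : (KK T).Normal := by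
  apply closure_normal_of_conj_mem
  rintro x (hx | hx) c
  · exact Or.inl (h.conj x c hx)
  · exact Or.inr ((inferInstance : (Subgroup.center G).Normal).conj_mem x hx c)

omit [Finite G] in
theorem mem_KK {a : G} (ha : T a) : a ∈ KK T := Subgroup.subset_closure (Or.inl ha)

omit [Finite G] in
theorem center_le_KK : Subgroup.center G ≤ KK T := fun _ hz => Subgroup.subset_closure (Or.inr hz)

theorem Sys.KK_comm (h : Sys T M) {x y : G} (hx : x ∈ KK T) (hy : y ∈ KK T) : x * y = y * x := by
  have hcomm : ∀ s ∈ ({t : G | T t} ∪ (Subgroup.center G : Set G)),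
      ∀ t ∈ ({t : G | T t} ∪ (Subgroup.center G : Set G)), s * t = t * s := by
    rintro s (hs | hs) t (ht | ht)
    · exact h.commute hs ht
    · exact Subgroup.mem_center_iff.mp ht s
    · exact (Subgroup.mem_center_iff.mp hs t).symm
    · exact Subgroup.mem_center_iff.mp ht s
  have hK : IsMulCommutative (KK T) := Subgroup.isMulCommutative_closure hcomm
  have h' := mul_comm' (⟨x, hx⟩ : KK T) ⟨y, hy⟩
  exact congrArg Subtype.val h'

theorem Sys.KK_pow_mem_center (h : Sys T M) {k : G} (hk : k ∈ KK T) :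
    k ^ M ∈ Subgroup.center G := by
  unfold KK at hk
  induction hk using Subgroup.closure_induction with
  | mem x hx =>
    rcases hx with hx | hx
    · exact h.pow_mem_center hx
    · exact Subgroup.pow_mem _ hx _
  | one => simp
  | mul x y hx hy ihx ihy =>
    have hc : Commute x y := h.KK_comm hx hy
    rw [hc.mul_pow]
    exact Subgroup.mul_mem _ ihx ihy
  | inv x hx ihx =>
    rw [inv_pow]
    exact Subgroup.inv_mem _ ihx

omit [Finite G] in
/-- commuting elements, one of finite order `i`-torsion, the other with `j`-th power central,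
`i`, `j` coprime: the centralizer of the product is contained in both centralizers -/
theorem centralizer_mul_le {x y : G} {i j : ℕ} (hcop : i.Coprime j) (hx : x ^ i = 1)
    (hy : y ^ j ∈ Subgroup.center G) (hcomm : Commute x y) :
    Subgroup.centralizer ({x * y} : Set G) ≤
      Subgroup.centralizer ({x} : Set G) ⊓ Subgroup.centralizer ({y} : Set G) := by
  intro z hz
  rw [mem_centralizer_singleton] at hz
  have hz' : Commute z (x * y) := hz.symm
  have h1 : Commute z (y ^ i) := by
    have := hz'.pow_right i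
    rwa [hcomm.mul_pow, hx, one_mul] at this
  have h2 : Commute z (y ^ j) := Subgroup.mem_center_iff.mp hy z
  have h3 : Commute z y := commute_of_pow hcop h1 h2
  have h4 : Commute z x := by
    have : x = (x * y) * y⁻¹ := by group
    rw [this]
    exact hz'.mul_right h3.inv_right
  rw [Subgroup.mem_inf, mem_centralizer_singleton, mem_centralizer_singleton]
  exact ⟨h4.symm.eq, h3.symm.eq⟩


/-- Key lemma for the diameter bound: if `N[p]` and `N[q]` are "far apart" and the largest class
size divisible by `q` exceeds all class sizes divisible by `p`, then every class size divisible by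
a prime of `N[p]` is divisible by `p`. -/
theorem key (p q : ℕ) [hpF : Fact p.Prime] (SP SQ : Set ℕ)
    (hA2p : ∀ g : G, p ∣ cs g → ∀ r : ℕ, r.Prime → r ∣ cs g → r ∈ SP)
    (hA2q : ∀ g : G, q ∣ cs g → ∀ r : ℕ, r.Prime → r ∣ cs g → r ∈ SQ)
    (hA4 : ∀ g : G, ∀ r s : ℕ, r.Prime → s.Prime → r ∈ SP → s ∈ SQ → r ∣ cs g → s ∣ cs g → False)
    (a₀ : G) (ha₀ : p ∣ cs a₀) (b₀ : G) (hb₀ : q ∣ cs b₀)
    (hlt : ∀ a : G, p ∣ cs a → cs a < cs b₀) :
    ∀ g : G, ∀ r : ℕ, r.Prime → r ∈ SP → r ∣ cs g → p ∣ cs g := by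
  have hp : p.Prime := hpF.out
  set M := cs b₀ with hM
  have hcopAB : ∀ a b : G, p ∣ cs a → q ∣ cs b → (cs a).Coprime (cs b) := by
    intro a b ha hb
    apply Nat.coprime_of_dvd
    intro r hr h1 h2
    exact hA4 a r r hr hr (hA2p a ha r hr h1) (hA2q b hb r hr h2) h1 h1
  have hprod : ∀ a : G, p ∣ cs a → cs (a * b₀) = cs b₀ := by
    intro a ha
    have hcop := hcopAB a b₀ ha hb₀
    have hle1 := index_le_index_mul_left a b₀ hcop
    have hle2 := index_le_index_mul_right a b₀ hcop
    have hdvd := index_mul_dvd a b₀ hcop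
    have ha0 : cs a ≠ 0 := index_centralizer_ne_zero a
    have hb0 : cs b₀ ≠ 0 := index_centralizer_ne_zero b₀
    by_cases hs : ∃ s : ℕ, s.Prime ∧ s ∈ SQ ∧ s ∣ cs (a * b₀)
    · obtain ⟨s, hsp, hsQ, hsd⟩ := hs
      have hc : (cs (a * b₀)).Coprime (cs a) := by
        apply Nat.coprime_of_dvd
        intro r hr h1 h2
        exact hA4 (a * b₀) r s hr hsp (hA2p a ha r hr h2) hsQ h1 hsd
      have h3 : cs (a * b₀) ∣ cs b₀ := hc.dvd_of_dvd_mul_left hdvd
      exact le_antisymm (Nat.le_of_dvd (Nat.pos_of_ne_zero hb0) h3) hle2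
    · exfalso
      push Not at hs
      have hc : (cs (a * b₀)).Coprime (cs b₀) := by
        apply Nat.coprime_of_dvd
        intro r hr h1 h2
        exact hs r hr (hA2q b₀ hb₀ r hr h2) h1
      have h3 : cs (a * b₀) ∣ cs a := hc.dvd_of_dvd_mul_right hdvd
      have h4 := Nat.le_of_dvd (Nat.pos_of_ne_zero ha0) h3
      have h5 := hlt a ha
      omega
  have hsys : Sys (fun a : G => p ∣ cs a) M :=
    { conj := by
        intro a c ha
        show p ∣ cs (c * a * c⁻¹)
        rw [index_centralizer_conj]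
        exact ha
      card_dvd := fun a ha => card_Wsub_dvd a b₀ (hcopAB a b₀ ha hb₀) (hprod a ha)
      cop := fun a ha => hcopAB a b₀ ha hb₀ }
  have hpM : p.Coprime M := Nat.Coprime.coprime_dvd_left ha₀ (hcopAB a₀ b₀ ha₀ hb₀)
  -- a `T` element commutes with no noncentral `p`-element
  have hP5 : ∀ a x : G, p ∣ cs a → (∃ k : ℕ, x ^ p ^ k = 1) → x ∉ Subgroup.center G →
      a * x ≠ x * a := by
    rintro a x ha ⟨k, hxk⟩ hxc hax
    have hcomm : Commute x a := hax.symm
    have hle := centralizer_mul_le (hpM.pow_left k) hxk (hsys.pow_mem_center ha) hcomm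
    have h1 : cs a ∣ cs (x * a) := Subgroup.index_dvd_of_le (hle.trans inf_le_right)
    have h2 : x * a ∈ KK (fun a : G => p ∣ cs a) := mem_KK (T := fun a : G => p ∣ cs a) (ha.trans h1)
    have h3 : x ∈ KK (fun a : G => p ∣ cs a) := by
      have := (KK (fun a : G => p ∣ cs a)).mul_mem h2
        ((KK (fun a : G => p ∣ cs a)).inv_mem (mem_KK (T := fun a : G => p ∣ cs a) ha))
      simpa using this
    apply hxc
    apply mem_center_of_pow (hpM.pow_left k)
    · rw [hxk]; exact Subgroup.one_mem _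
    · exact hsys.KK_pow_mem_center h3
  -- every noncentral `p`-element has class size divisible by a prime divisor of `M`
  have hKa : ∀ x : G, (∃ k : ℕ, x ^ p ^ k = 1) → x ∉ Subgroup.center G →
      ∃ s : ℕ, s.Prime ∧ s ∣ M ∧ s ∣ cs x := by
    rintro x ⟨k, hxk⟩ hxc
    have hnle : ¬ Wsub a₀ ≤ Subgroup.centralizer ({x} : Set G) := by
      intro hle
      set w := a₀⁻¹ * (x * a₀ * x⁻¹) with hw
      have hwW : w ∈ Wsub a₀ := inv_mul_conj_mem_Wsub a₀ x
      have hwx : Commute x w := by
        have := hle hwW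
        rw [mem_centralizer_singleton] at this
        exact this
      have hwa : Commute a₀ w := by
        have := hsys.Wsub_le_centralizer ha₀ ha₀ hwW
        rw [mem_centralizer_singleton] at this
        exact this
      have h1 : x * a₀ * x⁻¹ = a₀ * w := by rw [hw]; group
      have hpow : ∀ j : ℕ, x ^ j * a₀ * (x ^ j)⁻¹ = a₀ * w ^ j := by
        intro j
        induction j with
        | zero => simp
        | succ j ih =>
          have e1 : x ^ (j + 1) * a₀ * (x ^ (j + 1))⁻¹ = x * (x ^ j * a₀ * (x ^ j)⁻¹) * x⁻¹ := by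
            rw [pow_succ']; group
          have e2 : x * (a₀ * w ^ j) * x⁻¹ = (x * a₀ * x⁻¹) * (x * w ^ j * x⁻¹) := by group
          have e3 : x * w ^ j * x⁻¹ = w ^ j := by
            rw [(hwx.pow_right j).eq]; group
          rw [e1, ih, e2, h1, e3, mul_assoc, ← pow_succ']
      have h2 := hpow (p ^ k)
      rw [hxk] at h2
      have h3 : w ^ p ^ k = 1 := by
        have : a₀ * w ^ p ^ k = a₀ * 1 := by rw [← h2]; group
        exact mul_left_cancel this
      have h4 : w ^ M = 1 := by
        have h5 : orderOf w ∣ Nat.card (Wsub a₀) := Subgroup.orderOf_dvd_natCard _ hwW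
        exact orderOf_dvd_iff_pow_eq_one.mp (h5.trans (hsys.card_dvd a₀ ha₀))
      have h6 : w = 1 := eq_one_of_pow (hpM.pow_left k) h3 h4
      rw [h6, mul_one] at h1
      apply hP5 a₀ x ha₀ ⟨k, hxk⟩ hxc
      calc a₀ * x = (x * a₀ * x⁻¹) * x := by rw [h1]
        _ = x * a₀ := by group
    have hrel : (Subgroup.centralizer ({x} : Set G)).relIndex (Wsub a₀) ≠ 1 := by
      intro h
      exact hnle (Subgroup.relIndex_eq_one.mp h)
    obtain ⟨s, hsp, hsd⟩ := Nat.exists_prime_and_dvd hrel
    refine ⟨s, hsp, ?_, ?_⟩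
    · have h1 : (Subgroup.centralizer ({x} : Set G)).relIndex (Wsub a₀) ∣ Nat.card (Wsub a₀) :=
        Subgroup.index_dvd_card _
      exact (hsd.trans h1).trans (hsys.card_dvd a₀ ha₀)
    · exact hsd.trans (Cfsg.Agent.Helper79.relIndex_dvd_index_of_normal_right _ _)
  intro g r hr hrSP hrg
  by_contra hpg
  obtain ⟨T', hT'le, -⟩ := Cfsg.Agent.S4127.exists_sylow_mem_le_centralizer p g 1 hpg
    (Subgroup.one_mem _) ⟨0, by simp⟩
  obtain ⟨x, hxT, hxc⟩ := exists_mem_sylow_not_center (a₀ := a₀) ha₀ T'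
  have hxg : Commute g x := by
    have := hT'le hxT
    rw [mem_centralizer_singleton] at this
    exact this
  obtain ⟨k, hk⟩ := (IsPGroup.iff_orderOf.mp T'.2) ⟨x, hxT⟩
  have hxk : x ^ p ^ k = 1 := by
    have : orderOf x = p ^ k := by rw [← hk]; exact (Subgroup.orderOf_mk x hxT).symm
    rw [← this]
    exact pow_orderOf_eq_one x
  have hN : orderOf g ≠ 0 := (orderOf_pos g).ne'
  obtain ⟨e, f, he, hf, hef⟩ := Cfsg.Agent.S4127.exists_exponents (orderOf g) p hp hN
  set k₀ := (orderOf g).factorization p with hk₀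
  have hgef : g ^ e * g ^ f = g := by
    rw [← pow_add]
    have : g ^ (e + f) = g ^ 1 := pow_eq_pow_iff_modEq.mpr hef
    rw [this, pow_one]
  have hNdecomp : orderOf g / p ^ k₀ * p ^ k₀ = orderOf g :=
    Nat.div_mul_cancel (Nat.ordProj_dvd (orderOf g) p)
  have hgp : (g ^ e) ^ p ^ k₀ = 1 := by
    rw [← pow_mul]
    apply orderOf_dvd_iff_pow_eq_one.mp
    rw [← hNdecomp]
    exact Nat.mul_dvd_mul_right he _
  have hgp' : (g ^ f) ^ (orderOf g / p ^ k₀) = 1 := by
    rw [← pow_mul]
    apply orderOf_dvd_iff_pow_eq_one.mp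
    have h1 : orderOf g / p ^ k₀ * p ^ k₀ ∣ orderOf g / p ^ k₀ * f := Nat.mul_dvd_mul_left _ hf
    rw [hNdecomp, mul_comm] at h1
    exact h1
  have hcopN : (p ^ k).Coprime (orderOf g / p ^ k₀) :=
    (Nat.coprime_ordCompl hp hN).pow_left k
  by_cases hgpc : g ^ e ∈ Subgroup.center G
  · -- the `p`-part of `g` is central
    have hC : Subgroup.centralizer ({g ^ f} : Set G) = Subgroup.centralizer ({g} : Set G) := by
      have h1 : g = g ^ f * g ^ e := by
        rw [← pow_add, add_comm, pow_add]; exact hgef.symm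
      conv_rhs => rw [h1]
      exact (centralizer_mul_center hgpc).symm
    have hxgf : Commute x (g ^ f) := (hxg.pow_left f).symm
    have hle := centralizer_mul_le (x := x) (y := g ^ f) hcopN hxk
      (by rw [hgp']; exact Subgroup.one_mem _) hxgf
    obtain ⟨s, hsp, hsM, hsx⟩ := hKa x ⟨k, hxk⟩ hxc
    have h1 : cs x ∣ cs (x * g ^ f) := Subgroup.index_dvd_of_le (hle.trans inf_le_left)
    have h2 : cs (g ^ f) ∣ cs (x * g ^ f) := Subgroup.index_dvd_of_le (hle.trans inf_le_right)
    rw [hC] at h2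
    exact hA4 (x * g ^ f) r s hr hsp hrSP (hA2q b₀ hb₀ s hsp hsM) (hrg.trans h2) (hsx.trans h1)
  · -- the `p`-part of `g` is a noncentral `p`-element
    obtain ⟨s, hsp, hsM, hsx⟩ := hKa (g ^ e) ⟨k₀, hgp⟩ hgpc
    have hle : Subgroup.centralizer ({g} : Set G) ≤ Subgroup.centralizer ({g ^ e} : Set G) := by
      intro z hz
      rw [mem_centralizer_singleton] at hz ⊢
      have hz' : Commute g z := hz
      exact (hz'.pow_left e).eq
    have h1 : cs (g ^ e) ∣ cs g := Subgroup.index_dvd_of_le hle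
    exact hA4 g r s hr hsp hrSP (hA2q b₀ hb₀ s hsp hsM) hrg (hsx.trans h1)

end Cfsg.Agent.Helper55.ClassSys
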