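import Mathlib

/-!
# Elementary group-theoretic lemmas for the coherence theorems (Peterfalvi 6.3 / 6.4)

Requested by helper82 (board msg 1387): `exists_central_step` (G1), `frob_index_dvd` (G2),
`exists_between_of_not_prime_pow` (G3), `sq_le_relIndex_of_nonabelian` (G4).
-/

namespace Cfsg.Agent.Helper55.CohGroup

open scoped commutatorElement

/-- In a nilpotent group, a subgroup `A` with `A ≤ ⁅A, ⊤⁆` is trivial. -/
theorem eq_bot_of_le_commutator_top {Q : Type*} [Group Q] [hn : Group.IsNilpotent Q]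
    (A : Subgroup Q) (h : A ≤ ⁅A, (⊤ : Subgroup Q)⁆) : A = ⊥ := by
  obtain ⟨n, hn⟩ := Subgroup.nilpotent_iff_lowerCentralSeries.mp hn
  have key : ∀ k, A ≤ (⊤ : Subgroup Q).lowerCentralSeries k := by
    intro k
    induction k with
    | zero => simp
    | succ k ih =>
      rw [Subgroup.lowerCentralSeries_succ]
      exact h.trans (Subgroup.commutator_mono ih le_rfl)
  exact le_bot_iff.mp (hn ▸ key n)

/-- (G1) -/
theorem exists_central_step {L : Type*} [Group L] [Finite L] (M A H : Subgroup L)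
    [M.Normal] [A.Normal] [H.Normal] (hMA : M < A) (hAH : A ≤ H)
    [(M.subgroupOf H).Normal] (hnil : Group.IsNilpotent (↥H ⧸ M.subgroupOf H)) :
    ∃ B : Subgroup L, B.Normal ∧ M ≤ B ∧ B < A ∧
      ∀ x ∈ A, ∀ y ∈ H, x * y * x⁻¹ * y⁻¹ ∈ B := by
  refine ⟨M ⊔ ⁅A, H⁆, inferInstance, le_sup_left, ?_, ?_⟩
  · have hle : M ⊔ ⁅A, H⁆ ≤ A := sup_le hMA.le (Subgroup.commutator_le_left A H)
    refine lt_of_le_of_ne hle ?_
    intro heq
    apply hMA.not_ge
    -- the image of `A` in `H / M`
    set π := QuotientGroup.mk' (M.subgroupOf H) with hπ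
    set Ab : Subgroup (↥H ⧸ M.subgroupOf H) := (A.subgroupOf H).map π with hAb
    -- T = elements of H whose image lies in ⁅Ab, ⊤⁆
    set T : Subgroup L := ((⁅Ab, (⊤ : Subgroup (↥H ⧸ M.subgroupOf H))⁆).comap π).map H.subtype
      with hT
    have hMT : M ≤ T := by
      intro m hm
      refine ⟨⟨m, hAH (hMA.le hm)⟩, ?_, rfl⟩
      have : π ⟨m, hAH (hMA.le hm)⟩ = 1 := by
        rw [hπ, QuotientGroup.mk'_apply, QuotientGroup.eq_one_iff]
        exact hm
      simp only [SetLike.mem_coe, Subgroup.mem_comap, this]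
      exact one_mem _
    have hcT : ⁅A, H⁆ ≤ T := by
      rw [Subgroup.commutator_le]
      intro a ha h hh
      have hc : ⁅π ⟨a, hAH ha⟩, π ⟨h, hh⟩⁆ ∈ ⁅Ab, (⊤ : Subgroup (↥H ⧸ M.subgroupOf H))⁆ :=
        Subgroup.commutator_mem_commutator ⟨⟨a, hAH ha⟩, ha, rfl⟩ (Subgroup.mem_top _)
      refine ⟨(⟨a, hAH ha⟩ : H) * ⟨h, hh⟩ * (⟨a, hAH ha⟩ : H)⁻¹ * (⟨h, hh⟩ : H)⁻¹, ?_, ?_⟩
      · simp only [SetLike.mem_coe, Subgroup.mem_comap, map_mul, map_inv]
        rw [commutatorElement_def] at hc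
        exact hc
      · simp [commutatorElement_def]
    have hAT : A ≤ T := by
      rw [← heq]; exact sup_le hMT hcT
    have hAb_le : Ab ≤ ⁅Ab, (⊤ : Subgroup (↥H ⧸ M.subgroupOf H))⁆ := by
      rintro _ ⟨a', ha', rfl⟩
      obtain ⟨y, hy, hya⟩ := hAT ha'
      have : y = a' := Subtype.ext hya
      rw [← this]
      exact hy
    have hbot := eq_bot_of_le_commutator_top Ab hAb_le
    intro a ha
    have h1 : π ⟨a, hAH ha⟩ ∈ Ab := ⟨⟨a, hAH ha⟩, ha, rfl⟩
    rw [hbot, Subgroup.mem_bot, hπ, QuotientGroup.mk'_apply, QuotientGroup.eq_one_iff] at h1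
    exact h1
  · intro x hx y hy
    have := Subgroup.commutator_mem_commutator hx hy
    rw [commutatorElement_def] at this
    exact (le_sup_right : ⁅A, H⁆ ≤ M ⊔ ⁅A, H⁆) this

/-- If every point stabiliser of an action of a finite group `L` on a finite type `X` equals
`K`, then `K.index ∣ Nat.card X`. -/
theorem index_dvd_card_of_stabilizer_eq {L X : Type*} [Group L] [MulAction L X] [Finite X]
    (K : Subgroup L) (hstab : ∀ x : X, MulAction.stabilizer L x = K) :
    K.index ∣ Nat.card X := by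
  classical
  have e := MulAction.selfEquivSigmaOrbitsQuotientStabilizer L X
  have hfin : Finite (MulAction.orbitRel.Quotient L X) := Quotient.finite _
  have := Fintype.ofFinite (MulAction.orbitRel.Quotient L X)
  rw [Nat.card_congr e]
  have hcard : ∀ ω : MulAction.orbitRel.Quotient L X,
      Nat.card (L ⧸ MulAction.stabilizer L ω.out) = K.index := by
    intro ω
    rw [hstab]; rfl
  have hfin2 : ∀ ω : MulAction.orbitRel.Quotient L X,
      Finite (L ⧸ MulAction.stabilizer L ω.out) := by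
    intro ω
    have := e.symm.injective
    exact Finite.of_injective (fun q => e.symm ⟨ω, q⟩) (fun a b hab => by
      have := e.symm.injective hab
      simpa using this)
  rw [Nat.card_sigma]
  simp only [hcard, Finset.sum_const, smul_eq_mul]
  exact Dvd.intro_left _ rfl

/-- (G2) -/
theorem frob_index_dvd {L : Type*} [Group L] [Finite L] (K H₁ N : Subgroup L)
    [K.Normal] [H₁.Normal] [N.Normal] (hH₁N : H₁ ≤ N) (hNK : N ≤ K) (hab : ⁅K, K⁆ ≤ H₁)
    (hfrob : ∀ k ∈ K, k ∉ H₁ → ∀ x : L, x * k * x⁻¹ * k⁻¹ ∈ H₁ → x ∈ K) :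
    K.index ∣ H₁.relIndex N - 1 := by
  classical
  set π := QuotientGroup.mk' H₁ with hπ
  have hπs : Function.Surjective π := QuotientGroup.mk'_surjective H₁
  set Nb : Subgroup (L ⧸ H₁) := N.map π with hNb
  have hNbn : Nb.Normal := Subgroup.Normal.map inferInstance π hπs
  -- the set of non-identity elements of `N / H₁`
  let S : Set (L ⧸ H₁) := (Nb : Set (L ⧸ H₁)) \ {1}
  -- the action of `L` on `S`
  let act : MulAction L S :=
    { smul := fun l q => ⟨π l * q.1 * (π l)⁻¹, by
        refine ⟨hNbn.conj_mem _ q.2.1 _, ?_⟩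
        intro h
        apply q.2.2
        have h' : π l * q.1 * (π l)⁻¹ = 1 := h
        have : q.1 = (π l)⁻¹ * (π l * q.1 * (π l)⁻¹) * π l := by group
        rw [this, h']; simp⟩
      one_smul := fun q => by
        apply Subtype.ext
        show π 1 * q.1 * (π 1)⁻¹ = q.1
        simp
      mul_smul := fun a b q => by
        apply Subtype.ext
        show π (a * b) * q.1 * (π (a * b))⁻¹ = π a * (π b * q.1 * (π b)⁻¹) * (π a)⁻¹
        rw [map_mul]; group }
  have hsmul : ∀ (l : L) (q : S), ((l • q : S) : L ⧸ H₁) = π l * q.1 * (π l)⁻¹ := fun _ _ => rfl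
  have hstab : ∀ q : S, MulAction.stabilizer L q = K := by
    intro q
    obtain ⟨n, hnN, hnq⟩ := q.2.1
    have hnH : n ∉ H₁ := by
      intro h
      apply q.2.2
      rw [← hnq, hπ, QuotientGroup.mk'_apply, Set.mem_singleton_iff, QuotientGroup.eq_one_iff]
      exact h
    ext l
    rw [MulAction.mem_stabilizer_iff, Subtype.ext_iff, hsmul, ← hnq]
    have hrw : π l * π n * (π l)⁻¹ = π n ↔ l * n * l⁻¹ * n⁻¹ ∈ H₁ := by
      rw [← map_inv, ← map_mul, ← map_mul, hπ, QuotientGroup.mk'_apply, QuotientGroup.mk'_apply,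
        eq_comm, QuotientGroup.eq]
      constructor
      · intro h
        have := H₁.inv_mem h
        have h2 := (inferInstance : H₁.Normal).conj_mem _ this n
        have e : n * (n⁻¹ * (l * n * l⁻¹))⁻¹ * n⁻¹ = (l * n * l⁻¹ * n⁻¹)⁻¹ := by group
        rw [e] at h2
        simpa using H₁.inv_mem h2
      · intro h
        have h2 := (inferInstance : H₁.Normal).conj_mem _ h n⁻¹
        have e : n⁻¹ * (l * n * l⁻¹ * n⁻¹) * n⁻¹⁻¹ = n⁻¹ * (l * n * l⁻¹) := by group
        rw [e] at h2
        exact h2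
    rw [hrw]
    constructor
    · intro h
      exact hfrob n (hNK hnN) hnH l h
    · intro hl
      apply hab
      have := Subgroup.commutator_mem_commutator hl (hNK hnN)
      rw [commutatorElement_def] at this
      exact this
  have hdvd := @index_dvd_card_of_stabilizer_eq L S _ act _ K hstab
  have hcardS : Nat.card S = Nat.card Nb - 1 := by
    rw [Nat.card_coe_set_eq, Set.ncard_sdiff_singleton_of_mem (Nb.one_mem), ← Nat.card_coe_set_eq]
    rfl
  have hcardNb : Nat.card Nb = H₁.relIndex N := by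
    have h1 : Nb.index = N.index := by
      apply Subgroup.index_map_eq _ hπs
      rw [hπ, QuotientGroup.ker_mk']
      exact hH₁N
    have h2 := Subgroup.card_mul_index Nb
    have h3 := Subgroup.relIndex_mul_index hH₁N
    have h4 : Nat.card (L ⧸ H₁) = H₁.index := rfl
    rw [h1, h4, ← h3] at h2
    exact Nat.eq_of_mul_eq_mul_right (Nat.pos_of_ne_zero Subgroup.index_ne_zero_of_finite) h2
  rw [hcardS, hcardNb] at hdvd
  exact hdvd

/-- A nilpotent group admitting a homomorphism to a cyclic group whose kernel lies in the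
commutator subgroup is abelian. -/
theorem commutator_eq_bot_of_cyclic {G C : Type*} [Group G] [Group.IsNilpotent G] [Group C]
    [IsCyclic C] (f : G →* C) (hf : f.ker ≤ commutator G) : commutator G = ⊥ := by
  set Γ : Subgroup G := ⁅commutator G, (⊤ : Subgroup G)⁆ with hΓ
  have hΓn : Γ.Normal := inferInstance
  have hΓle : Γ ≤ commutator G := Subgroup.commutator_le_left _ _
  have hcommC : ∀ a b : C, a * b = b * a := by
    intro a b
    letI := IsCyclic.commGroup (α := C)
    exact mul_comm a b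
  have hck : commutator G ≤ f.ker := by
    rw [commutator_def, Subgroup.commutator_le]
    intro x _ y _
    rw [MonoidHom.mem_ker, map_commutatorElement, commutatorElement_eq_one_iff_mul_comm]
    exact hcommC _ _
  let g : G ⧸ Γ →* C := QuotientGroup.lift Γ f (hΓle.trans hck)
  have hgk : g.ker ≤ Subgroup.center (G ⧸ Γ) := by
    intro q hq
    induction q using QuotientGroup.induction_on with
    | H x =>
      have hx : x ∈ commutator G := hf (by
        rw [MonoidHom.mem_ker] at hq ⊢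
        simpa [g] using hq)
      rw [Subgroup.mem_center_iff]
      intro y'
      induction y' using QuotientGroup.induction_on with
      | H y =>
        rw [← QuotientGroup.mk_mul, ← QuotientGroup.mk_mul, eq_comm, QuotientGroup.eq]
        have h1 : ⁅x, y⁆ ∈ Γ := Subgroup.commutator_mem_commutator hx (Subgroup.mem_top y)
        have h2 := hΓn.conj_mem _ (Γ.inv_mem h1) (y⁻¹ * x⁻¹)
        have e : y⁻¹ * x⁻¹ * ⁅x, y⁆⁻¹ * (y⁻¹ * x⁻¹)⁻¹ = (x * y)⁻¹ * (y * x) := by
          rw [commutatorElement_def]; group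
        rw [e] at h2
        exact h2
  have hcommQ : ∀ a b : G ⧸ Γ, a * b = b * a := by
    have := MonoidHom.isMulCommutative_of_isCyclic_of_ker_le_center g hgk
    exact fun a b => mul_comm' a b
  have hle : commutator G ≤ Γ := by
    rw [commutator_def, Subgroup.commutator_le]
    intro x _ y _
    have h1 : (QuotientGroup.mk' Γ) ⁅x, y⁆ = 1 := by
      rw [map_commutatorElement, commutatorElement_eq_one_iff_mul_comm]
      exact hcommQ _ _
    exact (QuotientGroup.eq_one_iff _).mp h1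
  exact eq_bot_of_le_commutator_top _ hle

/-- (G4) -/
theorem sq_le_relIndex_of_nonabelian {L : Type*} [Group L] [Finite L] (K M H₁ : Subgroup L)
    [K.Normal] [M.Normal] (hMK : M ≤ K) (hH₁ : H₁ = ⁅K, K⁆ ⊔ M) (p m : ℕ) (hp : p.Prime)
    (hpm : M.relIndex K = p ^ m) (hna : ¬ ⁅K, K⁆ ≤ M) : p ^ 2 ≤ H₁.relIndex K := by
  by_contra hlt
  push Not at hlt
  apply hna
  haveI : Fact p.Prime := ⟨hp⟩
  have hMH : M ≤ H₁ := hH₁ ▸ le_sup_right
  have hH₁K : H₁ ≤ K := hH₁ ▸ sup_le (Subgroup.commutator_le_left K K) hMK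
  haveI hH₁n : H₁.Normal := by subst hH₁; infer_instance
  haveI : (M.subgroupOf K).Normal := inferInstance
  haveI : (H₁.subgroupOf K).Normal := inferInstance
  have hQcard : Nat.card (↥K ⧸ M.subgroupOf K) = p ^ m := hpm
  have hQp : IsPGroup p (↥K ⧸ M.subgroupOf K) := IsPGroup.of_card hQcard
  haveI : Group.IsNilpotent (↥K ⧸ M.subgroupOf K) := hQp.isNilpotent
  have hCcard : Nat.card (↥K ⧸ H₁.subgroupOf K) = H₁.relIndex K := rfl
  have hdvd : H₁.relIndex K ∣ p ^ m := hpm ▸ Subgroup.relIndex_dvd_of_le_left K hMH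
  obtain ⟨j, hj, hjeq⟩ := (Nat.dvd_prime_pow hp).mp hdvd
  have hj2 : j < 2 := by
    rw [hjeq] at hlt; exact (Nat.pow_lt_pow_iff_right hp.one_lt).mp hlt
  haveI : IsCyclic (↥K ⧸ H₁.subgroupOf K) := by
    interval_cases j
    · haveI : Subsingleton (↥K ⧸ H₁.subgroupOf K) :=
        (Nat.card_eq_one_iff_unique.mp (by rw [hCcard, hjeq, pow_zero])).1
      infer_instance
    · exact isCyclic_of_prime_card (p := p) (by rw [hCcard, hjeq, pow_one])
  let f : (↥K ⧸ M.subgroupOf K) →* (↥K ⧸ H₁.subgroupOf K) :=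
    QuotientGroup.map (M.subgroupOf K) (H₁.subgroupOf K) (MonoidHom.id K)
      (fun x hx => hMH hx)
  have hcomap : commutator ↥K ≤
      (commutator (↥K ⧸ M.subgroupOf K)).comap (QuotientGroup.mk' (M.subgroupOf K)) := by
    rw [commutator_def, Subgroup.commutator_le]
    intro x _ y _
    rw [Subgroup.mem_comap, map_commutatorElement, commutator_def]
    exact Subgroup.commutator_mem_commutator (Subgroup.mem_top _) (Subgroup.mem_top _)
  have hker : f.ker ≤ commutator (↥K ⧸ M.subgroupOf K) := by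
    intro q hq
    induction q using QuotientGroup.induction_on with
    | H k =>
      have hk : (k : L) ∈ H₁ := by
        rw [MonoidHom.mem_ker] at hq
        have : ((QuotientGroup.mk k : ↥K ⧸ H₁.subgroupOf K)) = 1 := hq
        rw [QuotientGroup.eq_one_iff] at this
        exact this
      rw [hH₁, ← SetLike.mem_coe, Subgroup.mul_normal, Set.mem_mul] at hk
      obtain ⟨c, hc, m', hm', hcm⟩ := hk
      rw [SetLike.mem_coe, ← Subgroup.map_subtype_commutator] at hc
      obtain ⟨c', hc', rfl⟩ := hc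
      have hkeq : k = c' * ⟨m', hMK hm'⟩ := Subtype.ext hcm.symm
      rw [hkeq, QuotientGroup.mk_mul]
      have h1 : ((QuotientGroup.mk (⟨m', hMK hm'⟩ : K) : ↥K ⧸ M.subgroupOf K)) = 1 := by
        rw [QuotientGroup.eq_one_iff]; exact hm'
      rw [h1, mul_one]
      exact hcomap hc'
  have hbot := commutator_eq_bot_of_cyclic f hker
  rw [Subgroup.commutator_le]
  intro x hx y hy
  have h1 : ⁅(QuotientGroup.mk' (M.subgroupOf K)) (⟨x, hx⟩ : K),
      (QuotientGroup.mk' (M.subgroupOf K)) (⟨y, hy⟩ : K)⁆ ∈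
      commutator (↥K ⧸ M.subgroupOf K) := by
    rw [commutator_def]
    exact Subgroup.commutator_mem_commutator (Subgroup.mem_top _) (Subgroup.mem_top _)
  rw [hbot, Subgroup.mem_bot, ← map_commutatorElement, QuotientGroup.mk'_apply,
    QuotientGroup.eq_one_iff] at h1
  exact h1

/-- In a finite nilpotent group every prime divisor of the order divides the index of the
commutator subgroup. -/
theorem prime_dvd_index_commutator {Q : Type*} [Group Q] [Finite Q] [Group.IsNilpotent Q]
    {r : ℕ} (hr : r.Prime) (hdvd : r ∣ Nat.card Q) : r ∣ (commutator Q).index := by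
  classical
  haveI : Fact r.Prime := ⟨hr⟩
  have hn : ∀ {p : ℕ} [Fact p.Prime] (P : Sylow p Q), (P : Subgroup Q).Normal :=
    fun P => inferInstance
  let e := Sylow.directProductOfNormal (G := Q) hn
  have hrmem : r ∈ (Nat.card Q).primeFactors :=
    Nat.mem_primeFactors.mpr ⟨hr, hdvd, Nat.card_pos.ne'⟩
  let P : Sylow r Q := default
  let pr : Q →* (P : Subgroup Q) :=
    ((Pi.evalMonoidHom (fun P' : Sylow r Q => ↥(P' : Subgroup Q)) P).comp
      (Pi.evalMonoidHom (fun p : (Nat.card Q).primeFactors =>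
        ∀ P' : Sylow p Q, ↥(P' : Subgroup Q)) ⟨r, hrmem⟩)).comp e.symm.toMonoidHom
  have hprs : Function.Surjective pr := by
    intro y
    obtain ⟨g, hg⟩ := Function.surjective_eval
      (β := fun P' : Sylow r Q => ↥(P' : Subgroup Q)) P y
    obtain ⟨h, hh⟩ := Function.surjective_eval
      (β := fun p : (Nat.card Q).primeFactors => ∀ P' : Sylow p Q, ↥(P' : Subgroup Q))
      ⟨r, hrmem⟩ g
    obtain ⟨x, hx⟩ := e.symm.surjective h
    refine ⟨x, ?_⟩
    show (e.symm x) ⟨r, hrmem⟩ P = y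
    rw [hx]
    have : h ⟨r, hrmem⟩ = g := hh
    rw [this]
    exact hg
  haveI hPnt : Nontrivial (P : Subgroup Q) := by
    rw [Subgroup.nontrivial_iff_ne_bot]
    exact P.ne_bot_of_dvd_card hdvd
  have hlt := Group.IsSolvable.commutator_lt_top_of_nontrivial (P : Subgroup Q)
  -- the abelianization of `P`
  let φ : Q →* Abelianization (P : Subgroup Q) := (Abelianization.of).comp pr
  have hφs : Function.Surjective φ :=
    (QuotientGroup.mk'_surjective _).comp hprs
  have hck : commutator Q ≤ φ.ker := Abelianization.commutator_subset_ker φ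
  have hidx : φ.ker.index = Nat.card (Abelianization (P : Subgroup Q)) := by
    rw [Subgroup.index_ker, MonoidHom.range_eq_top.mpr hφs]
    exact Nat.card_congr (Subgroup.topEquiv.toEquiv)
  have hcardA : Nat.card (Abelianization (P : Subgroup Q)) =
      (commutator (P : Subgroup Q)).index := rfl
  have hrA : r ∣ (commutator (P : Subgroup Q)).index := by
    have h1 : (commutator (P : Subgroup Q)).index ∣ Nat.card (P : Subgroup Q) :=
      Subgroup.index_dvd_card _
    obtain ⟨k, hk⟩ := P.isPGroup'.exists_card_eq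
    rw [hk] at h1
    obtain ⟨j, hj, hjeq⟩ := (Nat.dvd_prime_pow hr).mp h1
    rcases Nat.eq_zero_or_pos j with rfl | hjpos
    · exfalso
      rw [pow_zero, Subgroup.index_eq_one] at hjeq
      exact hlt.ne hjeq
    · rw [hjeq]
      exact dvd_pow_self r hjpos.ne'
  calc r ∣ (commutator (P : Subgroup Q)).index := hrA
    _ = φ.ker.index := by rw [hidx, hcardA]
    _ ∣ (commutator Q).index := Subgroup.index_dvd_of_le hck

/-- The kernel of `K / M → K / H₁` lies in the commutator subgroup of `K / M` when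
`H₁ = ⁅K, K⁆ ⊔ M`. -/
theorem ker_map_le_commutator {L : Type*} [Group L] (K M H₁ : Subgroup L)
    [M.Normal] [H₁.Normal] (hMK : M ≤ K) (hH₁ : H₁ = ⁅K, K⁆ ⊔ M) (hMH : M ≤ H₁) :
    (QuotientGroup.map (M.subgroupOf K) (H₁.subgroupOf K) (MonoidHom.id K)
      (fun x hx => hMH hx)).ker ≤ commutator (↥K ⧸ M.subgroupOf K) := by
  have hcomap : commutator ↥K ≤
      (commutator (↥K ⧸ M.subgroupOf K)).comap (QuotientGroup.mk' (M.subgroupOf K)) := by
    rw [commutator_def, Subgroup.commutator_le]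
    intro x _ y _
    rw [Subgroup.mem_comap, map_commutatorElement, commutator_def]
    exact Subgroup.commutator_mem_commutator (Subgroup.mem_top _) (Subgroup.mem_top _)
  intro q hq
  induction q using QuotientGroup.induction_on with
  | H k =>
    have hk : (k : L) ∈ H₁ := by
      rw [MonoidHom.mem_ker] at hq
      have : ((QuotientGroup.mk k : ↥K ⧸ H₁.subgroupOf K)) = 1 := hq
      rw [QuotientGroup.eq_one_iff] at this
      exact this
    rw [hH₁, ← SetLike.mem_coe, Subgroup.mul_normal, Set.mem_mul] at hk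
    obtain ⟨c, hc, m', hm', hcm⟩ := hk
    rw [SetLike.mem_coe, ← Subgroup.map_subtype_commutator] at hc
    obtain ⟨c', hc', rfl⟩ := hc
    have hkeq : k = c' * ⟨m', hMK hm'⟩ := Subtype.ext hcm.symm
    rw [hkeq, QuotientGroup.mk_mul]
    have h1 : ((QuotientGroup.mk (⟨m', hMK hm'⟩ : K) : ↥K ⧸ M.subgroupOf K)) = 1 := by
      rw [QuotientGroup.eq_one_iff]; exact hm'
    rw [h1, mul_one]
    exact hcomap hc'

/-- `|N / H₁| = |N : H₁|` for the image of `N ≥ H₁` in `L / H₁`. -/
theorem card_map_mk' {L : Type*} [Group L] [Finite L] (H₁ N : Subgroup L) [H₁.Normal]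
    (hH₁N : H₁ ≤ N) : Nat.card (N.map (QuotientGroup.mk' H₁)) = H₁.relIndex N := by
  have h1 : (N.map (QuotientGroup.mk' H₁)).index = N.index := by
    apply Subgroup.index_map_eq _ (QuotientGroup.mk'_surjective H₁)
    rw [QuotientGroup.ker_mk']
    exact hH₁N
  have h2 := Subgroup.card_mul_index (N.map (QuotientGroup.mk' H₁))
  have h3 := Subgroup.relIndex_mul_index hH₁N
  have h4 : Nat.card (L ⧸ H₁) = H₁.index := rfl
  rw [h1, h4, ← h3] at h2
  exact Nat.eq_of_mul_eq_mul_right (Nat.pos_of_ne_zero Subgroup.index_ne_zero_of_finite) h2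

/-- (G3) -/
theorem exists_between_of_not_prime_pow {L : Type*} [Group L] [Finite L] (K M H₁ : Subgroup L)
    [K.Normal] [M.Normal] (hMK : M ≤ K) [(M.subgroupOf K).Normal]
    (hnil : Group.IsNilpotent (↥K ⧸ M.subgroupOf K)) (hH₁ : H₁ = ⁅K, K⁆ ⊔ M)
    (hnpp : ¬ ∃ p m : ℕ, p.Prime ∧ M.relIndex K = p ^ m) :
    ∃ N : Subgroup L, N.Normal ∧ H₁ < N ∧ N < K := by
  classical
  have hMH : M ≤ H₁ := hH₁ ▸ le_sup_right
  have hcK : ⁅K, K⁆ ≤ H₁ := hH₁ ▸ le_sup_left
  have hH₁K : H₁ ≤ K := hH₁ ▸ sup_le (Subgroup.commutator_le_left K K) hMK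
  haveI hH₁n : H₁.Normal := by subst hH₁; infer_instance
  haveI : (H₁.subgroupOf K).Normal := inferInstance
  have hQcard : Nat.card (↥K ⧸ M.subgroupOf K) = M.relIndex K := rfl
  have hn0 : M.relIndex K ≠ 0 := by
    rw [← hQcard]; exact Nat.card_pos.ne'
  -- two distinct primes dividing `|K : M|`
  have hn1 : M.relIndex K ≠ 1 := fun h => hnpp ⟨2, 0, Nat.prime_two, by rw [h, pow_zero]⟩
  obtain ⟨p, hp, hpd⟩ := Nat.exists_prime_and_dvd hn1
  have hq : ∃ q : ℕ, q.Prime ∧ q ∣ M.relIndex K ∧ q ≠ p := by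
    by_contra hcon
    push Not at hcon
    exact hnpp ⟨p, _, hp, Nat.eq_prime_pow_of_unique_prime_dvd hn0
      (fun {d} hd hdd => hcon d hd hdd)⟩
  obtain ⟨q, hq, hqd, hqp⟩ := hq
  -- both divide `|K : H₁|`
  have hdiv : ∀ r : ℕ, r.Prime → r ∣ M.relIndex K → r ∣ H₁.relIndex K := by
    intro r hr hrd
    have h1 := prime_dvd_index_commutator (Q := ↥K ⧸ M.subgroupOf K) hr (hQcard ▸ hrd)
    set f := QuotientGroup.map (M.subgroupOf K) (H₁.subgroupOf K) (MonoidHom.id K)
      (fun x hx => hMH hx) with hf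
    have hker := ker_map_le_commutator K M H₁ hMK hH₁ hMH
    have hfs : Function.Surjective f := by
      intro c
      induction c using QuotientGroup.induction_on with
      | H k => exact ⟨QuotientGroup.mk k, rfl⟩
    have h2 : f.ker.index = H₁.relIndex K := by
      rw [Subgroup.index_ker, MonoidHom.range_eq_top.mpr hfs]
      exact Nat.card_congr (Subgroup.topEquiv.toEquiv)
    rw [← h2]
    exact h1.trans (Subgroup.index_dvd_of_le hker)
  -- work in `L / H₁`
  set π := QuotientGroup.mk' H₁ with hπ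
  have hπs : Function.Surjective π := QuotientGroup.mk'_surjective H₁
  set Kb : Subgroup (L ⧸ H₁) := K.map π with hKb
  have hKbn : Kb.Normal := Subgroup.Normal.map inferInstance π hπs
  have hKbcard : Nat.card Kb = H₁.relIndex K := card_map_mk' H₁ K hH₁K
  have hKbcomm : ∀ a ∈ Kb, ∀ b ∈ Kb, a * b = b * a := by
    rintro _ ⟨k₁, hk₁, rfl⟩ _ ⟨k₂, hk₂, rfl⟩
    rw [← commutatorElement_eq_one_iff_mul_comm, ← map_commutatorElement, hπ,
      QuotientGroup.mk'_apply, QuotientGroup.eq_one_iff]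
    exact hcK (Subgroup.commutator_mem_commutator hk₁ hk₂)
  haveI : Fact p.Prime := ⟨hp⟩
  haveI : Fact q.Prime := ⟨hq⟩
  obtain ⟨x, hx⟩ := exists_prime_orderOf_dvd_card' (G := Kb) p
    (hKbcard ▸ hdiv p hp hpd)
  obtain ⟨y, hy⟩ := exists_prime_orderOf_dvd_card' (G := Kb) q
    (hKbcard ▸ hdiv q hq hqd)
  rw [← Subgroup.orderOf_coe] at hx hy
  -- the `p`-torsion of `K / H₁`
  let Nb : Subgroup (L ⧸ H₁) :=
    { carrier := {a | a ∈ Kb ∧ a ^ p = 1}
      one_mem' := ⟨Kb.one_mem, one_pow _⟩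
      mul_mem' := by
        rintro a b ⟨ha, hap⟩ ⟨hb, hbp⟩
        refine ⟨Kb.mul_mem ha hb, ?_⟩
        have hc : Commute a b := hKbcomm a ha b hb
        rw [hc.mul_pow, hap, hbp, one_mul]
      inv_mem' := by
        rintro a ⟨ha, hap⟩
        exact ⟨Kb.inv_mem ha, by rw [inv_pow, hap, inv_one]⟩ }
  have hNbmem : ∀ a, a ∈ Nb ↔ a ∈ Kb ∧ a ^ p = 1 := fun a => Iff.rfl
  have hNbn : Nb.Normal := by
    constructor
    intro a ha g
    rw [hNbmem] at ha ⊢
    exact ⟨hKbn.conj_mem a ha.1 g, by rw [conj_pow, ha.2, mul_one, mul_inv_cancel]⟩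
  refine ⟨Nb.comap π, hNbn.comap π, ?_, ?_⟩
  · have hle : H₁ ≤ Nb.comap π := by
      intro h hh
      rw [Subgroup.mem_comap]
      have : π h = 1 := by
        rw [hπ, QuotientGroup.mk'_apply, QuotientGroup.eq_one_iff]; exact hh
      rw [this]; exact Nb.one_mem
    refine lt_of_le_of_ne hle ?_
    intro heq
    obtain ⟨x', hx'K, hx'⟩ := x.2
    have hx'N : x' ∈ Nb.comap π := by
      rw [Subgroup.mem_comap, hNbmem, hx']
      exact ⟨x.2, by rw [← hx]; exact pow_orderOf_eq_one _⟩
    rw [← heq] at hx'N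
    have : (x : L ⧸ H₁) = 1 := by
      rw [← hx', hπ, QuotientGroup.mk'_apply, QuotientGroup.eq_one_iff]; exact hx'N
    rw [this, orderOf_one] at hx
    exact hp.one_lt.ne hx
  · have hle : Nb.comap π ≤ K := by
      intro n hn
      rw [Subgroup.mem_comap, hNbmem] at hn
      obtain ⟨k, hk, hkn⟩ := hn.1
      rw [hπ, QuotientGroup.mk'_apply, QuotientGroup.mk'_apply, QuotientGroup.eq] at hkn
      have := K.mul_mem hk (hH₁K hkn)
      simpa using this
    refine lt_of_le_of_ne hle ?_
    intro heq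
    obtain ⟨y', hy'K, hy'⟩ := y.2
    rw [← heq, SetLike.mem_coe, Subgroup.mem_comap, hNbmem, hy'] at hy'K
    have h1 : orderOf (y : L ⧸ H₁) ∣ p := orderOf_dvd_of_pow_eq_one hy'K.2
    rw [hy] at h1
    exact hqp ((Nat.prime_dvd_prime_iff_eq hq hp).mp h1)

end Cfsg.Agent.Helper55.CohGroup
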