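import Mathlib
import Cfsg.Agent.Lib.Helper55.Dedekind

set_option autoImplicit false

/-!
# Structure of Hamiltonian groups: the centraliser of a quaternion pair

Given a quaternion pair `x, y` (order `4`, `y² = x²`, `y x y⁻¹ = x⁻¹`) in a finite group all of
whose subgroups are normal, the centraliser `C` of `{x, y}` is abelian without elements of
order `4`, and `G = ⟨x, y⟩ C`.
-/

namespace Cfsg.Agent.Helper55.Hamiltonian

open Cfsg.Agent.Helper55.Dedekind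

variable {G : Type*} [Group G] {x y : G}

theorem pow_four_of_order (hx : orderOf x = 4) : x ^ 4 = 1 := by
  rw [← hx]; exact pow_orderOf_eq_one x

theorem sq_ne_one (hx : orderOf x = 4) : x ^ 2 ≠ 1 := by
  intro h
  have := orderOf_dvd_of_pow_eq_one h
  rw [hx] at this
  norm_num at this

theorem sq_inv_eq (hx : orderOf x = 4) : (x ^ 2)⁻¹ = x ^ 2 := by
  apply inv_eq_of_mul_eq_one_right
  rw [← pow_add]
  exact pow_four_of_order hx

theorem inv_eq_cube (hx : orderOf x = 4) : x⁻¹ = x ^ 3 := by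
  symm
  apply eq_inv_of_mul_eq_one_left
  rw [← pow_succ]
  exact pow_four_of_order hx

theorem conj_y_by_x (hx : orderOf x = 4) (hxy : y ^ 2 = x ^ 2) (hconj : y * x * y⁻¹ = x⁻¹) :
    x * y * x⁻¹ = y⁻¹ := by
  have hx4 := pow_four_of_order hx
  calc x * y * x⁻¹ = x * y * (y * x * y⁻¹) := by rw [hconj]
    _ = x * y ^ 2 * x * y⁻¹ := by rw [pow_two]; group
    _ = x ^ 4 * y⁻¹ := by rw [hxy]; group
    _ = y⁻¹ := by rw [hx4, one_mul]

theorem not_comm (hx : orderOf x = 4) (hconj : y * x * y⁻¹ = x⁻¹) : x * y ≠ y * x := by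
  intro h
  apply sq_ne_one hx
  have h1 : y * x * y⁻¹ = x := by rw [← h]; group
  rw [h1] at hconj
  calc x ^ 2 = x * x := pow_two x
    _ = x * x⁻¹ := congrArg (fun t => x * t) hconj
    _ = 1 := mul_inv_cancel x

theorem mem_cent_pair {g : G} :
    g ∈ Subgroup.centralizer ({x, y} : Set G) ↔ x * g = g * x ∧ y * g = g * y := by
  rw [Subgroup.mem_centralizer_iff]
  constructor
  · intro h
    exact ⟨h x (by simp), h y (by simp)⟩
  · rintro ⟨h1, h2⟩ z hz
    simp only [Set.mem_insert_iff, Set.mem_singleton_iff] at hz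
    rcases hz with rfl | rfl
    · exact h1
    · exact h2

theorem comm_of_conj_eq {g q z : G} (h : g * z * g⁻¹ = q * z * q⁻¹) :
    z * (q⁻¹ * g) = q⁻¹ * g * z := by
  calc z * (q⁻¹ * g) = q⁻¹ * (q * z * q⁻¹) * g := by group
    _ = q⁻¹ * (g * z * g⁻¹) * g := by rw [h]
    _ = q⁻¹ * g * z := by group

section dedekind

variable [Finite G] (hn : ∀ H : Subgroup G, H.Normal)
include hn

/-- In a Dedekind group, a conjugate of an element of order `4` is the element or its inverse. -/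
theorem conj_eq_or_inv {z : G} (hz : orderOf z = 4) (g : G) :
    g * z * g⁻¹ = z ∨ g * z * g⁻¹ = z⁻¹ := by
  have hz4 := pow_four_of_order hz
  obtain ⟨k, hk⟩ := Subgroup.mem_zpowers_iff.mp (conj_mem_zpowers hn g z)
  have hk' : z ^ (k % 4) = g * z * g⁻¹ := by
    rw [← hk]
    exact (zpow_eq_zpow_emod' k hz4).symm
  have h0 := Int.emod_nonneg k (by norm_num : (4 : ℤ) ≠ 0)
  have h4 := Int.emod_lt_of_pos k (by norm_num : (0 : ℤ) < 4)
  have hsq : (g * z * g⁻¹) ^ 2 ≠ 1 := by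
    rw [conj_pow]
    intro h
    exact sq_ne_one hz (conj_eq_one_iff.mp h)
  obtain ⟨r, hr⟩ : ∃ r, r = k % 4 := ⟨_, rfl⟩
  rw [← hr] at hk' h0 h4
  interval_cases r
  · exfalso; apply hsq; rw [← hk']; simp
  · left; rw [← hk']; simp
  · exfalso; apply hsq; rw [← hk']
    have : (z ^ (2 : ℤ)) ^ 2 = z ^ 4 := by
      rw [zpow_ofNat, ← pow_mul]
    rw [this, hz4]
  · right; rw [← hk', inv_eq_cube hz]; exact zpow_ofNat z 3

/-- `G = ⟨x, y⟩ C`. -/
theorem exists_coset_rep (hx : orderOf x = 4) (hy : orderOf y = 4) (hxy : y ^ 2 = x ^ 2)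
    (hconj : y * x * y⁻¹ = x⁻¹) (g : G) :
    ∃ q : G, (q = 1 ∨ q = x ∨ q = y ∨ q = y * x) ∧
      q⁻¹ * g ∈ Subgroup.centralizer ({x, y} : Set G) := by
  have hyx : x * y * x⁻¹ = y⁻¹ := conj_y_by_x hx hxy hconj
  rcases conj_eq_or_inv hn hx g with h1 | h1 <;> rcases conj_eq_or_inv hn hy g with h2 | h2
  · refine ⟨1, Or.inl rfl, ?_⟩
    rw [mem_cent_pair]
    exact ⟨comm_of_conj_eq (by rw [h1]; group), comm_of_conj_eq (by rw [h2]; group)⟩
  · refine ⟨x, Or.inr (Or.inl rfl), ?_⟩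
    rw [mem_cent_pair]
    exact ⟨comm_of_conj_eq (by rw [h1]; group), comm_of_conj_eq (by rw [h2, hyx])⟩
  · refine ⟨y, Or.inr (Or.inr (Or.inl rfl)), ?_⟩
    rw [mem_cent_pair]
    exact ⟨comm_of_conj_eq (by rw [h1, hconj]), comm_of_conj_eq (by rw [h2]; group)⟩
  · refine ⟨y * x, Or.inr (Or.inr (Or.inr rfl)), ?_⟩
    rw [mem_cent_pair]
    refine ⟨comm_of_conj_eq ?_, comm_of_conj_eq ?_⟩
    · rw [h1, ← hconj]; group
    · rw [h2]
      calc y⁻¹ = y * y⁻¹ * y⁻¹ := by group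
        _ = y * (x * y * x⁻¹) * y⁻¹ := by rw [hyx]
        _ = y * x * y * (y * x)⁻¹ := by group

/-- The centraliser of a quaternion pair has no element of order `4`. -/
theorem sq_eq_one_of_pow_four (hx : orderOf x = 4) (hconj : y * x * y⁻¹ = x⁻¹) {g : G}
    (hg : g ∈ Subgroup.centralizer ({x, y} : Set G)) (hg4 : g ^ 4 = 1) : g ^ 2 = 1 := by
  obtain ⟨hgx, hgy⟩ := mem_cent_pair.mp hg
  have hx4 := pow_four_of_order hx
  have hcgx : Commute g x := hgx.symm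
  have hw4 : (g * x) ^ 4 = 1 := by rw [hcgx.mul_pow, hg4, hx4, one_mul]
  have hgne : g ≠ x := by
    rintro rfl
    exact not_comm hx hconj hgy.symm
  have hcomm : y * (g * x) * y⁻¹ * (g * x)⁻¹ = x ^ 2 := by
    have h1 : g * (x ^ 2)⁻¹ * g⁻¹ = (x ^ 2)⁻¹ := by
      rw [mul_inv_eq_iff_eq_mul]
      exact ((hcgx.pow_right 2).inv_right).eq
    calc y * (g * x) * y⁻¹ * (g * x)⁻¹ = (y * g) * x * y⁻¹ * x⁻¹ * g⁻¹ := by group
      _ = (g * y) * x * y⁻¹ * x⁻¹ * g⁻¹ := by rw [hgy]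
      _ = g * (y * x * y⁻¹) * x⁻¹ * g⁻¹ := by group
      _ = g * x⁻¹ * x⁻¹ * g⁻¹ := by rw [hconj]
      _ = g * (x ^ 2)⁻¹ * g⁻¹ := by group
      _ = x ^ 2 := by rw [h1, sq_inv_eq hx]
  have hmem := comm_mem_left hn (g * x) y
  rw [hcomm] at hmem
  obtain ⟨k, hk⟩ := Subgroup.mem_zpowers_iff.mp hmem
  have hk' : (g * x) ^ (k % 4) = x ^ 2 := by
    rw [← hk]
    exact (zpow_eq_zpow_emod' k hw4).symm
  have h0 := Int.emod_nonneg k (by norm_num : (4 : ℤ) ≠ 0)
  have h4 := Int.emod_lt_of_pos k (by norm_num : (0 : ℤ) < 4)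
  obtain ⟨r, hr⟩ : ∃ r, r = k % 4 := ⟨_, rfl⟩
  rw [← hr] at hk' h0 h4
  interval_cases r
  · exfalso; apply sq_ne_one hx; rw [← hk']; simp
  · exfalso; apply hgne
    rw [zpow_one, pow_two] at hk'
    exact mul_right_cancel hk'
  · have h2 : g ^ 2 * x ^ 2 = x ^ 2 := by
      rw [← hcgx.mul_pow]
      exact_mod_cast hk'
    exact mul_eq_right.mp h2
  · exfalso; apply hgne
    have h3 : (g * x) ^ 3 = x ^ 2 := by exact_mod_cast hk'
    have h5 : (g * x) * x ^ 2 = 1 := by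
      rw [← h3, ← pow_succ']; exact hw4
    have h6 : g * x = (x ^ 2)⁻¹ := eq_inv_of_mul_eq_one_left h5
    rw [sq_inv_eq hx, pow_two] at h6
    exact mul_right_cancel h6

/-- The centraliser of a quaternion pair is abelian. -/
theorem cent_comm (hx : orderOf x = 4) (hconj : y * x * y⁻¹ = x⁻¹) :
    ∀ g ∈ Subgroup.centralizer ({x, y} : Set G), ∀ h ∈ Subgroup.centralizer ({x, y} : Set G),
      g * h = h * g := by
  by_contra hcon
  push Not at hcon
  obtain ⟨g, hg, h, hh, hne⟩ := hcon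
  set C := Subgroup.centralizer ({x, y} : Set G) with hC
  have hnC : ∀ H : Subgroup ↥C, H.Normal := by
    intro H
    have := (hn (H.map C.subtype)).comap C.subtype
    rwa [Subgroup.comap_map_eq_self_of_injective C.subtype_injective] at this
  obtain ⟨u, v, hu, hv, huv, hconj'⟩ := exists_quaternion_pair hnC
    ⟨⟨g, hg⟩, ⟨h, hh⟩, fun e => hne (congrArg Subtype.val e)⟩
  have hu4 : (u : G) ^ 4 = 1 := by
    have := pow_four_of_order hu
    exact_mod_cast congrArg Subtype.val this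
  have hu2 := sq_eq_one_of_pow_four hn hx hconj u.2 hu4
  apply sq_ne_one hu
  apply Subtype.ext
  simpa using hu2

end dedekind

/-- No element of order `4` implies: `2`-elements are involutions. -/
theorem sq_eq_one_of_two_pow (C : Subgroup G) (hF : ∀ g ∈ C, g ^ 4 = 1 → g ^ 2 = 1) :
    ∀ k : ℕ, ∀ g ∈ C, g ^ (2 ^ k) = 1 → g ^ 2 = 1 := by
  intro k
  induction k with
  | zero =>
    intro g _ h
    rw [pow_zero, pow_one] at h
    rw [h, one_pow]
  | succ k ih =>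
    intro g hg h
    rcases k with _ | k
    · simpa using h
    · apply ih g hg
      have e : 2 ^ (k + 1 + 1) = 2 ^ k * 4 := by ring
      rw [e, pow_mul] at h
      have := hF (g ^ 2 ^ k) (Subgroup.pow_mem _ hg _) h
      rw [← pow_mul, ← pow_succ] at this
      exact this

/-- The subgroup of squares of an abelian subgroup. -/
def sqSubgroup (C : Subgroup G) (hC : ∀ g ∈ C, ∀ h ∈ C, g * h = h * g) : Subgroup G where
  carrier := {a | ∃ g ∈ C, g ^ 2 = a}
  mul_mem' := by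
    rintro _ _ ⟨g, hg, rfl⟩ ⟨h, hh, rfl⟩
    exact ⟨g * h, C.mul_mem hg hh, Commute.mul_pow (show Commute g h from hC g hg h hh) 2⟩
  one_mem' := ⟨1, C.one_mem, one_pow 2⟩
  inv_mem' := by
    rintro _ ⟨g, hg, rfl⟩
    exact ⟨g⁻¹, C.inv_mem hg, inv_pow g 2⟩

theorem mem_sqSubgroup {C : Subgroup G} {hC : ∀ g ∈ C, ∀ h ∈ C, g * h = h * g} {a : G} :
    a ∈ sqSubgroup C hC ↔ ∃ g ∈ C, g ^ 2 = a := Iff.rfl

theorem sqSubgroup_le (C : Subgroup G) (hC : ∀ g ∈ C, ∀ h ∈ C, g * h = h * g) :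
    sqSubgroup C hC ≤ C := by
  rintro _ ⟨g, hg, rfl⟩
  exact C.pow_mem hg 2

theorem odd_card_of_no_involution [Finite G] {A : Subgroup G}
    (h : ∀ a ∈ A, a ^ 2 = 1 → a = 1) : Odd (Nat.card A) := by
  rw [← Nat.not_even_iff_odd]
  intro heven
  haveI : Fact (Nat.Prime 2) := ⟨Nat.prime_two⟩
  obtain ⟨a, ha⟩ := exists_prime_orderOf_dvd_card' (G := ↥A) 2 heven.two_dvd
  have h1 : (a : G) ^ 2 = 1 := by
    have := pow_orderOf_eq_one a
    rw [ha] at this
    exact_mod_cast congrArg Subtype.val this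
  have h2 := h a a.2 h1
  have h3 : a = 1 := Subtype.ext h2
  rw [h3, orderOf_one] at ha
  norm_num at ha

theorem eq_one_of_sq_of_mem_odd {A : Subgroup G} (hA : Odd (Nat.card A)) {a : G} (ha : a ∈ A)
    (h2 : a ^ 2 = 1) : a = 1 := by
  have h1 := orderOf_dvd_of_pow_eq_one h2
  have h3 := A.orderOf_dvd_natCard ha
  rcases (Nat.dvd_prime Nat.prime_two).mp h1 with h | h
  · exact orderOf_eq_one_iff.mp h
  · exfalso
    rw [h] at h3
    exact (Nat.not_even_iff_odd.mpr hA) (even_iff_two_dvd.mpr h3)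

/-- Every element of `C` is an involution times a square. -/
theorem exists_decomp [Finite G] (C : Subgroup G) (hC : ∀ g ∈ C, ∀ h ∈ C, g * h = h * g)
    (hF : ∀ g ∈ C, g ^ 4 = 1 → g ^ 2 = 1) {g : G} (hg : g ∈ C) :
    ∃ e ∈ C, e ^ 2 = 1 ∧ ∃ a ∈ sqSubgroup C hC, g = e * a := by
  obtain ⟨k, m, hm, hkm⟩ := Nat.exists_eq_two_pow_mul_odd (orderOf_pos g).ne'
  obtain ⟨j, rfl⟩ := hm
  refine ⟨g ^ (2 * j + 1), C.pow_mem hg _, ?_, ((g ^ j)⁻¹) ^ 2,
    ⟨(g ^ j)⁻¹, C.inv_mem (C.pow_mem hg _), rfl⟩, ?_⟩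
  · apply sq_eq_one_of_two_pow C hF k _ (C.pow_mem hg _)
    rw [← pow_mul, mul_comm, ← hkm]
    exact pow_orderOf_eq_one g
  · group

/-- A complement to `⟨c⟩` in the involutions of `C`. -/
theorem exists_E [Finite G] (hn : ∀ H : Subgroup G, H.Normal) (C : Subgroup G)
    (hC : ∀ g ∈ C, ∀ h ∈ C, g * h = h * g) (c : G) (hc1 : c ≠ 1) :
    ∃ E : Subgroup G, E ≤ C ∧ (∀ e ∈ E, e ^ 2 = 1) ∧ c ∉ E ∧
      ∀ e ∈ C, e ^ 2 = 1 → e ∈ E ∨ e * c ∈ E := by
  let P : Subgroup G → Prop := fun H => H ≤ C ∧ (∀ h ∈ H, h ^ 2 = 1) ∧ c ∉ H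
  have hbot : P ⊥ := ⟨bot_le, fun h hh => by rw [Subgroup.mem_bot.mp hh, one_pow],
    fun h => hc1 (Subgroup.mem_bot.mp h)⟩
  obtain ⟨E, -, hE⟩ := Finite.exists_le_maximal hbot
  refine ⟨E, hE.prop.1, hE.prop.2.1, hE.prop.2.2, ?_⟩
  intro e heC he2
  by_contra hcon
  push Not at hcon
  obtain ⟨heE, hecE⟩ := hcon
  haveI := hn (Subgroup.zpowers e)
  have he2' : e ^ (2 : ℤ) = 1 := by rw [zpow_ofNat]; exact he2
  have hmem : ∀ g ∈ E ⊔ Subgroup.zpowers e, ∃ f ∈ E, g = f ∨ g = f * e := by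
    intro g hg
    obtain ⟨f, hf, z, hz, rfl⟩ := Subgroup.mem_sup_of_normal_right.mp hg
    obtain ⟨k, rfl⟩ := Subgroup.mem_zpowers_iff.mp hz
    refine ⟨f, hf, ?_⟩
    rcases Int.even_or_odd' k with ⟨m, rfl | rfl⟩
    · left; rw [zpow_mul, he2', one_zpow, mul_one]
    · right; rw [zpow_add, zpow_mul, he2', one_zpow, one_mul, zpow_one]
  have hPH : P (E ⊔ Subgroup.zpowers e) := by
    refine ⟨sup_le hE.prop.1 (Subgroup.zpowers_le.mpr heC), ?_, ?_⟩
    · intro g hg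
      obtain ⟨f, hf, h1 | h1⟩ := hmem g hg
      · rw [h1]; exact hE.prop.2.1 f hf
      · rw [h1, Commute.mul_pow (show Commute f e from hC f (hE.prop.1 hf) e heC),
          hE.prop.2.1 f hf, he2, one_mul]
    · intro hcH
      obtain ⟨f, hf, h1 | h1⟩ := hmem c hcH
      · exact hE.prop.2.2 (h1 ▸ hf)
      · apply hecE
        have h2 : e * c = f := by
          rw [h1, ← mul_assoc, ← hC f (hE.prop.1 hf) e heC, mul_assoc, ← pow_two, he2, mul_one]
        rw [h2]; exact hf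
  have hle := hE.le_of_ge hPH le_sup_left
  exact heE (hle (Subgroup.mem_sup_right (Subgroup.mem_zpowers e)))

end Cfsg.Agent.Helper55.Hamiltonian
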