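import Mathlib
import Cfsg.Agent.Lib.Helper55.O2520Defs
import Cfsg.Agent.Lib.Helper91.O2520REP
import Cfsg.Agent.Lib.Helper86.O2520SUMS
import Cfsg.Agent.Lib.Helper57.O2520SUMN
import Cfsg.Agent.Lib.Helper45.O2520INT

/-!
# O2520: the key arithmetic of fixed-space dimensions (assembly of REP, SUMU, SUMN, SUMS, INT)
-/

set_option autoImplicit false

namespace Cfsg.Agent.Helper55.O2520

open Cfsg Cfsg.Agent.Helper91.O2520 Cfsg.Agent.Helper86.O2520 Cfsg.Agent.Helper57.O2520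
  Cfsg.Agent.Helper45.O2520
open scoped Classical

universe u

theorem key {G : Type u} [Group G] [Fintype G] {n : ℕ}
    (ρ : Representation ℂ G (Fin n → ℂ)) (hirr : ρ.IsIrreducible) (hn : 2 ≤ n)
    (hfaith : ∀ g : G, ρ g = 1 → g = 1) (P : Subgroup G) (u w : G) (hc : Config P u w) :
    ∃ m A E fN fD fS fV : ℕ, 4 * fN + n = m + 4 * A ∧ 2 * fD + n = m + 2 * E ∧
      2 * fS + n = A + 2 * E ∧ 2 * fV + n = 3 * E ∧ A ≤ E ∧ E + 1 ≤ n ∧ m + 1 ≤ n ∧ fN ≤ fD ∧
      (A < fN + fS →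
        (P ⊔ Subgroup.zpowers u) ⊔ (Subgroup.zpowers u ⊔ Subgroup.zpowers w) ≠ ⊤) := by
  obtain ⟨f, hsum, hmono, hle, htriv, hfix⟩ := rep_fix ρ hirr hn
  have hcl : ∀ g x : G, ρ.character (g * x * g⁻¹) = ρ.character x := fun g x => ρ.char_conj x g
  obtain ⟨hcU, hcU2, hsU, hsU2⟩ := sum_U P u w hc ρ.character hcl
  obtain ⟨hcN, hcD, hsN, hsD⟩ := sum_N P u w hc ρ.character hcl
  obtain ⟨hcS, hcV, hsS, hsV⟩ := sum_S P u w hc ρ.character hcl
  obtain ⟨hint, hnot⟩ := inter_NS P u w hc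
  have h1 : ρ.character 1 = (n : ℂ) := by
    rw [Representation.char_one]; simp
  have eP := hsum P
  have eU := hsum (Subgroup.zpowers u)
  have eU2 := hsum (Subgroup.zpowers (u ^ 2))
  have eN := hsum (P ⊔ Subgroup.zpowers u)
  have eD := hsum (P ⊔ Subgroup.zpowers (u ^ 2))
  have eS := hsum (Subgroup.zpowers u ⊔ Subgroup.zpowers w)
  have eV := hsum (Subgroup.zpowers (u ^ 2) ⊔ Subgroup.zpowers w)
  rw [hc.cardP] at eP
  rw [hcU, hsU] at eU
  rw [hcU2, hsU2] at eU2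
  rw [hcN, hsN, eP] at eN
  rw [hcD, hsD, eP] at eD
  rw [hcS, hsS] at eS
  rw [hcV, hsV] at eV
  rw [h1] at eU eU2 eS eV
  set m := f P
  set A := f (Subgroup.zpowers u)
  set E := f (Subgroup.zpowers (u ^ 2))
  set fN := f (P ⊔ Subgroup.zpowers u)
  set fD := f (P ⊔ Subgroup.zpowers (u ^ 2))
  set fS := f (Subgroup.zpowers u ⊔ Subgroup.zpowers w)
  set fV := f (Subgroup.zpowers (u ^ 2) ⊔ Subgroup.zpowers w)
  push_cast at eP eU eU2 eN eD eS eV
  refine ⟨m, A, E, fN, fD, fS, fV, ?_, ?_, ?_, ?_, ?_, ?_, ?_, ?_, ?_⟩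
  · have : ((4 * fN + n : ℕ) : ℂ) = ((m + 4 * A : ℕ) : ℂ) := by
      push_cast
      linear_combination (-1 / 9 : ℂ) * eN + eU
    exact_mod_cast this
  · have : ((2 * fD + n : ℕ) : ℂ) = ((m + 2 * E : ℕ) : ℂ) := by
      push_cast
      linear_combination (-1 / 9 : ℂ) * eD + eU2
    exact_mod_cast this
  · have : ((2 * fS + n : ℕ) : ℂ) = ((A + 2 * E : ℕ) : ℂ) := by
      push_cast
      linear_combination (-1 / 4 : ℂ) * eS + (1 / 4 : ℂ) * eU + eU2
    exact_mod_cast this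
  · have : ((2 * fV + n : ℕ) : ℂ) = ((3 * E : ℕ) : ℂ) := by
      push_cast
      linear_combination (-1 / 2 : ℂ) * eV + (3 / 2 : ℂ) * eU2
    exact_mod_cast this
  · apply hmono
    intro x hx
    obtain ⟨k, rfl⟩ := Subgroup.mem_zpowers_iff.1 hx
    rw [← zpow_natCast, ← zpow_mul]
    exact Subgroup.zpow_mem_zpowers u _
  · have h := hle (Subgroup.zpowers (u ^ 2))
    have hne : f (Subgroup.zpowers (u ^ 2)) ≠ n := by
      intro h
      have h2 := htriv _ h (u ^ 2) (Subgroup.mem_zpowers _)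
      have h3 := hfaith _ h2
      have h4 := orderOf_dvd_of_pow_eq_one h3
      rw [hc.ordu] at h4
      norm_num at h4
    omega
  · have h := hle P
    have hne : f P ≠ n := by
      intro h
      have hbot : P = ⊥ := by
        rw [eq_bot_iff]
        intro x hx
        rw [Subgroup.mem_bot]
        exact hfaith _ (htriv _ h x hx)
      have := hc.cardP
      rw [hbot] at this
      simp at this
    omega
  · apply hmono
    apply sup_le_sup_left
    intro x hx
    obtain ⟨k, rfl⟩ := Subgroup.mem_zpowers_iff.1 hx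
    rw [← zpow_natCast, ← zpow_mul]
    exact Subgroup.zpow_mem_zpowers u _
  · intro hlt
    apply hfix
    rw [hint]
    exact hlt

end Cfsg.Agent.Helper55.O2520
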