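import Mathlib
import Cfsg.Agent.Lib.Helper55.O2520Defs
import Cfsg.Agent.Lib.Helper20.O2520S3C
import Cfsg.Agent.Lib.Helper50.O2520C5
import Cfsg.Agent.Lib.Helper88.O2520DEG6
import Cfsg.Agent.Lib.Helper57.O2520SUMN
import Cfsg.Agent.Lib.Helper45.O2520INT
import Cfsg.Agent.Lib.Helper74.O2520N3
import Cfsg.Agent.Lib.Helper76.O2520FAITH
import Cfsg.Agent.Lib.Helper42.O2520S3A
import Cfsg.Agent.Lib.Helper87.O2520C7
import Cfsg.Agent.Lib.Helper69.O2520S3D
import Cfsg.Agent.Lib.Helper45.O2520OVG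
import Cfsg.Agent.Lib.Helper71.O2520FIN
import Cfsg.Agent.Lib.Helper34.O2520N7
import Cfsg.Agent.Lib.Helper41.O2520S3B
import Cfsg.Agent.Lib.Helper21.O2520SYL2
import Cfsg.Agent.Lib.Helper55.O2520Key
import Cfsg.Agent.Lib.Helper17.EmbedNormalizer

/-!
# O2520: top assembly
-/

set_option autoImplicit false

namespace Cfsg.Agent.Helper55.O2520

open Cfsg
open scoped Classical

universe u

/-- In the main configuration, an irreducible representation of degree `4` does not exist and one of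
degree `6` forces a proper subgroup properly containing `P ⊔ ⟨u⟩`. -/
theorem no_deg4 {G : Type u} [Group G] [Fintype G] [IsSimpleGroup G]
    (P : Subgroup G) (u w : G) (hc : Config P u w) (ψ : IrrCharacter G) :
    charDegree (ψ : G → ℂ) ≠ 4 := by
  intro h4
  obtain ⟨n, ρ, hirr, hχ⟩ := ψ.2
  have hn : n = 4 := by
    have h1 : (ψ : G → ℂ) 1 = (n : ℂ) := by
      rw [← hχ, Representation.char_one]; simp
    have h2 : (ψ : G → ℂ) 1 = ((charDegree (ψ : G → ℂ) : ℕ) : ℂ) := by
      unfold charDegree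
      rw [h1]
      simp
    rw [h1, h4] at h2
    exact_mod_cast h2
  subst hn
  have hfaith := Cfsg.Agent.Helper76.O2520.faithful_of_simple ρ hirr (by norm_num)
  obtain ⟨m, A, E, fN, fD, fS, fV, e1, e2, e3, e4, h5, h6, h7, h8, -⟩ :=
    key ρ hirr (by norm_num) hfaith P u w hc
  omega

theorem deg6_not_top {G : Type u} [Group G] [Fintype G] [IsSimpleGroup G]
    (P : Subgroup G) (u w : G) (hc : Config P u w) (ψ : IrrCharacter G)
    (h6 : charDegree (ψ : G → ℂ) = 6) :
    (P ⊔ Subgroup.zpowers u) ⊔ (Subgroup.zpowers u ⊔ Subgroup.zpowers w) ≠ ⊤ := by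
  obtain ⟨n, ρ, hirr, hχ⟩ := ψ.2
  have hn : n = 6 := by
    have h1 : (ψ : G → ℂ) 1 = (n : ℂ) := by
      rw [← hχ, Representation.char_one]; simp
    have h2 : (ψ : G → ℂ) 1 = ((charDegree (ψ : G → ℂ) : ℕ) : ℂ) := by
      unfold charDegree
      rw [h1]
      simp
    rw [h1, h6] at h2
    exact_mod_cast h2
  subst hn
  have hfaith := Cfsg.Agent.Helper76.O2520.faithful_of_simple ρ hirr (by norm_num)
  obtain ⟨m, A, E, fN, fD, fS, fV, e1, e2, e3, e4, h5, h6, h7, h8, hfix⟩ :=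
    key ρ hirr (by norm_num) hfaith P u w hc
  apply hfix
  omega

theorem main {G : Type u} [Group G] [Finite G] [IsSimpleGroup G] (hG : Nat.card G = 2520) :
    Nonempty (G ≃* alternatingGroup (Fin 7)) := by
  have : Fintype G := Fintype.ofFinite G
  suffices hd : Done G from Cfsg.Agent.Helper71.O2520.iso_of_done hG hd
  have h7 := Cfsg.Agent.Helper34.O2520.card_sylow7 hG
  have h5 := Cfsg.Agent.Helper34.O2520.card_sylow5 hG h7
  rcases Cfsg.Agent.Helper74.O2520.card_sylow3 hG h7 h5 with hd | h3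
  · exact hd
  obtain ⟨P⟩ : Nonempty (Sylow 3 G) := inferInstance
  have hovg := Cfsg.Agent.Helper45.O2520.overgroup hG h7 h3 P
  rcases Cfsg.Agent.Helper41.O2520.centralizer_sylow3 hG h7 h3 P hovg with hd | hC
  · exact hd
  have hexp := Cfsg.Agent.Helper42.O2520.sylow3_exp hG h3 P hC
  rcases Cfsg.Agent.Helper20.O2520.exists_order4 hG h7 h5 h3 P hC hexp hovg with hd | ⟨u, hun, hu⟩
  · exact hd
  have hcardP : Nat.card (P : Subgroup G) = 9 := by
    have := Cfsg.Agent.Helper17.sylow_card_eq P (k := 2) (m := 280) (by rw [hG]; norm_num) (by norm_num)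
    rw [this]; norm_num
  have hinv := Cfsg.Agent.Helper69.O2520.inverts_of_order4 (P : Subgroup G) hcardP hexp hC u hu hun
  obtain ⟨w, hw, hwu, hconj, hall⟩ := Cfsg.Agent.Helper21.O2520.sylow2 hG u hu
  have hc : Config (P : Subgroup G) u w :=
    { cardP := hcardP
      expP := hexp
      ordu := hu
      norm := fun x hx => (Subgroup.mem_normalizer_iff.1 hun x).1 hx
      inv := hinv
      ordw := hw
      wu := hwu
      conj := hconj }
  obtain ⟨Q5⟩ : Nonempty (Sylow 5 G) := inferInstance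
  rcases Cfsg.Agent.Helper50.O2520.sylow5_local hG h7 h5 u w hu hw hwu hall Q5 with hd | ⟨hN5, hC5⟩
  · exact hd
  obtain ⟨Q7⟩ : Nonempty (Sylow 7 G) := inferInstance
  obtain ⟨hN7, hC7⟩ := Cfsg.Agent.Helper87.O2520.sylow7_local hG h7 Q7
  obtain ⟨ψ, hψ⟩ := Cfsg.Agent.Helper88.O2520.exists_deg6 hG Q7 hN7 hC7 Q5 hN5 hC5 (no_deg4 (P : Subgroup G) u w hc)
  have hnt := deg6_not_top (P : Subgroup G) u w hc ψ hψ
  -- the subgroup
  set K := ((P : Subgroup G) ⊔ Subgroup.zpowers u) ⊔ (Subgroup.zpowers u ⊔ Subgroup.zpowers w)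
    with hK
  obtain ⟨hint, hnot⟩ := Cfsg.Agent.Helper45.O2520.inter_NS (P : Subgroup G) u w hc
  have hcl : ∀ g x : G, (fun _ : G => (0 : ℂ)) (g * x * g⁻¹) = (fun _ : G => (0 : ℂ)) x :=
    fun _ _ => rfl
  obtain ⟨hcN, -, -, -⟩ := Cfsg.Agent.Helper57.O2520.sum_N (P : Subgroup G) u w hc (fun _ => 0) hcl
  -- N(P) = P ⊔ ⟨u⟩
  have hNle : (P : Subgroup G) ⊔ Subgroup.zpowers u ≤
      Subgroup.normalizer ((P : Subgroup G) : Set G) := by
    apply sup_le Subgroup.le_normalizer
    rw [Subgroup.zpowers_le]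
    exact hun
  have hNcard : Nat.card (Subgroup.normalizer ((P : Subgroup G) : Set G)) = 36 := by
    have h := Cfsg.Agent.Helper17.card_normalizer_mul_sylow_count P
    rw [h3, hG] at h
    omega
  have hNeq : (P : Subgroup G) ⊔ Subgroup.zpowers u =
      Subgroup.normalizer ((P : Subgroup G) : Set G) := by
    apply Subgroup.eq_of_le_of_card_ge hNle
    rw [hcN, hNcard]
  have hlt : Subgroup.normalizer ((P : Subgroup G) : Set G) < K := by
    rw [← hNeq]
    apply lt_of_le_of_ne le_sup_left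
    intro heq
    apply hnot
    rw [heq]
    exact le_sup_right
  exact ⟨K, hovg K hlt hnt⟩

end Cfsg.Agent.Helper55.O2520
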