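import Mathlib
import Cfsg.Agent.Lib.Helper17.Sieve

/-!
# Sieve certificates for the orders `3641 .. 6232` (for S0983): definitions

A variant of `Cfsg.Agent.Helper17.Sieve.Cert` with a cheaper primality test (trial division up to `79`,
enough below `6400`).
-/

set_option autoImplicit false

namespace Cfsg.Agent.Helper55.O983

open Cfsg.Agent.Helper17.Sieve

/-- Primality test for `p < 6400`: no divisor `d` with `2 ≤ d < min p 80`. -/
def PrimeS (p : ℕ) : Prop :=
  2 ≤ p ∧ p < 6400 ∧ ∀ d ∈ List.range 80, 2 ≤ d → d < p → ¬ d ∣ p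

instance (p : ℕ) : Decidable (PrimeS p) := by unfold PrimeS; infer_instance

theorem PrimeS.prime {p : ℕ} (h : PrimeS p) : p.Prime := by
  obtain ⟨h2, h64, hd⟩ := h
  rw [Nat.prime_def_lt']
  refine ⟨h2, fun d hd2 hdp hdvd => ?_⟩
  obtain ⟨e, he⟩ := hdvd
  have hp0 : 0 < p := by omega
  have he0 : e ≠ 0 := by
    rintro rfl
    omega
  have he2 : 2 ≤ e := by
    by_contra hlt
    have : e = 1 := by omega
    subst this
    omega
  have hep : e < p := by
    rw [he]
    nlinarith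
  by_cases hd80 : d < 80
  · exact hd d (List.mem_range.2 hd80) hd2 hdp ⟨e, he⟩
  · by_cases he80 : e < 80
    · exact hd e (List.mem_range.2 he80) he2 hep ⟨d, by rw [he, mul_comm]⟩
    · have : 80 * 80 ≤ d * e := Nat.mul_le_mul (by omega) (by omega)
      omega

/-- A certificate that no nonabelian simple group of order `n` exists (as `Helper17.Sieve.Cert`, with the
cheaper primality test). -/
def CertS (n p k m q b : ℕ) : Prop :=
  PrimeS p ∧ ((q ≠ 0 ∧ PrimeS q ∧ n = p ^ k * q ^ b) ∨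
    (q = 0 ∧ k ≠ 0 ∧ m ≠ 1 ∧ ¬ p ∣ m ∧ n = p ^ k * m ∧
      ∀ d ∈ List.range (m + 1), d ∣ m → d % p = 1 → Bad n p k m d))

instance (n p k m q b : ℕ) : Decidable (CertS n p k m q b) := by unfold CertS; infer_instance

theorem certS_sound.{u} {n p k m q b : ℕ} (h : CertS n p k m q b) : NoSimple.{u} n := by
  intro G _ _ _ hna hn
  obtain ⟨hp, h | h⟩ := h
  · obtain ⟨_, hq, hnn⟩ := h
    exact two_prime_kill hna p q k b hp.prime hq.prime (hn.trans hnn)
  · obtain ⟨_, hk, hm1, hpm, hnn, hall⟩ := h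
    have : Fact p.Prime := ⟨hp.prime⟩
    have hm0 : m ≠ 0 := fun h0 => hpm (h0 ▸ dvd_zero p)
    apply sylow_kill hna p k m hk hm1 (hn.trans hnn) hpm
    intro d hdm hdp
    have := hall d (List.mem_range.2 (Nat.lt_succ_of_le (Nat.le_of_dvd (Nat.pos_of_ne_zero hm0) hdm)))
      hdm hdp
    rwa [hnn] at this

/-- The certificate property of a table entry `(n, p, k, m, q, b)`. -/
def CertE (e : ℕ × ℕ × ℕ × ℕ × ℕ × ℕ) : Prop :=
  CertS e.1 e.2.1 e.2.2.1 e.2.2.2.1 e.2.2.2.2.1 e.2.2.2.2.2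

instance (e : ℕ × ℕ × ℕ × ℕ × ℕ × ℕ) : Decidable (CertE e) := by unfold CertE; infer_instance

end Cfsg.Agent.Helper55.O983
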