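import Mathlib
import Cfsg.Agent.S1017
import Cfsg.Agent.Lib.Helper17.FixedCount

/-!
# O983 (GEN1), (GEN2): fixed-point congruences (helper55's server for S0983)
-/

set_option autoImplicit false

namespace Cfsg.Agent.Helper55.O983

open MulAction

/-- (GEN1) fixed points on `Syl_p` of an element `u` of prime order `r` centralizing a Sylow
`p`-subgroup `P` of prime order `p`. -/
theorem fix_congr {G : Type*} [Group G] [Finite G] [IsSimpleGroup G] (h2 : 2 < Nat.card G)
    {p : ℕ} [hp : Fact p.Prime] (P : Sylow p G) (hP : Nat.card (P : Subgroup G) = p)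
    (hn : 1 < Nat.card (Sylow p G))
    (u : G) (hu : u ∈ Subgroup.centralizer ((P : Subgroup G) : Set G))
    {r : ℕ} [hr : Fact r.Prime] (hur : orderOf u = r) :
    Nat.card (fixedBy (Sylow p G) u) % p = 1 ∧
    Nat.card (fixedBy (Sylow p G) u) % r = Nat.card (Sylow p G) % r ∧
    Nat.card (fixedBy (Sylow p G) u) < Nat.card (Sylow p G) ∧
    (r = 2 → Nat.card (fixedBy (Sylow p G) u) % 4 = Nat.card (Sylow p G) % 4) := by
  have hu1 : u ≠ 1 := Cfsg.Agent.S1017.ne_one_of_orderOf_prime u hr.out hur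
  refine ⟨?_, ?_, ?_, ?_⟩
  · have h := Cfsg.Agent.S1017.card_fixedBy_sylow_modEq P hP u hu
    have h1 : 1 % p = 1 := Nat.mod_eq_of_lt hp.out.one_lt
    rw [Nat.ModEq, h1] at h
    exact h
  · exact (Cfsg.Agent.S1017.card_modEq_card_fixedBy (α := Sylow p G) u hur).symm
  · have hle := Cfsg.Agent.S1017.card_fixedBy_le (α := Sylow p G) u
    have hne := Cfsg.Agent.S1017.card_fixedBy_ne (α := Sylow p G)
      (Cfsg.Agent.S1017.sylow_action_nontrivial hn) u hu1
    omega
  · intro hr2
    subst hr2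
    exact Cfsg.Agent.S1017.card_fixedBy_mod_four h2 (α := Sylow p G) u hur

/-- (GEN2) fixed points on the cosets of `H` of an element `u` of prime order `r` commuting with an
element `y` of prime order `p`, when `p ∤ |H|`. -/
theorem coset_fix_congr {G : Type*} [Group G] [Finite G] [IsSimpleGroup G] (h2 : 2 < Nat.card G)
    (H : Subgroup G) (hH : H ≠ ⊤) {p : ℕ} [hp : Fact p.Prime] (hpH : ¬ p ∣ Nat.card H)
    (y u : G) (hy : orderOf y = p) (hc : Commute y u) {r : ℕ} [hr : Fact r.Prime]
    (hur : orderOf u = r) :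
    p ∣ Nat.card (fixedBy (G ⧸ H) u) ∧
    Nat.card (fixedBy (G ⧸ H) u) % r = H.index % r ∧
    Nat.card (fixedBy (G ⧸ H) u) < H.index ∧
    (r = 2 → Nat.card (fixedBy (G ⧸ H) u) % 4 = H.index % 4) := by
  have hu1 : u ≠ 1 := Cfsg.Agent.S1017.ne_one_of_orderOf_prime u hr.out hur
  have hidx : Nat.card (G ⧸ H) = H.index := (Subgroup.index_eq_card H).symm
  refine ⟨?_, ?_, ?_, ?_⟩
  · have h := Cfsg.Agent.S1017.card_fixedBy_modEq_inter (α := G ⧸ H) y u hc hy
    have hempty : fixedBy (G ⧸ H) u ∩ fixedBy (G ⧸ H) y = ∅ := by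
      ext q
      simp only [Set.mem_inter_iff, Set.mem_empty_iff_false, iff_false, not_and]
      intro _ hq
      induction q using QuotientGroup.induction_on with
      | H g =>
        have hq' : y • (QuotientGroup.mk g : G ⧸ H) = QuotientGroup.mk g := hq
        rw [Cfsg.Agent.Helper17.smul_mk_eq_iff] at hq'
        apply hpH
        have ho : orderOf (g⁻¹ * y * g) = p := by
          have : g⁻¹ * y * g = (MulAut.conj g⁻¹).toMonoidHom y := by simp
          rw [this, orderOf_injective _ (MulAut.conj g⁻¹).injective, hy]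
        have := Subgroup.orderOf_dvd_natCard H hq'
        rwa [ho] at this
    rw [hempty] at h
    have h0 : Nat.card (↥(∅ : Set (G ⧸ H))) = 0 := by simp
    rw [h0] at h
    exact (Nat.modEq_zero_iff_dvd).1 h
  · rw [← hidx]
    exact (Cfsg.Agent.S1017.card_modEq_card_fixedBy (α := G ⧸ H) u hur).symm
  · rw [← hidx]
    have hle := Cfsg.Agent.S1017.card_fixedBy_le (α := G ⧸ H) u
    have hne := Cfsg.Agent.S1017.card_fixedBy_ne (α := G ⧸ H)
      (Cfsg.Agent.S1017.coset_action_nontrivial H hH) u hu1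
    omega
  · intro hr2
    subst hr2
    rw [← hidx]
    exact Cfsg.Agent.S1017.card_fixedBy_mod_four h2 (α := G ⧸ H) u hur

end Cfsg.Agent.Helper55.O983
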