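import Mathlib
import Cfsg.Agent.Lib.Helper17.Sieve
import Cfsg.Agent.Lib.Helper55.O983Defs
import Cfsg.Agent.Lib.Helper55.O983T1
import Cfsg.Agent.Lib.Helper55.O983T2
import Cfsg.Agent.Lib.Helper55.O983T3
import Cfsg.Agent.Lib.Helper55.O983T4

/-!
# Sieve certificates for the orders `3641 .. 6232` (for S0983)

All orders in the range except 43 special ones are handled by `Cfsg.Agent.Helper17.Sieve.Cert`.
-/

set_option autoImplicit false

namespace Cfsg.Agent.Helper55.O983

open Cfsg.Agent.Helper17.Sieve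

/-- All certificates. -/
def table : List (ℕ × ℕ × ℕ × ℕ × ℕ × ℕ) := t1 ++ t2 ++ t3 ++ t4

theorem table_ok : ∀ e ∈ table, CertE e := by
  intro e he
  simp only [table, List.mem_append] at he
  rcases he with (((h | h) | h) | h)
  · exact t1_ok e h
  · exact t2_ok e h
  · exact t3_ok e h
  · exact t4_ok e h

/-- The orders in the range not handled by the table. -/
def Skip (n : ℕ) : Prop :=
  n ∈ [3648, 3696, 3744, 3780, 3840, 3960, 4032, 4080, 4160, 4200, 4212, 4320, 4400, 4480, 4500, 4536, 4620, 4680, 4760, 4800, 4928, 4960, 5040, 5104, 5148, 5200, 5236, 5292, 5376, 5400, 5460, 5472, 5600, 5616, 5724, 5760, 5852, 5880, 5940, 6000, 6048, 6072, 6160]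

instance (n : ℕ) : Decidable (Skip n) := by unfold Skip; infer_instance

set_option maxRecDepth 100000 in
theorem table_keys :
    table.map Prod.fst = ((List.range 2592).map (· + 3641)).filter (fun n => decide (¬ Skip n)) := by
  decide +kernel

theorem table_cover (n : ℕ) (h1 : 3640 < n) (h2 : n ≤ 6232) (hs : ¬ Skip n) :
    ∃ e ∈ table, e.1 = n := by
  have h : n ∈ table.map Prod.fst := by
    rw [table_keys, List.mem_filter, List.mem_map]
    refine ⟨⟨n - 3641, List.mem_range.2 (by omega), by omega⟩, decide_eq_true hs⟩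
  obtain ⟨e, he, hen⟩ := List.mem_map.1 h
  exact ⟨e, he, hen⟩

/-- The sieve for the orders `3641 .. 6232`. -/
theorem noSimple_of_range.{u} (n : ℕ) (h1 : 3640 < n) (h2 : n ≤ 6232) (hs : ¬ Skip n) :
    NoSimple.{u} n := by
  obtain ⟨e, he, hen⟩ := table_cover n h1 h2 hs
  have := table_ok e he
  rw [← hen]
  exact certS_sound this

end Cfsg.Agent.Helper55.O983
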