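import Mathlib
import Cfsg.Agent.Lib.Helper55.ClassSys

set_option autoImplicit false

/-! Class sizes of `p`-singular elements: basic tools. -/

namespace Cfsg.Agent.Helper55.PSingular

open Subgroup Cfsg.Agent.Helper55.ClassProd Cfsg.Agent.Helper55.ClassGraph
  Cfsg.Agent.Helper55.ClassSys

variable {G : Type*} [Group G]

local notation "cs" g:max => Subgroup.index (Subgroup.centralizer (singleton g))

/-- `u` is a `p`-element -/
def IsPel (p : ℕ) (u : G) : Prop := ∃ k : ℕ, u ^ p ^ k = 1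

/-- `w` is a `p'`-element -/
def IsP'el (p : ℕ) (w : G) : Prop := ∃ n : ℕ, n.Coprime p ∧ w ^ n = 1

theorem IsPel.conj {p : ℕ} {u : G} (h : IsPel p u) (c : G) : IsPel p (c * u * c⁻¹) := by
  obtain ⟨k, hk⟩ := h
  exact ⟨k, by rw [conj_pow, hk]; group⟩

theorem IsPel.mul {p : ℕ} {u v : G} (hu : IsPel p u) (hv : IsPel p v) (hc : Commute u v) :
    IsPel p (u * v) := by
  obtain ⟨k, hk⟩ := hu
  obtain ⟨l, hl⟩ := hv
  refine ⟨k + l, ?_⟩
  rw [hc.mul_pow, pow_add, pow_mul, hk, one_pow, one_mul, mul_comm (p ^ k), pow_mul, hl, one_pow]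

variable {p : ℕ} [hpF : Fact p.Prime]

/-- a nontrivial `p`-element has order divisible by `p` -/
theorem IsPel.dvd_orderOf {u : G} (hu : IsPel p u) (h1 : u ≠ 1) : p ∣ orderOf u := by
  obtain ⟨k, hk⟩ := hu
  obtain ⟨j, -, hj⟩ := (Nat.dvd_prime_pow hpF.out).mp (orderOf_dvd_of_pow_eq_one hk)
  rcases j with _ | j
  · rw [pow_zero] at hj
    exact absurd (orderOf_eq_one_iff.mp hj) h1
  · rw [hj, pow_succ]
    exact dvd_mul_left _ _

theorem isPel_of_mem_sylow (P : Sylow p G) {x : G} (hx : x ∈ (P : Subgroup G)) : IsPel p x := by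
  obtain ⟨k, hk⟩ := (IsPGroup.iff_orderOf.mp P.2) ⟨x, hx⟩
  refine ⟨k, ?_⟩
  have : orderOf x = p ^ k := by rw [← hk]; exact (Subgroup.orderOf_mk x hx).symm
  rw [← this]
  exact pow_orderOf_eq_one x

/-- a prime-power-order element for another prime is a `p'`-element -/
theorem isP'el_of_mem_sylow {t : ℕ} [Fact t.Prime] (htp : t ≠ p) (T : Sylow t G) {x : G}
    (hx : x ∈ (T : Subgroup G)) : IsP'el p x := by
  obtain ⟨k, hk⟩ := isPel_of_mem_sylow T hx
  refine ⟨t ^ k, ?_, hk⟩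
  exact Nat.Coprime.pow_left k ((Nat.coprime_primes Fact.out hpF.out).mpr htp)

/-- decomposition into `p`-part and `p'`-part -/
theorem pdecomp [Finite G] (g : G) :
    ∃ u y : G, g = u * y ∧ Commute u y ∧ IsPel p u ∧ IsP'el p y ∧
      Subgroup.centralizer ({g} : Set G) ≤ Subgroup.centralizer ({u} : Set G) ∧
      Subgroup.centralizer ({g} : Set G) ≤ Subgroup.centralizer ({y} : Set G) ∧
      (p ∣ orderOf g → u ≠ 1) := by
  have hp := hpF.out
  have hN : orderOf g ≠ 0 := (orderOf_pos g).ne'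
  obtain ⟨e, f, he, hf, hef⟩ := Cfsg.Agent.S4127.exists_exponents (orderOf g) p hp hN
  set k₀ := (orderOf g).factorization p with hk₀
  have hgef : g ^ e * g ^ f = g := by
    rw [← pow_add]
    have : g ^ (e + f) = g ^ 1 := pow_eq_pow_iff_modEq.mpr hef
    rw [this, pow_one]
  have hNdecomp : orderOf g / p ^ k₀ * p ^ k₀ = orderOf g :=
    Nat.div_mul_cancel (Nat.ordProj_dvd (orderOf g) p)
  have hgp : (g ^ e) ^ p ^ k₀ = 1 := by
    rw [← pow_mul]
    apply orderOf_dvd_iff_pow_eq_one.mp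
    rw [← hNdecomp]
    exact Nat.mul_dvd_mul_right he _
  have hgp' : (g ^ f) ^ (orderOf g / p ^ k₀) = 1 := by
    rw [← pow_mul]
    apply orderOf_dvd_iff_pow_eq_one.mp
    have h1 : orderOf g / p ^ k₀ * p ^ k₀ ∣ orderOf g / p ^ k₀ * f := Nat.mul_dvd_mul_left _ hf
    rw [hNdecomp, mul_comm] at h1
    exact h1
  have hcopN : (orderOf g / p ^ k₀).Coprime p := (Nat.coprime_ordCompl hp hN).symm
  have hle : ∀ j : ℕ, Subgroup.centralizer ({g} : Set G) ≤ Subgroup.centralizer ({g ^ j} : Set G) := by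
    intro j z hz
    rw [mem_centralizer_singleton] at hz ⊢
    have hz' : Commute g z := hz
    exact (hz'.pow_left j).eq
  refine ⟨g ^ e, g ^ f, hgef.symm, (Commute.refl g).pow_pow e f, ⟨k₀, hgp⟩,
    ⟨_, hcopN, hgp'⟩, hle e, hle f, ?_⟩
  intro hpg hu1
  rw [hu1, one_mul] at hgef
  have h1 : g ^ (orderOf g / p ^ k₀) = 1 := by
    have h0 := hgp'
    rw [hgef] at h0
    exact h0
  have h2 : orderOf g ∣ orderOf g / p ^ k₀ := orderOf_dvd_of_pow_eq_one h1
  have h3 : p ∣ orderOf g / p ^ k₀ := hpg.trans h2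
  exact (Nat.Prime.coprime_iff_not_dvd hp).mp hcopN.symm h3

/-- a commuting product of a nontrivial `p`-element and a `p'`-element is `p`-singular -/
theorem singular_mul {u y : G} (hu : IsPel p u) (hu1 : u ≠ 1) (hy : IsP'el p y)
    (hc : Commute u y) : p ∣ orderOf (u * y) := by
  by_contra hnd
  obtain ⟨k, hk⟩ := hu
  obtain ⟨n, hn, hyn⟩ := hy
  set m := orderOf (u * y) with hm
  have hmp : m.Coprime p := ((Nat.Prime.coprime_iff_not_dvd hpF.out).mpr hnd).symm
  have h1 : (u * y) ^ (m * n) = 1 := by rw [pow_mul, hm, pow_orderOf_eq_one, one_pow]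
  rw [hc.mul_pow, mul_comm m n, pow_mul y, hyn, one_pow, mul_one] at h1
  have hcop : (n * m).Coprime (p ^ k) := (Nat.Coprime.mul_left hn hmp).pow_right k
  exact hu1 (eq_one_of_pow hcop h1 hk)

omit hpF in
/-- class sizes of the two parts divide the class size of a commuting product -/
theorem cs_dvd_mul [Finite G] {u y : G} (hu : IsPel p u) (hy : IsP'el p y) (hc : Commute u y) :
    cs u ∣ cs (u * y) ∧ cs y ∣ cs (u * y) ∧
      Subgroup.centralizer ({u * y} : Set G) ≤ Subgroup.centralizer ({y} : Set G) := by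
  obtain ⟨k, hk⟩ := hu
  obtain ⟨n, hn, hyn⟩ := hy
  have hle := centralizer_mul_le (x := u) (y := y) (hn.symm.pow_left k) hk
    (by rw [hyn]; exact Subgroup.one_mem _) hc
  exact ⟨Subgroup.index_dvd_of_le (hle.trans inf_le_left),
    Subgroup.index_dvd_of_le (hle.trans inf_le_right), hle.trans inf_le_right⟩

/-- if `p` does not divide `|Z(G)|`, a central `p`-element is trivial -/
theorem IsPel.eq_one_of_mem_center [Finite G] (hZ : ¬ p ∣ Nat.card ↥(Subgroup.center G)) {u : G}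
    (hu : IsPel p u) (hc : u ∈ Subgroup.center G) : u = 1 := by
  by_contra h1
  have h2 := hu.dvd_orderOf h1
  exact hZ (h2.trans (Subgroup.orderOf_dvd_natCard _ hc))

theorem IsPel.cs_ne_one [Finite G] (hZ : ¬ p ∣ Nat.card ↥(Subgroup.center G)) {u : G}
    (hu : IsPel p u) (h1 : u ≠ 1) : cs u ≠ 1 := by
  intro h
  exact h1 (hu.eq_one_of_mem_center hZ ((index_centralizer_eq_one_iff u).mp h))

/-- a `p`-element can be conjugated into any Sylow `p`-subgroup -/
theorem IsPel.exists_conj_mem [Finite G] {u : G} (hu : IsPel p u) (P : Sylow p G) :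
    ∃ c : G, c * u * c⁻¹ ∈ (P : Subgroup G) := by
  obtain ⟨n, hn⟩ := hu
  have hZ : IsPGroup p (Subgroup.zpowers u) := by
    obtain ⟨k, -, hk⟩ := (Nat.dvd_prime_pow hpF.out).mp (orderOf_dvd_of_pow_eq_one hn)
    exact IsPGroup.of_card (n := k) (by rw [Nat.card_zpowers, hk])
  obtain ⟨Q, hQ⟩ := hZ.exists_le_sylow
  obtain ⟨c, hc⟩ := MulAction.exists_smul_eq G Q P
  refine ⟨c, ?_⟩
  rw [← hc, Sylow.coe_subgroup_smul]
  have := Subgroup.smul_mem_pointwise_smul u (MulAut.conj c) (Q : Subgroup G)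
    (hQ (Subgroup.mem_zpowers u))
  rwa [MulAut.smul_def, MulAut.conj_apply] at this

/-- if `|[a,G]|` divides `M` and `|a^G|` is coprime to `M` then `a^M` is central -/
theorem pow_mem_center_of_card_Wsub_dvd [Finite G] (a : G) (M : ℕ)
    (hdvd : Nat.card (Wsub a) ∣ M) (hcop : (cs a).Coprime M) : a ^ M ∈ Subgroup.center G := by
  have hle : Wsub a ≤ Subgroup.centralizer ({a} : Set G) := by
    apply le_of_normal_coprime_index
    exact Nat.Coprime.coprime_dvd_left hdvd hcop.symm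
  rw [Subgroup.mem_center_iff]
  intro g
  set w := a⁻¹ * (g * a * g⁻¹) with hw
  have hwW : w ∈ Wsub a := inv_mul_conj_mem_Wsub a g
  have hwa : Commute a w := by
    have := hle hwW
    rw [mem_centralizer_singleton] at this
    exact this
  have hwm : w ^ M = 1 := by
    have h1 : orderOf w ∣ Nat.card (Wsub a) := Subgroup.orderOf_dvd_natCard _ hwW
    exact orderOf_dvd_iff_pow_eq_one.mp (h1.trans hdvd)
  have h1 : g * a * g⁻¹ = a * w := by rw [hw]; group
  have h2 : g * a ^ M * g⁻¹ = a ^ M := by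
    rw [← conj_pow, h1, hwa.mul_pow, hwm, mul_one]
  calc g * a ^ M = (g * a ^ M * g⁻¹) * g := by group
    _ = a ^ M * g := by rw [h2]

theorem IsPel.pow {q : ℕ} {u : G} (hu : IsPel q u) (n : ℕ) : IsPel q (u ^ n) := by
  obtain ⟨k, hk⟩ := hu
  exact ⟨k, by rw [← pow_mul, mul_comm, pow_mul, hk, one_pow]⟩

/-- if `u^M` is central for a `p`-element `u ≠ 1` (and `p ∤ |Z(G)|`) then `p ∣ M` -/
theorem IsPel.dvd_of_pow_mem_center [Finite G] (hZ : ¬ p ∣ Nat.card ↥(Subgroup.center G)) {u : G}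
    (hu : IsPel p u) (hu1 : u ≠ 1) {M : ℕ} (hM : u ^ M ∈ Subgroup.center G) : p ∣ M := by
  by_contra hnd
  have h1 : u ^ M = 1 := (hu.pow M).eq_one_of_mem_center hZ hM
  obtain ⟨k, hk⟩ := hu
  have hcop : M.Coprime (p ^ k) :=
    (((Nat.Prime.coprime_iff_not_dvd hpF.out).mpr hnd).symm).pow_right k
  exact hu1 (eq_one_of_pow hcop h1 hk)

/-- two `p`-elements with coprime class sizes, the second of `p'` class size -/
theorem pair [Finite G] (hZ : ¬ p ∣ Nat.card ↥(Subgroup.center G)) {u u' : G} (hu : IsPel p u)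
    (hu1 : u ≠ 1) (hu' : IsPel p u') (hu'1 : u' ≠ 1) (hcop : (cs u).Coprime (cs u'))
    (hp' : ¬ p ∣ cs u') :
    (∃ x : G, p ∣ orderOf x ∧ ∃ t t' : ℕ, t.Prime ∧ t'.Prime ∧ t ∣ cs u ∧ t' ∣ cs u' ∧
      t ∣ cs x ∧ t' ∣ cs x) ∨ p ∣ cs u := by
  obtain ⟨P, hP, -⟩ := Cfsg.Agent.S4127.exists_sylow_mem_le_centralizer p u' 1 hp'
    (Subgroup.one_mem _) ⟨0, by simp⟩
  obtain ⟨c, hc⟩ := hu.exists_conj_mem P
  set u₁ := c * u * c⁻¹ with hu₁
  have hu₁p : IsPel p u₁ := hu.conj c
  have hu₁1 : u₁ ≠ 1 := by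
    intro h
    apply hu1
    have : u = c⁻¹ * u₁ * c := by rw [hu₁]; group
    rw [this, h]; group
  have hcs : cs u₁ = cs u := index_centralizer_conj u c
  have hcomm : Commute u₁ u' := by
    have := hP hc
    rw [mem_centralizer_singleton] at this
    exact this.symm
  rw [← hcs] at hcop ⊢
  have hx1 : u₁ * u' ≠ 1 := by
    intro h
    have h1 : u' = u₁⁻¹ := by
      have : u' = u₁⁻¹ * (u₁ * u') := by group
      rw [this, h, mul_one]
    have h2 : cs u' = cs u₁ := by rw [h1, centralizer_inv]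
    rw [h2] at hcop
    exact hu₁p.cs_ne_one hZ hu₁1 ((Nat.coprime_self _).mp hcop)
  have hxp : IsPel p (u₁ * u') := hu₁p.mul hu' hcomm
  have hxs : p ∣ orderOf (u₁ * u') := hxp.dvd_orderOf hx1
  have hdvd := index_mul_dvd u₁ u' hcop
  have hle1 := index_le_index_mul_left u₁ u' hcop
  have hle2 := index_le_index_mul_right u₁ u' hcop
  have hn0 : cs (u₁ * u') ≠ 0 := index_centralizer_ne_zero _
  have h10 : cs u₁ ≠ 0 := index_centralizer_ne_zero _
  have h20 : cs u' ≠ 0 := index_centralizer_ne_zero _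
  by_cases h1 : ∃ t : ℕ, t.Prime ∧ t ∣ cs (u₁ * u') ∧ t ∣ cs u₁
  · by_cases h2 : ∃ t' : ℕ, t'.Prime ∧ t' ∣ cs (u₁ * u') ∧ t' ∣ cs u'
    · obtain ⟨t, ht, htn, htu⟩ := h1
      obtain ⟨t', ht', htn', htu'⟩ := h2
      exact Or.inl ⟨u₁ * u', hxs, t, t', ht, ht', htu, htu', htn, htn'⟩
    · right
      push Not at h2
      have hc2 : (cs (u₁ * u')).Coprime (cs u') := by
        apply Nat.coprime_of_dvd
        intro t ht h3 h4
        exact h2 t ht h3 h4
      have h3 : cs (u₁ * u') ∣ cs u₁ := hc2.dvd_of_dvd_mul_right hdvd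
      have h4 : cs (u₁ * u') = cs u₁ :=
        le_antisymm (Nat.le_of_dvd (Nat.pos_of_ne_zero h10) h3) hle1
      have h5 : cs (u' * u₁) = cs u₁ := by rw [← hcomm.eq]; exact h4
      have h6 := card_Wsub_dvd u' u₁ hcop.symm h5
      have h7 := pow_mem_center_of_card_Wsub_dvd u' (cs u₁) h6 hcop.symm
      exact hu'.dvd_of_pow_mem_center hZ hu'1 h7
  · exfalso
    push Not at h1
    have hc1 : (cs (u₁ * u')).Coprime (cs u₁) := by
      apply Nat.coprime_of_dvd
      intro t ht h3 h4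
      exact h1 t ht h3 h4
    have h3 : cs (u₁ * u') ∣ cs u' := hc1.dvd_of_dvd_mul_left hdvd
    have h4 : cs (u₁ * u') = cs u' :=
      le_antisymm (Nat.le_of_dvd (Nat.pos_of_ne_zero h20) h3) hle2
    have h6 := card_Wsub_dvd u₁ u' hcop h4
    have h7 := pow_mem_center_of_card_Wsub_dvd u₁ (cs u') h6 hcop
    exact hp' (hu₁p.dvd_of_pow_mem_center hZ hu₁1 h7)

/-- a nonabelian finite `p`-group has an element outside the centre which is central modulo the
centre -/
theorem exists_second_center {L : Type*} [Group L] [Finite L] (hL : IsPGroup p L)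
    (hnc : ∃ x y : L, x * y ≠ y * x) :
    ∃ v : L, v ∉ Subgroup.center L ∧ ∀ g : L, v⁻¹ * g⁻¹ * v * g ∈ Subgroup.center L := by
  obtain ⟨x, y, hxy⟩ := hnc
  have hx : x ∉ Subgroup.center L := by
    intro h
    exact hxy ((Subgroup.mem_center_iff.mp h y).symm)
  haveI : Nontrivial (L ⧸ Subgroup.center L) :=
    nontrivial_of_ne (QuotientGroup.mk x) 1 (by rwa [Ne, QuotientGroup.eq_one_iff])
  have hQ : IsPGroup p (L ⧸ Subgroup.center L) := hL.to_quotient _
  haveI := hQ.center_nontrivial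
  obtain ⟨⟨vb, hvbc⟩, hvb1⟩ := exists_ne (1 : Subgroup.center (L ⧸ Subgroup.center L))
  obtain ⟨v, rfl⟩ := QuotientGroup.mk_surjective vb
  refine ⟨v, ?_, ?_⟩
  · intro hv
    apply hvb1
    apply Subtype.ext
    exact (QuotientGroup.eq_one_iff v).mpr hv
  · intro g
    have h1 := Subgroup.mem_center_iff.mp hvbc (QuotientGroup.mk g)
    rw [← QuotientGroup.mk_mul, ← QuotientGroup.mk_mul, QuotientGroup.eq] at h1
    have : (g * v)⁻¹ * (v * g) = v⁻¹ * g⁻¹ * v * g := by group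
    rw [this] at h1
    exact h1

/-- The final contradiction: `p` cannot be an isolated vertex of the `p`-singular class size graph
when another prime divides some class size. -/
theorem isolated_false [Finite G] (hZ : ¬ p ∣ Nat.card ↥(Subgroup.center G))
    (a : G) (haX : p ∣ orderOf a) (hap : p ∣ cs a)
    (hiso : ∀ x : G, p ∣ orderOf x → p ∣ cs x → ∀ t : ℕ, t.Prime → t ∣ cs x → t = p)
    (s : ℕ) (hs : s.Prime) (hsp : s ≠ p) (g₀ : G) (hg₀ : s ∣ cs g₀) : False := by
  have hp := hpF.out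
  -- the `p`-part of `a`
  obtain ⟨u, y, -, -, hup, -, hCu, -, hu1⟩ := pdecomp (p := p) a
  have hu1 : u ≠ 1 := hu1 haX
  have huX : p ∣ orderOf u := hup.dvd_orderOf hu1
  have hua : cs u ∣ cs a := Subgroup.index_dvd_of_le hCu
  have hpu : p ∣ cs u := by
    obtain ⟨t, ht, htu⟩ := Nat.exists_prime_and_dvd (hup.cs_ne_one hZ hu1)
    have := hiso a haX hap t ht (htu.trans hua)
    rwa [this] at htu
  -- (H3')
  have hH3 : ∀ v w : G, IsPel p v → v ≠ 1 → ¬ p ∣ cs v → IsP'el p w → Commute v w →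
      w ∈ Subgroup.center G := by
    intro v w hv hv1 hpv hw hc
    have hxX := singular_mul hv hv1 hw hc
    obtain ⟨hd1, hd2, hle⟩ := cs_dvd_mul hv hw hc
    obtain ⟨t, ht, htv⟩ := Nat.exists_prime_and_dvd (hv.cs_ne_one hZ hv1)
    have htp : t ≠ p := by
      intro h
      rw [h] at htv
      exact hpv htv
    have hnp : ¬ p ∣ cs (v * w) := fun h => htp (hiso _ hxX h t ht (htv.trans hd1))
    obtain ⟨Px, hPx, -⟩ := Cfsg.Agent.S4127.exists_sylow_mem_le_centralizer p (v * w) 1 hnp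
      (Subgroup.one_mem _) ⟨0, by simp⟩
    obtain ⟨c, hc'⟩ := hup.exists_conj_mem Px
    set u₁ := c * u * c⁻¹ with hu₁
    have hu₁p : IsPel p u₁ := hup.conj c
    have hu₁1 : u₁ ≠ 1 := by
      intro h
      apply hu1
      have : u = c⁻¹ * u₁ * c := by rw [hu₁]; group
      rw [this, h]; group
    have hcomm : Commute u₁ w := by
      have := hle (hPx hc')
      rw [mem_centralizer_singleton] at this
      exact this.symm
    have hx'X := singular_mul hu₁p hu₁1 hw hcomm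
    obtain ⟨hd1', hd2', -⟩ := cs_dvd_mul hu₁p hw hcomm
    have hpu₁ : p ∣ cs u₁ := by rw [hu₁, index_centralizer_conj]; exact hpu
    by_contra hwc
    have hw1 : cs w ≠ 1 := fun h => hwc ((index_centralizer_eq_one_iff w).mp h)
    obtain ⟨t', ht', htw⟩ := Nat.exists_prime_and_dvd hw1
    have := hiso _ hx'X (hpu₁.trans hd1') t' ht' (htw.trans hd2')
    rw [this] at htw
    exact hnp (htw.trans hd2)
  -- `p`-elements of class size divisible by `p` lie in every Sylow `p`-subgroup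
  have hall : ∀ g : G, IsPel p g → p ∣ cs g → ∀ P : Sylow p G, g ∈ (P : Subgroup G) := by
    intro g hg hpg P
    have hg1 : g ≠ 1 := by
      intro h
      rw [h] at hpg
      have h1 : cs (1 : G) = 1 := (index_centralizer_eq_one_iff 1).mpr (Subgroup.one_mem _)
      rw [h1] at hpg
      exact hp.one_lt.ne' (Nat.dvd_one.mp hpg)
    have hgX := hg.dvd_orderOf hg1
    have hpow := Nat.eq_prime_pow_of_unique_prime_dvd (index_centralizer_ne_zero g)
      (fun {d} hd hdd => hiso g hgX hpg d hd hdd)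
    have hcop : (cs g).Coprime (P : Subgroup G).index := by
      rw [hpow]
      exact ((Nat.Prime.coprime_iff_not_dvd hp).mpr P.not_dvd_index).pow_left _
    obtain ⟨c, hc⟩ := hg.exists_conj_mem P
    obtain ⟨b, hb, a', ha', hcba⟩ := Cfsg.Agent.Helper9.exists_mul_of_coprime_index
      (Subgroup.centralizer ({g} : Set G)) (P : Subgroup G) hcop c
    rw [mem_centralizer_singleton] at ha'
    have h1 : c * g * c⁻¹ = b * g * b⁻¹ := by
      rw [hcba]
      have : a' * g * a'⁻¹ = g := by rw [← ha']; group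
      calc b * a' * g * (b * a')⁻¹ = b * (a' * g * a'⁻¹) * b⁻¹ := by group
        _ = _ := by rw [this]
    rw [h1] at hc
    have h2 : g = b⁻¹ * (b * g * b⁻¹) * b := by group
    rw [h2]
    exact mul_mem (mul_mem (inv_mem hb) hc) hb
  -- the Sylow `p`-subgroup is unique
  let P : Sylow p G := default
  have huP : u ∈ (P : Subgroup G) := hall u hup hpu P
  have hnc : ¬ ∀ y ∈ (P : Subgroup G), Commute y u := by
    intro h
    have hle : (P : Subgroup G) ≤ Subgroup.centralizer ({u} : Set G) := by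
      intro y hy
      rw [mem_centralizer_singleton]
      exact (h y hy).symm.eq
    exact P.not_dvd_index (hpu.trans (Subgroup.index_dvd_of_le hle))
  set Q : Subgroup G := Subgroup.closure {g : G | IsPel p g ∧ p ∣ cs g} with hQ
  have hQle : ∀ P' : Sylow p G, Q ≤ (P' : Subgroup G) := by
    intro P'
    rw [hQ, Subgroup.closure_le]
    intro g hg
    exact hall g hg.1 hg.2 P'
  have hPQ : (P : Subgroup G) ≤ Q := by
    by_contra hnle
    obtain ⟨x₀, hx₀P, hx₀Q⟩ := SetLike.not_le_iff_exists.mp hnle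
    have hkey : ∀ y ∈ (P : Subgroup G), y ∉ Q → Commute y u := by
      intro y hyP hyQ
      have hyp : IsPel p y := isPel_of_mem_sylow P hyP
      have hnp : ¬ p ∣ cs y := fun h => hyQ (Subgroup.subset_closure ⟨hyp, h⟩)
      obtain ⟨Py, hPy, -⟩ := Cfsg.Agent.S4127.exists_sylow_mem_le_centralizer p y 1 hnp
        (Subgroup.one_mem _) ⟨0, by simp⟩
      have := hPy (hall u hup hpu Py)
      rw [mem_centralizer_singleton] at this
      exact this
    apply hnc
    intro y hyP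
    by_cases hyQ : y ∈ Q
    · have h1 : y * x₀ ∉ Q := by
        intro h
        apply hx₀Q
        have : x₀ = y⁻¹ * (y * x₀) := by group
        rw [this]
        exact mul_mem (inv_mem hyQ) h
      have h2 := hkey (y * x₀) (mul_mem hyP hx₀P) h1
      have h3 := hkey x₀ hx₀P hx₀Q
      have : y = (y * x₀) * x₀⁻¹ := by group
      rw [this]
      exact h2.mul_left h3.inv_left
    · exact hkey y hyP hyQ
  have hU1 : ∀ v ∈ (P : Subgroup G), ¬ p ∣ cs v → ∀ y ∈ (P : Subgroup G), Commute v y := by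
    intro v _ hnp y hy
    obtain ⟨Pv, hPv, -⟩ := Cfsg.Agent.S4127.exists_sylow_mem_le_centralizer p v 1 hnp
      (Subgroup.one_mem _) ⟨0, by simp⟩
    have := hPv ((hQle Pv) (hPQ hy))
    rw [mem_centralizer_singleton] at this
    exact this
  -- an element of the second centre of `P`
  have hncP : ∃ x y : ↥(P : Subgroup G), x * y ≠ y * x := by
    by_contra hcon
    push Not at hcon
    apply hnc
    intro y hy
    have := hcon ⟨y, hy⟩ ⟨u, huP⟩
    exact congrArg Subtype.val this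
  obtain ⟨v, hvc, hvall⟩ := exists_second_center (p := p) P.2 hncP
  have hvg : ∃ g : ↥(P : Subgroup G), g * v ≠ v * g := by
    by_contra hcon
    push Not at hcon
    exact hvc (Subgroup.mem_center_iff.mpr hcon)
  obtain ⟨g, hgv⟩ := hvg
  -- everything in `G`
  have hcen : ∀ y ∈ (P : Subgroup G), ∀ h ∈ (P : Subgroup G),
      Commute ((v : G)⁻¹ * y⁻¹ * (v : G) * y) h := by
    intro y hy h hh
    have h1 := Subgroup.mem_center_iff.mp (hvall ⟨y, hy⟩) ⟨h, hh⟩
    have h2 := congrArg Subtype.val h1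
    simp only [Subgroup.coe_mul, Subgroup.coe_inv] at h2
    exact h2.symm
  set V : G := (v : G) with hV
  set Gg : G := (g : G) with hGg
  have hVP : V ∈ (P : Subgroup G) := v.2
  have hGP : Gg ∈ (P : Subgroup G) := g.2
  have hVG : ¬ Commute V Gg := by
    intro h
    apply hgv
    apply Subtype.ext
    simp only [Subgroup.coe_mul]
    exact h.symm.eq
  set a₁ : G := V⁻¹ * Gg⁻¹ * V * Gg with ha₁
  have ha₁P : a₁ ∈ (P : Subgroup G) :=
    mul_mem (mul_mem (mul_mem (inv_mem hVP) (inv_mem hGP)) hVP) hGP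
  have ha₁1 : a₁ ≠ 1 := by
    intro h
    apply hVG
    have h1 : V * Gg = Gg * V * a₁ := by rw [ha₁]; group
    rw [h, mul_one] at h1
    exact h1
  have ha₁cs : ¬ p ∣ cs a₁ := by
    intro h
    have hle : (P : Subgroup G) ≤ Subgroup.centralizer ({a₁} : Set G) := by
      intro y hy
      rw [mem_centralizer_singleton]
      exact (hcen Gg hGP y hy).eq
    exact P.not_dvd_index (h.trans (Subgroup.index_dvd_of_le hle))
  have hpG : p ∣ cs Gg := by
    by_contra h
    exact hVG (hU1 Gg hGP h V hVP).symm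
  have hpV : p ∣ cs V := by
    by_contra h
    exact hVG (hU1 V hVP h Gg hGP)
  have hGp : IsPel p Gg := isPel_of_mem_sylow P hGP
  have hVp : IsPel p V := isPel_of_mem_sylow P hVP
  have hG1 : Gg ≠ 1 := by
    intro h
    apply hVG
    rw [h]
    exact Commute.one_right V
  have hV1 : V ≠ 1 := by
    intro h
    apply hVG
    rw [h]
    exact Commute.one_left Gg
  haveI : Fact s.Prime := ⟨hs⟩
  have hsG : ¬ s ∣ cs Gg := fun h => hsp (hiso Gg (hGp.dvd_orderOf hG1) hpG s hs h)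
  obtain ⟨T, hT, -⟩ := Cfsg.Agent.S4127.exists_sylow_mem_le_centralizer s Gg 1 hsG
    (Subgroup.one_mem _) ⟨0, by simp⟩
  -- conjugates of `V` are `P`-conjugates
  have hVconj : ∀ c : G, ∃ y ∈ (P : Subgroup G), c * V * c⁻¹ = y * V * y⁻¹ := by
    intro c
    have hpow := Nat.eq_prime_pow_of_unique_prime_dvd (index_centralizer_ne_zero V)
      (fun {d} hd hdd => hiso V (hVp.dvd_orderOf hV1) hpV d hd hdd)
    have hcop : (cs V).Coprime (P : Subgroup G).index := by
      rw [hpow]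
      exact ((Nat.Prime.coprime_iff_not_dvd hp).mpr P.not_dvd_index).pow_left _
    obtain ⟨b, hb, a', ha', hcba⟩ := Cfsg.Agent.Helper9.exists_mul_of_coprime_index
      (Subgroup.centralizer ({V} : Set G)) (P : Subgroup G) hcop c
    rw [mem_centralizer_singleton] at ha'
    refine ⟨b, hb, ?_⟩
    rw [hcba]
    have : a' * V * a'⁻¹ = V := by rw [← ha']; group
    calc b * a' * V * (b * a')⁻¹ = b * (a' * V * a'⁻¹) * b⁻¹ := by group
      _ = _ := by rw [this]
  have hTc : (T : Subgroup G) ≤ Subgroup.center G := by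
    intro τ hτ
    apply hH3 a₁ τ (isPel_of_mem_sylow P ha₁P) ha₁1 ha₁cs (isP'el_of_mem_sylow hsp T hτ)
    have hτG : τ * Gg * τ⁻¹ = Gg := by
      have := hT hτ
      rw [mem_centralizer_singleton] at this
      rw [← this]; group
    obtain ⟨y, hy, hτV⟩ := hVconj τ
    set z : G := V⁻¹ * y * V * y⁻¹ with hz
    have hzc : ∀ h ∈ (P : Subgroup G), Commute z h := by
      intro h hh
      have := hcen y⁻¹ (inv_mem hy) h hh
      rw [inv_inv] at this
      exact this
    have hτV' : τ * V * τ⁻¹ = V * z := by rw [hτV, hz]; group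
    have hzG : Commute z Gg := hzc Gg hGP
    have hza : Commute z a₁ := hzc a₁ ha₁P
    have e1 : τ * a₁ * τ⁻¹ = (τ * V * τ⁻¹)⁻¹ * (τ * Gg * τ⁻¹)⁻¹ * (τ * V * τ⁻¹) * (τ * Gg * τ⁻¹) := by
      rw [ha₁]; group
    rw [hτV', hτG] at e1
    have e2 : (V * z)⁻¹ * Gg⁻¹ * (V * z) * Gg = z⁻¹ * (V⁻¹ * Gg⁻¹ * V) * (z * Gg) := by group
    have e3 : z⁻¹ * (V⁻¹ * Gg⁻¹ * V) * (Gg * z) = z⁻¹ * (a₁ * z) := by rw [ha₁]; group
    rw [e2, hzG.eq, e3, ← hza.eq] at e1
    have e4 : τ * a₁ * τ⁻¹ = a₁ := by rw [e1]; group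
    show a₁ * τ = τ * a₁
    calc a₁ * τ = (τ * a₁ * τ⁻¹) * τ := by rw [e4]
      _ = τ * a₁ := by group
  have hle : (T : Subgroup G) ≤ Subgroup.centralizer ({g₀} : Set G) := by
    intro τ hτ
    rw [mem_centralizer_singleton]
    exact (Subgroup.mem_center_iff.mp (hTc hτ) g₀)
  exact T.not_dvd_index (hg₀.trans (Subgroup.index_dvd_of_le hle))

/-- `a` and `b` divide the class size of a common `p`-singular element -/
def E (G : Type*) [Group G] (p a b : ℕ) : Prop :=
  ∃ x : G, p ∣ orderOf x ∧ a ∣ cs x ∧ b ∣ cs x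

omit hpF in
theorem E.symm {a b : ℕ} (h : E G p a b) : E G p b a := by
  obtain ⟨x, hx, ha, hb⟩ := h
  exact ⟨x, hx, hb, ha⟩

/-- if `r` and `s` are far apart then `p` is close to one of them -/
theorem step1 [Finite G] (hZ : ¬ p ∣ Nat.card ↥(Subgroup.center G)) (r s : ℕ)
    (hfar : ∀ t u : ℕ, t.Prime → u.Prime → E G p r t → E G p t u → E G p u s → False)
    (hrv : E G p r r) (hsv : E G p s s) : E G p r p ∨ E G p p s := by
  have hp := hpF.out
  obtain ⟨a, haX, hra, -⟩ := hrv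
  obtain ⟨b, hbX, hsb, -⟩ := hsv
  obtain ⟨u, y, -, -, hup, -, hCu, -, hu1⟩ := pdecomp (p := p) a
  have hu1 := hu1 haX
  have hua : cs u ∣ cs a := Subgroup.index_dvd_of_le hCu
  obtain ⟨u', y', -, -, hu'p, -, hCu', -, hu'1⟩ := pdecomp (p := p) b
  have hu'1 := hu'1 hbX
  have hub : cs u' ∣ cs b := Subgroup.index_dvd_of_le hCu'
  have hcop : (cs u).Coprime (cs u') := by
    apply Nat.coprime_of_dvd
    intro t ht h1 h2
    exact hfar t t ht ht ⟨a, haX, hra, h1.trans hua⟩ ⟨a, haX, h1.trans hua, h1.trans hua⟩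
      ⟨b, hbX, h2.trans hub, hsb⟩
  by_cases hpu' : p ∣ cs u'
  · have hpu : ¬ p ∣ cs u := by
      intro h
      exact (Nat.Prime.coprime_iff_not_dvd hp).mp
        (Nat.Coprime.coprime_dvd_right hpu' (Nat.Coprime.coprime_dvd_left h hcop) |>.symm.symm)
        (dvd_refl p)
    rcases pair hZ hu'p hu'1 hup hu1 hcop.symm hpu with ⟨x, hxX, t, t', ht, ht', htu', ht'u, htx, ht'x⟩ | h
    · exfalso
      exact hfar t' t ht' ht ⟨a, haX, hra, ht'u.trans hua⟩ ⟨x, hxX, ht'x, htx⟩
        ⟨b, hbX, htu'.trans hub, hsb⟩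
    · exact Or.inr ⟨b, hbX, h.trans hub, hsb⟩
  · rcases pair hZ hup hu1 hu'p hu'1 hcop hpu' with ⟨x, hxX, t, t', ht, ht', htu, ht'u', htx, ht'x⟩ | h
    · exfalso
      exact hfar t t' ht ht' ⟨a, haX, hra, htu.trans hua⟩ ⟨x, hxX, htx, ht'x⟩
        ⟨b, hbX, ht'u'.trans hub, hsb⟩
    · exact Or.inl ⟨a, haX, hra, h.trans hua⟩

/-- the asymmetric main step: `r` and `s` far apart with `p` close to `r` is impossible -/
theorem far_false [Finite G] (hZ : ¬ p ∣ Nat.card ↥(Subgroup.center G)) (r s : ℕ)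
    (hr : r.Prime) (hs : s.Prime) (hrs : r ≠ s)
    (hfar : ∀ t u : ℕ, t.Prime → u.Prime → E G p r t → E G p t u → E G p u s → False)
    (hrp : E G p r p) (hsv : E G p s s) : False := by
  have hp := hpF.out
  obtain ⟨a, haX, hra, hpa⟩ := hrp
  obtain ⟨b₀, hb₀X, hsb₀, -⟩ := hsv
  obtain ⟨u, y, -, -, hup, -, hCu, -, hu1⟩ := pdecomp (p := p) a
  have hu1 := hu1 haX
  have hua : cs u ∣ cs a := Subgroup.index_dvd_of_le hCu
  obtain ⟨t₀, ht₀, ht₀u⟩ := Nat.exists_prime_and_dvd (hup.cs_ne_one hZ hu1)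
  have hErt₀ : E G p r t₀ := ⟨a, haX, hra, ht₀u.trans hua⟩
  have hErp : E G p r p := ⟨a, haX, hra, hpa⟩
  have hEpp : E G p p p := ⟨a, haX, hpa, hpa⟩
  -- Lemma B
  have hB : ∀ u' w : G, IsPel p u' → u' ≠ 1 → IsP'el p w → Commute u' w → s ∣ cs (u' * w) →
      w ∈ Subgroup.center G := by
    intro u' w hu' hu'1 hw hc hsb
    have hbX := singular_mul hu' hu'1 hw hc
    obtain ⟨hd1, hd2, hle⟩ := cs_dvd_mul hu' hw hc
    have hnp : ¬ p ∣ cs (u' * w) := fun h => hfar p p hp hp hErp hEpp ⟨u' * w, hbX, h, hsb⟩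
    obtain ⟨Pb, hPb, -⟩ := Cfsg.Agent.S4127.exists_sylow_mem_le_centralizer p (u' * w) 1 hnp
      (Subgroup.one_mem _) ⟨0, by simp⟩
    obtain ⟨c, hc'⟩ := hup.exists_conj_mem Pb
    set u₁ := c * u * c⁻¹ with hu₁
    have hu₁p : IsPel p u₁ := hup.conj c
    have hu₁1 : u₁ ≠ 1 := by
      intro h
      apply hu1
      have : u = c⁻¹ * u₁ * c := by rw [hu₁]; group
      rw [this, h]; group
    have hcomm : Commute u₁ w := by
      have := hle (hPb hc')
      rw [mem_centralizer_singleton] at this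
      exact this.symm
    have hx'X := singular_mul hu₁p hu₁1 hw hcomm
    obtain ⟨hd1', hd2', -⟩ := cs_dvd_mul hu₁p hw hcomm
    have ht₀u₁ : t₀ ∣ cs u₁ := by rw [hu₁, index_centralizer_conj]; exact ht₀u
    by_contra hwc
    have hw1 : cs w ≠ 1 := fun h => hwc ((index_centralizer_eq_one_iff w).mp h)
    obtain ⟨t', ht', htw⟩ := Nat.exists_prime_and_dvd hw1
    exact hfar t₀ t' ht₀ ht' hErt₀ ⟨u₁ * w, hx'X, ht₀u₁.trans hd1', htw.trans hd2'⟩
      ⟨u' * w, hbX, htw.trans hd2, hsb⟩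
  obtain ⟨u', y', hb₀eq, hcuy', hu'p, hy'p, -, -, hu'1⟩ := pdecomp (p := p) b₀
  have hu'1 := hu'1 hb₀X
  have hy'c : y' ∈ Subgroup.center G :=
    hB u' y' hu'p hu'1 hy'p hcuy' (by rw [← hb₀eq]; exact hsb₀)
  have hsu' : s ∣ cs u' := by
    have : cs b₀ = cs u' := by rw [hb₀eq, centralizer_mul_center hy'c]
    rwa [this] at hsb₀
  have hu'X : p ∣ orderOf u' := hu'p.dvd_orderOf hu'1
  have hC : ∀ w : G, IsP'el p w → Commute u' w → w ∈ Subgroup.center G := fun w hw hc =>
    hB u' w hu'p hu'1 hw hc (hsu'.trans (cs_dvd_mul hu'p hw hc).1)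
  have hV : ∀ t : ℕ, t.Prime → t ≠ p → (∃ g : G, t ∣ cs g) → t ∣ cs u' := by
    rintro t ht htp ⟨g, hg⟩
    by_contra hnd
    haveI : Fact t.Prime := ⟨ht⟩
    obtain ⟨T, hT, -⟩ := Cfsg.Agent.S4127.exists_sylow_mem_le_centralizer t u' 1 hnd
      (Subgroup.one_mem _) ⟨0, by simp⟩
    have hTc : (T : Subgroup G) ≤ Subgroup.center G := by
      intro τ hτ
      apply hC τ (isP'el_of_mem_sylow htp T hτ)
      have := hT hτ
      rw [mem_centralizer_singleton] at this
      exact this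
    have hle : (T : Subgroup G) ≤ Subgroup.centralizer ({g} : Set G) := by
      intro τ hτ
      rw [mem_centralizer_singleton]
      exact (Subgroup.mem_center_iff.mp (hTc hτ) g)
    exact T.not_dvd_index (hg.trans (Subgroup.index_dvd_of_le hle))
  have hrp' : r = p := by
    by_contra hne
    have h1 := hV r hr hne ⟨a, hra⟩
    exact hfar r s hr hs ⟨a, haX, hra, hra⟩ ⟨u', hu'X, h1, hsu'⟩ ⟨b₀, hb₀X, hsb₀, hsb₀⟩
  have hiso : ∀ x : G, p ∣ orderOf x → p ∣ cs x → ∀ t : ℕ, t.Prime → t ∣ cs x → t = p := by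
    intro x hxX hpx t ht htx
    by_contra htp
    have h1 := hV t ht htp ⟨x, htx⟩
    exact hfar p t hp ht hErp ⟨x, hxX, hpx, htx⟩ ⟨u', hu'X, h1, hsu'⟩
  exact isolated_false hZ a haX hpa hiso s hs (by rw [← hrp']; exact hrs.symm) b₀ hsb₀

end Cfsg.Agent.Helper55.PSingular
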