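import Mathlib
import Cfsg.Agent.Lib.Helper55.ClassSys

set_option autoImplicit false

/-! Finite groups whose two largest conjugacy class sizes are coprime. -/

namespace Cfsg.Agent.Helper55.TwoClass

open Subgroup Cfsg.Agent.Helper55.ClassProd Cfsg.Agent.Helper55.ClassGraph
  Cfsg.Agent.Helper55.ClassSys

variable {G : Type*} [Group G]

local notation "cs" g:max => Subgroup.index (Subgroup.centralizer (singleton g))

/-- commuting elements with coprime powers central: the centralizer of the product is contained in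
both centralizers -/
theorem centralizer_mul_le' {x y : G} {i j : ℕ} (hcop : i.Coprime j)
    (hx : x ^ i ∈ Subgroup.center G) (hy : y ^ j ∈ Subgroup.center G) (hcomm : Commute x y) :
    Subgroup.centralizer ({x * y} : Set G) ≤
      Subgroup.centralizer ({x} : Set G) ⊓ Subgroup.centralizer ({y} : Set G) := by
  intro z hz
  rw [mem_centralizer_singleton] at hz
  have hz' : Commute z (x * y) := hz.symm
  have h0 : Commute z (x ^ i) := Subgroup.mem_center_iff.mp hx z
  have h1 : Commute z (y ^ i) := by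
    have h := hz'.pow_right i
    rw [hcomm.mul_pow] at h
    have h2 : y ^ i = (x ^ i)⁻¹ * (x ^ i * y ^ i) := by group
    rw [h2]
    exact h0.inv_right.mul_right h
  have h2 : Commute z (y ^ j) := Subgroup.mem_center_iff.mp hy z
  have h3 : Commute z y := commute_of_pow hcop h1 h2
  have h4 : Commute z x := by
    have : x = (x * y) * y⁻¹ := by group
    rw [this]
    exact hz'.mul_right h3.inv_right
  rw [Subgroup.mem_inf, mem_centralizer_singleton, mem_centralizer_singleton]
  exact ⟨h4.symm.eq, h3.symm.eq⟩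

/-- partial norm: `∏_{i<j} v^i k v^{-i}` -/
def normAux (v : G) : ℕ → G → G
  | 0, _ => 1
  | j + 1, k => normAux v j k * (v ^ j * k * (v ^ j)⁻¹)

theorem normAux_zero (v k : G) : normAux v 0 k = 1 := rfl

theorem normAux_succ (v : G) (j : ℕ) (k : G) :
    normAux v (j + 1) k = normAux v j k * (v ^ j * k * (v ^ j)⁻¹) := rfl

section norm

variable (K : Subgroup G) [hKn : K.Normal] (hK : ∀ a ∈ K, ∀ b ∈ K, a * b = b * a) (v : G)

include hKn in
theorem normAux_mem (j : ℕ) {k : G} (hk : k ∈ K) : normAux v j k ∈ K := by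
  induction j with
  | zero => rw [normAux_zero]; exact K.one_mem
  | succ j ih =>
    rw [normAux_succ]
    exact K.mul_mem ih (hKn.conj_mem k hk _)

include hKn hK in
theorem normAux_mul (j : ℕ) {k k' : G} (hk : k ∈ K) (hk' : k' ∈ K) :
    normAux v j (k * k') = normAux v j k * normAux v j k' := by
  induction j with
  | zero => simp [normAux_zero]
  | succ j ih =>
    rw [normAux_succ, normAux_succ, normAux_succ, ih]
    have hc : normAux v j k' * (v ^ j * k * (v ^ j)⁻¹) =
        (v ^ j * k * (v ^ j)⁻¹) * normAux v j k' :=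
      hK _ (normAux_mem K v j hk') _ (hKn.conj_mem k hk _)
    have e1 : v ^ j * (k * k') * (v ^ j)⁻¹ = (v ^ j * k * (v ^ j)⁻¹) * (v ^ j * k' * (v ^ j)⁻¹) := by
      group
    rw [e1]
    calc normAux v j k * normAux v j k' * (v ^ j * k * (v ^ j)⁻¹ * (v ^ j * k' * (v ^ j)⁻¹))
        = normAux v j k * (normAux v j k' * (v ^ j * k * (v ^ j)⁻¹)) * (v ^ j * k' * (v ^ j)⁻¹) := by
          simp only [mul_assoc]
      _ = normAux v j k * ((v ^ j * k * (v ^ j)⁻¹) * normAux v j k') * (v ^ j * k' * (v ^ j)⁻¹) := by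
          rw [hc]
      _ = _ := by simp only [mul_assoc]

theorem normAux_conj (j : ℕ) {d : G} (hd : d * v = v * d) (k : G) :
    normAux v j (d * k * d⁻¹) = d * normAux v j k * d⁻¹ := by
  induction j with
  | zero => simp [normAux_zero]
  | succ j ih =>
    rw [normAux_succ, normAux_succ, ih]
    have hc : Commute d (v ^ j) := Commute.pow_right hd j
    have e1 : v ^ j * (d * k * d⁻¹) * (v ^ j)⁻¹ = d * (v ^ j * k * (v ^ j)⁻¹) * d⁻¹ := by
      calc v ^ j * (d * k * d⁻¹) * (v ^ j)⁻¹ = (v ^ j * d) * k * (v ^ j * d)⁻¹ := by group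
        _ = (d * v ^ j) * k * (d * v ^ j)⁻¹ := by rw [hc.eq]
        _ = _ := by group
    rw [e1]
    group

theorem normAux_of_commute (j : ℕ) {k : G} (hk : k * v = v * k) : normAux v j k = k ^ j := by
  induction j with
  | zero => simp [normAux_zero]
  | succ j ih =>
    rw [normAux_succ, ih, pow_succ]
    have hc : Commute k (v ^ j) := Commute.pow_right hk j
    have : v ^ j * k * (v ^ j)⁻¹ = k := by
      rw [← hc.eq]; group
    rw [this]

include hKn hK in
theorem normAux_shift (j : ℕ) {k : G} (hk : k ∈ K) :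
    v * normAux v j k * v⁻¹ * k = normAux v j k * (v ^ j * k * (v ^ j)⁻¹) := by
  induction j with
  | zero => simp [normAux_zero]
  | succ j ih =>
    rw [normAux_succ]
    have e1 : v * (normAux v j k * (v ^ j * k * (v ^ j)⁻¹)) * v⁻¹ * k =
        (v * normAux v j k * v⁻¹) * ((v ^ (j + 1) * k * (v ^ (j + 1))⁻¹) * k) := by
      rw [pow_succ']; group
    have hc : (v ^ (j + 1) * k * (v ^ (j + 1))⁻¹) * k = k * (v ^ (j + 1) * k * (v ^ (j + 1))⁻¹) :=
      hK _ (hKn.conj_mem k hk _) _ hk
    rw [e1, hc, ← mul_assoc, ih]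

include hKn hK in
theorem normAux_fixed {s : ℕ} (hv : v ^ s = 1) {k : G} (hk : k ∈ K) :
    v * normAux v s k = normAux v s k * v := by
  have h := normAux_shift K hK v s hk
  rw [hv] at h
  simp only [one_mul, inv_one, mul_one] at h
  have h2 : v * normAux v s k * v⁻¹ = normAux v s k := mul_right_cancel h
  calc v * normAux v s k = (v * normAux v s k * v⁻¹) * v := by group
    _ = normAux v s k * v := by rw [h2]

end norm

/-- counting lemma: an "injective modulo `H`" map from `D` to a finite type missing a point -/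
theorem relIndex_lt_card (H D : Subgroup G) {α : Type*} [Finite α] (f : G → α) (pt : α)
    (hpt : ∀ d ∈ D, f d ≠ pt)
    (hinj : ∀ d ∈ D, ∀ d' ∈ D, f d = f d' → d⁻¹ * d' ∈ H) :
    H.relIndex D < Nat.card α := by
  classical
  have h1 : H.relIndex D = Nat.card (D ⧸ H.subgroupOf D) := rfl
  let F : (D ⧸ H.subgroupOf D) → {a : α // a ≠ pt} := fun q =>
    ⟨f ((Quotient.out q : D) : G), hpt _ (Quotient.out q : D).2⟩
  have hF : Function.Injective F := by
    intro q q' hqq
    have h2 : f ((Quotient.out q : D) : G) = f ((Quotient.out q' : D) : G) :=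
      congrArg Subtype.val hqq
    have h3 := hinj _ (Quotient.out q : D).2 _ (Quotient.out q' : D).2 h2
    have h4 : ((Quotient.out q : D) : D ⧸ H.subgroupOf D) = ((Quotient.out q' : D) : D ⧸ H.subgroupOf D) := by
      rw [QuotientGroup.eq, Subgroup.mem_subgroupOf]
      simpa using h3
    have h5 : ∀ r : D ⧸ H.subgroupOf D, ((Quotient.out r : D) : D ⧸ H.subgroupOf D) = r :=
      fun r => Quotient.out_eq r
    rw [h5, h5] at h4
    exact h4
  have h2 : Nat.card (D ⧸ H.subgroupOf D) ≤ Nat.card {a : α // a ≠ pt} :=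
    Nat.card_le_card_of_injective F hF
  have h3 : Nat.card {a : α // a ≠ pt} < Nat.card α := by
    have : Nat.card {a : α // a ≠ pt} = Nat.card α - 1 := by
      haveI := Fintype.ofFinite α
      rw [Nat.card_eq_fintype_card, Nat.card_eq_fintype_card]
      simp
    have hpos : 0 < Nat.card α := Nat.card_pos_iff.mpr ⟨⟨pt⟩, inferInstance⟩
    omega
  omega


section main

/-- the hypotheses: `m > n > 1` coprime are the two largest class sizes -/
structure Hyp (G : Type*) [Group G] (m n : ℕ) : Prop where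
  hmn : n < m
  hn : 1 < n
  hcop : m.Coprime n
  htop : ∀ z : G, cs z ≤ m
  hsecond : ∀ z : G, cs z < m → cs z ≤ n

variable [Finite G] {m n : ℕ}

/-- class size coprime to `m` -/
def TT (m : ℕ) (a : G) : Prop := (cs a).Coprime m

theorem sysT (h : Hyp G m n) {y : G} (hy : cs y = m) : Sys (TT (G := G) m) m where
  conj := by
    intro a c ha
    unfold TT at *
    rw [index_centralizer_conj]
    exact ha
  card_dvd := by
    intro a ha
    unfold TT at ha
    have hcop : (cs a).Coprime (cs y) := by rw [hy]; exact ha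
    have h1 := index_le_index_mul_right a y hcop
    have h2 := h.htop (a * y)
    have h3 : cs (a * y) = cs y := by omega
    have := card_Wsub_dvd a y hcop h3
    rwa [hy] at this
  cop := fun a ha => ha

omit [Finite G] in
theorem TT_of_eq_n (h : Hyp G m n) {a : G} (ha : cs a = n) : TT m a := by
  unfold TT
  rw [ha]
  exact h.hcop.symm

/-- a multiple of `n` among the class sizes is `n` -/
theorem eq_n_of_dvd (h : Hyp G m n) {g : G} (hg : n ∣ cs g) : cs g = n := by
  have h0 : cs g ≠ 0 := index_centralizer_ne_zero g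
  have h1 : n ≤ cs g := Nat.le_of_dvd (Nat.pos_of_ne_zero h0) hg
  by_cases h2 : cs g < m
  · have := h.hsecond g h2
    omega
  · have h3 := h.htop g
    have h4 : cs g = m := by omega
    rw [h4] at hg
    have h5 : n ∣ Nat.gcd m n := Nat.dvd_gcd hg dvd_rfl
    rw [h.hcop.gcd_eq_one] at h5
    have := Nat.le_of_dvd Nat.one_pos h5
    have := h.hn
    omega

/-- a multiple of `m` among the class sizes is `m` -/
theorem eq_m_of_dvd (h : Hyp G m n) {g : G} (hg : m ∣ cs g) : cs g = m := by
  have h0 : cs g ≠ 0 := index_centralizer_ne_zero g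
  have h1 : m ≤ cs g := Nat.le_of_dvd (Nat.pos_of_ne_zero h0) hg
  have h3 := h.htop g
  omega

/-- F2': an `m'`-element commuting with an element of class size `n` is central -/
theorem F2 (h : Hyp G m n) {y : G} (hy : cs y = m) {a v : G} {s : ℕ} (ha : cs a = n)
    (hv : v ^ s = 1) (hs : s.Coprime m) (hcomm : Commute v a) : v ∈ Subgroup.center G := by
  have hsys := sysT h hy
  have haT : TT m a := TT_of_eq_n h ha
  have hle := centralizer_mul_le hs hv (hsys.pow_mem_center haT) hcomm
  have h1 : cs a ∣ cs (v * a) := Subgroup.index_dvd_of_le (hle.trans inf_le_right)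
  have h2 : cs v ∣ cs (v * a) := Subgroup.index_dvd_of_le (hle.trans inf_le_left)
  rw [ha] at h1
  have h3 := eq_n_of_dvd h h1
  rw [h3] at h2
  have hvT : TT m v := by
    unfold TT
    exact Nat.Coprime.coprime_dvd_left h2 h.hcop.symm
  apply mem_center_of_pow hs
  · rw [hv]; exact Subgroup.one_mem _
  · exact hsys.pow_mem_center hvT

/-- class size coprime to `n` and smaller than `m` -/
def TT' (m n : ℕ) (a : G) : Prop := (cs a).Coprime n ∧ cs a < m

theorem sysT' (h : Hyp G m n) {x : G} (hx : cs x = n) : Sys (TT' (G := G) m n) n where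
  conj := by
    intro a c ha
    unfold TT' at *
    rw [index_centralizer_conj]
    exact ha
  card_dvd := by
    intro a ha
    obtain ⟨ha1, ha2⟩ := ha
    have hcop : (cs a).Coprime (cs x) := by rw [hx]; exact ha1
    have h1 := index_le_index_mul_right a x hcop
    have hdvd := index_mul_dvd a x hcop
    have h3 : cs (a * x) = cs x := by
      by_cases h4 : cs (a * x) < m
      · have := h.hsecond _ h4
        omega
      · have h5 := h.htop (a * x)
        have h6 : cs (a * x) = m := by omega
        rw [h6, hx] at hdvd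
        have h7 : m ∣ cs a := h.hcop.dvd_of_dvd_mul_right hdvd
        have h8 := Nat.le_of_dvd (Nat.pos_of_ne_zero (index_centralizer_ne_zero a)) h7
        omega
    have := card_Wsub_dvd a x hcop h3
    rwa [hx] at this
  cop := fun a ha => ha.1

/-- F4: class size coprime to `n` means central or class size `m` -/
theorem F4 (h : Hyp G m n) {x y : G} (hx : cs x = n) (hy : cs y = m) {g : G}
    (hg : (cs g).Coprime n) : g ∈ Subgroup.center G ∨ cs g = m := by
  by_cases hgm : cs g = m
  · exact Or.inr hgm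
  left
  have hlt : cs g < m := lt_of_le_of_ne (h.htop g) hgm
  have hsys := sysT h hy
  have hsys' := sysT' h hx
  have hgT : TT' m n g := ⟨hg, hlt⟩
  have hxT : TT m x := TT_of_eq_n h hx
  -- the commutator of `g` and `x` is trivial
  set w := g⁻¹ * (x * g * x⁻¹) with hw
  have hw1 : w ∈ Wsub g := inv_mul_conj_mem_Wsub g x
  have hw2 : w ∈ Wsub x := by
    have h1 : w = x * (x⁻¹ * (g⁻¹ * x * g⁻¹⁻¹)) * x⁻¹ := by rw [hw]; group
    rw [h1]
    exact (Wsub_normal x).conj_mem _ (inv_mul_conj_mem_Wsub x g⁻¹) x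
  have hw3 : w ^ n = 1 :=
    orderOf_dvd_iff_pow_eq_one.mp
      ((Subgroup.orderOf_dvd_natCard _ hw1).trans (hsys'.card_dvd g hgT))
  have hw4 : w ^ m = 1 :=
    orderOf_dvd_iff_pow_eq_one.mp
      ((Subgroup.orderOf_dvd_natCard _ hw2).trans (hsys.card_dvd x hxT))
  have hw5 : w = 1 := eq_one_of_pow h.hcop.symm hw3 hw4
  have hcomm : Commute g x := by
    have h1 : x * g * x⁻¹ = g := by
      have : x * g * x⁻¹ = g * w := by rw [hw]; group
      rw [this, hw5, mul_one]
    have h2 : x * g = g * x := by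
      calc x * g = (x * g * x⁻¹) * x := by group
        _ = g * x := by rw [h1]
    exact h2.symm
  have hle := centralizer_mul_le' h.hcop.symm (hsys'.pow_mem_center hgT)
    (hsys.pow_mem_center hxT) hcomm
  have h1 : cs x ∣ cs (g * x) := Subgroup.index_dvd_of_le (hle.trans inf_le_right)
  have h2 : cs g ∣ cs (g * x) := Subgroup.index_dvd_of_le (hle.trans inf_le_left)
  rw [hx] at h1
  rw [eq_n_of_dvd h h1] at h2
  have h3 : cs g = 1 := Nat.eq_one_of_dvd_coprimes hg dvd_rfl h2
  exact (index_centralizer_eq_one_iff g).mp h3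


/-- Lemma V: a noncentral `m'`-element has class size `m` -/
theorem V (h : Hyp G m n) {x y : G} (hx : cs x = n) (hy : cs y = m) {v : G} {s : ℕ}
    (hv : v ^ s = 1) (hs : s.Coprime m) (hvc : v ∉ Subgroup.center G) : cs v = m := by
  by_contra hvm
  have hvlt : cs v < m := lt_of_le_of_ne (h.htop v) hvm
  have hsys := sysT h hy
  set K := KK (TT (G := G) m) with hKdef
  haveI hKn : K.Normal := hsys.KK_normal
  have hKc : ∀ a ∈ K, ∀ b ∈ K, a * b = b * a := fun a ha b hb => hsys.KK_comm ha hb
  have hxT : TT m x := TT_of_eq_n h hx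
  have hxK : x ∈ K := mem_KK hxT
  -- `v` does not commute with `x`
  have hvx : ¬ Commute v x := fun hc => hvc (F2 h hy hx hv hs hc)
  -- the norm of `x`
  set a₁ := normAux v s x with ha₁
  have ha₁K : a₁ ∈ K := normAux_mem K v s hxK
  have ha₁v : Commute v a₁ := normAux_fixed K hKc v hv hxK
  set x' := v * a₁ with hx'
  have hle := centralizer_mul_le hs hv (hsys.KK_pow_mem_center ha₁K) ha₁v
  have hd1 : cs v ∣ cs x' := Subgroup.index_dvd_of_le (hle.trans inf_le_left)
  have hx'm : cs x' ≠ m := by
    intro hx'm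
    rw [hx'm] at hd1
    have hc : (cs v).Coprime n := Nat.Coprime.coprime_dvd_left hd1 h.hcop
    rcases F4 h hx hy hc with h1 | h1
    · exact hvc h1
    · exact hvm h1
  have hx'n : cs x' ≤ n := h.hsecond x' (lt_of_le_of_ne (h.htop x') hx'm)
  set D := Subgroup.centralizer ({x'} : Set G) with hD
  have hDv : ∀ d ∈ D, d * v = v * d := by
    intro d hd
    have := (Subgroup.mem_inf.mp (hle hd)).1
    rw [mem_centralizer_singleton] at this
    exact this.symm
  have hDa : ∀ d ∈ D, d * a₁ = a₁ * d := by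
    intro d hd
    have := (Subgroup.mem_inf.mp (hle hd)).2
    rw [mem_centralizer_singleton] at this
    exact this.symm
  set κ := (Subgroup.centralizer ({v} : Set G)).relIndex K with hκ
  have hκ1 : κ ∣ cs v := Cfsg.Agent.Helper79.relIndex_dvd_index_of_normal_right _ _
  have hκn : κ.Coprime n := by
    apply Nat.coprime_of_dvd
    intro r hr hrκ hrn
    haveI : Fact r.Prime := ⟨hr⟩
    obtain ⟨R⟩ : Nonempty (Sylow r K) := inferInstance
    have hrm : r.Coprime m := by
      rw [Nat.Prime.coprime_iff_not_dvd hr]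
      intro hrm
      have h5 : r ∣ Nat.gcd m n := Nat.dvd_gcd hrm hrn
      rw [h.hcop.gcd_eq_one] at h5
      exact hr.one_lt.ne' (Nat.dvd_one.mp h5)
    have hRle : (R : Subgroup K) ≤ (Subgroup.centralizer ({v} : Set G)).subgroupOf K := by
      intro w hw
      rw [Subgroup.mem_subgroupOf]
      obtain ⟨j, hj⟩ := (IsPGroup.iff_orderOf.mp R.2) ⟨w, hw⟩
      have hwj : (w : G) ^ r ^ j = 1 := by
        have h1 : orderOf w = r ^ j := by
          rw [← hj]; exact (Subgroup.orderOf_mk w hw).symm
        have h2 : orderOf (w : G) = r ^ j := by rw [Subgroup.orderOf_coe, h1]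
        rw [← h2]
        exact pow_orderOf_eq_one _
      have hwc : (w : G) ∈ Subgroup.center G := by
        apply mem_center_of_pow (hrm.pow_left j)
        · rw [hwj]; exact Subgroup.one_mem _
        · exact hsys.KK_pow_mem_center w.2
      rw [mem_centralizer_singleton]
      exact (Subgroup.mem_center_iff.mp hwc v)
    have h1 : κ ∣ (R : Subgroup K).index := Subgroup.index_dvd_of_le hRle
    exact R.not_dvd_index (hrκ.trans h1)
  -- the counting
  have hcount : (Subgroup.centralizer ({x} : Set G)).relIndex D < κ := by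
    apply relIndex_lt_card (Subgroup.centralizer ({x} : Set G)) D
      (fun d => ((⟨d * x * d⁻¹, hKn.conj_mem x hxK d⟩ : K) :
        K ⧸ (Subgroup.centralizer ({v} : Set G)).subgroupOf K)) ((1 : K) :
        K ⧸ (Subgroup.centralizer ({v} : Set G)).subgroupOf K)
    · intro d hd hcon
      rw [QuotientGroup.eq, Subgroup.mem_subgroupOf] at hcon
      have h1 : (d * x * d⁻¹)⁻¹ ∈ Subgroup.centralizer ({v} : Set G) := by
        simpa using hcon
      have h2 : d * x * d⁻¹ ∈ Subgroup.centralizer ({v} : Set G) := by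
        have := Subgroup.inv_mem _ h1
        simpa using this
      rw [mem_centralizer_singleton] at h2
      apply hvx
      have hc1 : Commute d v := hDv d hd
      have hc2 : Commute (d * x * d⁻¹) v := h2.symm
      have hx3 : x = d⁻¹ * (d * x * d⁻¹) * d := by group
      have hc3 : Commute x v := by
        rw [hx3]
        exact (hc1.inv_left.mul_left hc2).mul_left hc1
      exact hc3.symm
    · intro d hd d' hd' hff
      rw [QuotientGroup.eq, Subgroup.mem_subgroupOf] at hff
      set e := d⁻¹ * d' with he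
      have heD : e ∈ D := D.mul_mem (D.inv_mem hd) hd'
      set d₀ := x⁻¹ * (e * x * e⁻¹) with hd₀
      have h1 : d * d₀ * d⁻¹ ∈ Subgroup.centralizer ({v} : Set G) := by
        have : d * d₀ * d⁻¹ = (d * x * d⁻¹)⁻¹ * (d' * x * d'⁻¹) := by
          rw [hd₀, he]; group
        rw [this]
        simpa using hff
      rw [mem_centralizer_singleton] at h1
      have hc1 : Commute d v := hDv d hd
      have hc2 : Commute (d * d₀ * d⁻¹) v := h1.symm
      have hd₀v : d₀ * v = v * d₀ := by
        have hx3 : d₀ = d⁻¹ * (d * d₀ * d⁻¹) * d := by group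
        have hc3 : Commute d₀ v := by
          rw [hx3]
          exact (hc1.inv_left.mul_left hc2).mul_left hc1
        exact hc3
      have hd₀W : d₀ ∈ Wsub x := inv_mul_conj_mem_Wsub x e
      have hd₀K : d₀ ∈ K := Wsub_le_of_mem K hxK hd₀W
      have hN1 : normAux v s d₀ = d₀ ^ s := normAux_of_commute v s hd₀v
      have hN2 : normAux v s (x * d₀) = a₁ * normAux v s d₀ := normAux_mul K hKc v s hxK hd₀K
      have hN3 : normAux v s (x * d₀) = a₁ := by
        have : x * d₀ = e * x * e⁻¹ := by rw [hd₀]; group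
        rw [this, normAux_conj v s (hDv e heD)]
        have hea := hDa e heD
        calc e * normAux v s x * e⁻¹ = (e * a₁) * e⁻¹ := rfl
          _ = (a₁ * e) * e⁻¹ := by rw [hea]
          _ = a₁ := by group
      have hN4 : d₀ ^ s = 1 := by
        rw [← hN1]
        have : a₁ * normAux v s d₀ = a₁ * 1 := by rw [← hN2, hN3, mul_one]
        exact mul_left_cancel this
      have hm : d₀ ^ m = 1 :=
        orderOf_dvd_iff_pow_eq_one.mp
          ((Subgroup.orderOf_dvd_natCard _ hd₀W).trans (hsys.card_dvd x hxT))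
      have h5 : d₀ = 1 := eq_one_of_pow hs hN4 hm
      rw [mem_centralizer_singleton]
      have h6 : e * x * e⁻¹ = x := by
        have : e * x * e⁻¹ = x * d₀ := by rw [hd₀]; group
        rw [this, h5, mul_one]
      calc x * e = (e * x * e⁻¹) * e := by rw [h6]
        _ = e * x := by group
  -- arithmetic
  set d := (Subgroup.centralizer ({x} : Set G)).relIndex D with hd
  have hrel : d * cs x' = (Subgroup.centralizer ({x} : Set G) ⊓ D).index := by
    have := Subgroup.relIndex_mul_index
      (inf_le_right : Subgroup.centralizer ({x} : Set G) ⊓ D ≤ D)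
    rw [Subgroup.inf_relIndex_right] at this
    exact this
  have hn1 : n ∣ d * cs x' := by
    rw [hrel, ← hx]
    exact Subgroup.index_dvd_of_le inf_le_left
  have hx'0 : cs x' ≠ 0 := index_centralizer_ne_zero x'
  obtain ⟨c', hc'⟩ := hκ1.trans hd1
  have hc'0 : 0 < c' := by
    rcases Nat.eq_zero_or_pos c' with h0 | h0
    · rw [h0, mul_zero] at hc'
      exact (hx'0 hc').elim
    · exact h0
  have hd0 : 0 < d := by
    rcases Nat.eq_zero_or_pos d with h0 | h0
    · have h1 : (Subgroup.centralizer ({x} : Set G) ⊓ D).index ≠ 0 :=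
        Subgroup.index_ne_zero_of_finite
      rw [← hrel, h0, zero_mul] at h1
      exact (h1 rfl).elim
    · exact h0
  rw [hc'] at hn1
  have hn2 : n ∣ κ * (d * c') := by
    have : d * (κ * c') = κ * (d * c') := by ring
    rwa [this] at hn1
  have hn3 : n ∣ d * c' := hκn.symm.dvd_of_dvd_mul_left hn2
  have hn4 : n ≤ d * c' := Nat.le_of_dvd (Nat.mul_pos hd0 hc'0) hn3
  have hn5 : d * c' < κ * c' := Nat.mul_lt_mul_of_pos_right hcount hc'0
  omega


/-- max class size lemma -/
theorem E1 (h : Hyp G m n) {w c : G} {i j : ℕ} (hw : cs w = m) (hwi : w ^ i = 1)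
    (hcj : c ^ j = 1) (hij : i.Coprime j) (hcomm : Commute w c) :
    Subgroup.centralizer ({w} : Set G) ≤ Subgroup.centralizer ({c} : Set G) := by
  have hle := centralizer_mul_le hij hwi (by rw [hcj]; exact Subgroup.one_mem _) hcomm
  have h1 : cs w ∣ cs (w * c) := Subgroup.index_dvd_of_le (hle.trans inf_le_left)
  rw [hw] at h1
  have h2 : cs (w * c) = m := eq_m_of_dvd h h1
  have h3 := Subgroup.relIndex_mul_index (hle.trans inf_le_left)
  rw [hw, h2] at h3
  have hm0 : 0 < m := by have := h.hmn; omega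
  have h4 : (Subgroup.centralizer ({w * c} : Set G)).relIndex
      (Subgroup.centralizer ({w} : Set G)) = 1 := by
    have : (Subgroup.centralizer ({w * c} : Set G)).relIndex
      (Subgroup.centralizer ({w} : Set G)) * m = 1 * m := by rw [h3, one_mul]
    exact Nat.eq_of_mul_eq_mul_right hm0 this
  exact (Subgroup.relIndex_eq_one.mp h4).trans (hle.trans inf_le_right)

theorem exists_split (m : ℕ) : ∀ N : ℕ, 0 < N →
    ∃ s t : ℕ, N = s * t ∧ s.Coprime m ∧ ∀ p : ℕ, p.Prime → p ∣ t → p ∣ m := by
  intro N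
  induction N using Nat.strong_induction_on with
  | _ N ih =>
    intro hN
    by_cases hc : N.Coprime m
    · exact ⟨N, 1, by simp, hc, fun p hp h1 => (hp.one_lt.ne' (Nat.dvd_one.mp h1)).elim⟩
    · obtain ⟨p, hp, hpN, hpm⟩ := Nat.Prime.not_coprime_iff_dvd.mp hc
      obtain ⟨N', rfl⟩ := hpN
      have hN' : 0 < N' := by
        rcases Nat.eq_zero_or_pos N' with h0 | h0
        · rw [h0] at hN; simp at hN
        · exact h0
      have hlt : N' < p * N' := by
        have := hp.one_lt
        nlinarith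
      obtain ⟨s, t, hst, hs, ht⟩ := ih N' hlt hN'
      refine ⟨s, p * t, by rw [hst]; ring, hs, ?_⟩
      intro q hq hqd
      rcases (Nat.Prime.dvd_mul hq).mp hqd with h1 | h1
      · rw [(Nat.prime_dvd_prime_iff_eq hq hp).mp h1]
        exact hpm
      · exact ht q hq h1

/-- the class sizes are `1`, `n`, `m` -/
theorem class_sizes (h : Hyp G m n) {x y : G} (hx : cs x = n) (hy : cs y = m) (g : G)
    (hg : g ∉ Subgroup.center G) : cs g = n ∨ cs g = m := by
  obtain ⟨s, t, hN, hsm, ht⟩ := exists_split m (orderOf g) (orderOf_pos g)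
  have hst : s.Coprime t := by
    apply Nat.coprime_of_dvd
    intro p hp h1 h2
    have h3 : p ∣ Nat.gcd s m := Nat.dvd_gcd h1 (ht p hp h2)
    rw [hsm.gcd_eq_one] at h3
    exact hp.one_lt.ne' (Nat.dvd_one.mp h3)
  have hg1 : (g ^ t) ^ s = 1 := by
    rw [← pow_mul, mul_comm, ← hN]; exact pow_orderOf_eq_one g
  have hg2 : (g ^ s) ^ t = 1 := by
    rw [← pow_mul, ← hN]; exact pow_orderOf_eq_one g
  by_cases hgt : g ^ t ∈ Subgroup.center G
  · set u := g ^ s with hu
    have huc : u ∉ Subgroup.center G := fun hc => hg (mem_center_of_pow hst hc hgt)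
    have hle1 : Subgroup.centralizer ({g} : Set G) ≤ Subgroup.centralizer ({u} : Set G) := by
      intro z hz
      rw [mem_centralizer_singleton] at hz ⊢
      have hz' : Commute g z := hz
      exact (hz'.pow_left s).eq
    have hle2 : Subgroup.centralizer ({u} : Set G) ≤ Subgroup.centralizer ({g} : Set G) := by
      intro z hz
      rw [mem_centralizer_singleton] at hz ⊢
      have h1 : Commute z (g ^ s) := hz.symm
      have h2 : Commute z (g ^ t) := Subgroup.mem_center_iff.mp hgt z
      exact (commute_of_pow hst h1 h2).symm.eq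
    have heq : cs g = cs u := by rw [le_antisymm hle1 hle2]
    rw [heq]
    by_cases hum : cs u = m
    · exact Or.inr hum
    left
    apply eq_n_of_dvd h
    have hn0 : n ≠ 0 := by have := h.hn; omega
    have hu0 : cs u ≠ 0 := index_centralizer_ne_zero u
    rw [← Nat.factorization_le_iff_dvd hn0 hu0]
    intro q
    by_cases hq : q.Prime ∧ q ∣ n
    · obtain ⟨hqp, hqn⟩ := hq
      haveI : Fact q.Prime := ⟨hqp⟩
      have hqm : ¬ q ∣ m := by
        intro hqm
        have h5 : q ∣ Nat.gcd m n := Nat.dvd_gcd hqm hqn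
        rw [h.hcop.gcd_eq_one] at h5
        exact hqp.one_lt.ne' (Nat.dvd_one.mp h5)
      have hqmc : q.Coprime m := (Nat.Prime.coprime_iff_not_dvd hqp).mpr hqm
      have hqt : q.Coprime t := (Nat.Prime.coprime_iff_not_dvd hqp).mpr
        (fun hqt => hqm (ht q hqp hqt))
      set Cu := Subgroup.centralizer ({u} : Set G) with hCu
      obtain ⟨Q₀⟩ : Nonempty (Sylow q Cu) := inferInstance
      have hQ₀ : ∀ w : Cu, w ∈ Q₀ → (w : G) ∈ Subgroup.center G := by
        intro w hw
        obtain ⟨k, hk⟩ := (IsPGroup.iff_orderOf.mp Q₀.2) ⟨w, hw⟩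
        have hwk : (w : G) ^ q ^ k = 1 := by
          have h1 : orderOf w = q ^ k := by
            rw [← hk]; exact (Subgroup.orderOf_mk w hw).symm
          have h2 : orderOf (w : G) = q ^ k := by rw [Subgroup.orderOf_coe, h1]
          rw [← h2]
          exact pow_orderOf_eq_one _
        by_contra hwc
        have hwm : cs (w : G) = m := V h hx hy hwk (hqmc.pow_left k) hwc
        have hwu : Commute (w : G) u := by
          have hw2 : (w : G) ∈ Subgroup.centralizer ({u} : Set G) := w.2
          rw [mem_centralizer_singleton] at hw2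
          exact hw2.symm
        have hle := E1 h hwm hwk hg2 (hqt.pow_left k) hwu
        have h1 : cs u ∣ cs (w : G) := Subgroup.index_dvd_of_le hle
        rw [hwm] at h1
        have hc : (cs u).Coprime n := Nat.Coprime.coprime_dvd_left h1 h.hcop
        rcases F4 h hx hy hc with h2 | h2
        · exact huc h2
        · exact hum h2
      have hQle : (Q₀ : Subgroup Cu).map Cu.subtype ≤ Subgroup.centralizer ({x} : Set G) := by
        rintro _ ⟨w, hw, rfl⟩
        exact Subgroup.center_le_centralizer _ (hQ₀ w hw)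
      have hcard1 : Nat.card ((Q₀ : Subgroup Cu).map Cu.subtype) =
          q ^ (Nat.card Cu).factorization q := by
        rw [Subgroup.card_map_of_injective Cu.subtype_injective]
        exact Q₀.card_eq_multiplicity
      have hdvd : q ^ (Nat.card Cu).factorization q ∣
          Nat.card (Subgroup.centralizer ({x} : Set G)) := by
        rw [← hcard1]
        exact Subgroup.card_dvd_of_le hQle
      have hCx0 : Nat.card (Subgroup.centralizer ({x} : Set G)) ≠ 0 := Nat.card_pos.ne'
      have hCu0 : Nat.card Cu ≠ 0 := Nat.card_pos.ne'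
      have hle := (Nat.Prime.pow_dvd_iff_le_factorization hqp hCx0).mp hdvd
      have e1 : Nat.card Cu * cs u = Nat.card (Subgroup.centralizer ({x} : Set G)) * n := by
        rw [← hx, Subgroup.card_mul_index, Subgroup.card_mul_index]
      have e2 : (Nat.card Cu * cs u).factorization q =
          (Nat.card (Subgroup.centralizer ({x} : Set G)) * n).factorization q := by rw [e1]
      rw [Nat.factorization_mul hCu0 hu0, Nat.factorization_mul hCx0 hn0, Finsupp.add_apply,
        Finsupp.add_apply] at e2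
      omega
    · have h0 : n.factorization q = 0 := by
        by_cases hqp : q.Prime
        · exact Nat.factorization_eq_zero_of_not_dvd (fun hqn => hq ⟨hqp, hqn⟩)
        · exact Nat.factorization_eq_zero_of_not_prime n hqp
      rw [h0]
      exact Nat.zero_le _
  · right
    have h1 : cs (g ^ t) = m := V h hx hy hg1 hsm hgt
    apply eq_m_of_dvd h
    rw [← h1]
    apply Subgroup.index_dvd_of_le
    intro z hz
    rw [mem_centralizer_singleton] at hz ⊢
    have hz' : Commute g z := hz
    exact (hz'.pow_left t).eq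

end main

section coreExt

variable [Finite G] {S : Set ℕ} {b₀ : G}

/-- the extended core: explicit kernel and complement -/
theorem core_ext (hd : Dich G S) (hmax : ∀ g : G, cs g ≤ cs b₀) (hb₀ : T2 S b₀) {a₀ : G}
    (ha₀ : T1 S a₀) (p : ℕ) [hpF : Fact p.Prime] (hp : p ∣ cs a₀) (P : Sylow p G) :
    (∀ g : G, ∃ k ∈ ClassGraph.KK G S,
      ∃ c ∈ Subgroup.centralizer ((P : Subgroup G) : Set G), g = k * c) ∧
    (∀ h ∈ (Subgroup.centralizer ((P : Subgroup G) : Set G)).map
        (QuotientGroup.mk' (Subgroup.center G)), h ≠ 1 →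
      ∀ n ∈ (ClassGraph.KK G S).map (QuotientGroup.mk' (Subgroup.center G)),
        n * h = h * n → n = 1) ∧
    Cfsg.IsFrobeniusComplement ((Subgroup.centralizer ((P : Subgroup G) : Set G)).map
        (QuotientGroup.mk' (Subgroup.center G))) ∧
    Cfsg.frobeniusKernel ((Subgroup.centralizer ((P : Subgroup G) : Set G)).map
        (QuotientGroup.mk' (Subgroup.center G))) =
      (((ClassGraph.KK G S).map (QuotientGroup.mk' (Subgroup.center G)) :
        Subgroup (G ⧸ Subgroup.center G)) : Set (G ⧸ Subgroup.center G)) ∧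
    Subgroup.centralizer ({a₀} : Set G) = ClassGraph.KK G S ∧
    (∀ c ∈ Subgroup.centralizer ((P : Subgroup G) : Set G),
      ∀ c' ∈ Subgroup.centralizer ((P : Subgroup G) : Set G),
        (c' * c)⁻¹ * (c * c') ∈ Subgroup.center G) := by
  obtain ⟨x, hxP, hxc⟩ := exists_mem_sylow_not_center (a₀ := a₀) hp P
  set K := ClassGraph.KK G S with hK
  set Hc := Subgroup.centralizer ((P : Subgroup G) : Set G) with hHc
  set π := QuotientGroup.mk' (Subgroup.center G) with hπ
  have hπs : Function.Surjective π := QuotientGroup.mk'_surjective _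
  set N' := K.map π with hN'
  set H' := Hc.map π with hH'
  haveI hKn : K.Normal := ClassGraph.KK_normal
  haveI hN'n : N'.Normal := Subgroup.Normal.map hKn π hπs
  have hsup := centralizer_sylow_sup_KK hd ha₀ hp P
  have hinf := KK_inf_centralizer_sylow_le hd hmax hb₀ ha₀ hp P
  have hker : ∀ g : G, π g = 1 ↔ g ∈ Subgroup.center G := fun g => QuotientGroup.eq_one_iff g
  have hdecG : ∀ g : G, ∃ k ∈ K, ∃ c ∈ Hc, g = k * c := by
    intro g
    have hg : g ∈ ((K ⊔ Hc : Subgroup G) : Set G) := by rw [hsup]; trivial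
    rw [Subgroup.normal_mul] at hg
    obtain ⟨k, hk, c, hc, rfl⟩ := hg
    exact ⟨k, hk, c, hc, rfl⟩
  have hdec : ∀ y : G ⧸ Subgroup.center G, ∃ n ∈ N', ∃ h ∈ H', y = n * h := by
    intro y
    obtain ⟨g, rfl⟩ := hπs y
    obtain ⟨k, hk, c, hc, rfl⟩ := hdecG g
    exact ⟨π k, Subgroup.mem_map_of_mem _ hk, π c, Subgroup.mem_map_of_mem _ hc, map_mul _ _ _⟩
  have hint : ∀ y : G ⧸ Subgroup.center G, y ∈ N' → y ∈ H' → y = 1 := by
    rintro y ⟨k, hk, rfl⟩ ⟨c, hc, hkc⟩
    have h1 : c⁻¹ * k ∈ Subgroup.center G := by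
      rw [← hker, map_mul, map_inv, hkc]
      simp
    have h2 : c ∈ K := by
      have : c = k * (c⁻¹ * k)⁻¹ := by group
      rw [this]
      exact K.mul_mem hk (K.inv_mem (ClassGraph.center_le_KK h1))
    rw [← hkc]
    exact (hker c).mpr (hinf (Subgroup.mem_inf.mpr ⟨h2, hc⟩))
  have hfpfx : ∀ n ∈ N', n * π x = π x * n → n = 1 := by
    rintro n ⟨k, hk, rfl⟩ hcomm
    rw [hker]
    by_contra hkc
    have hT1 := T1_of_mem_KK hd hmax hb₀ hk hkc
    have h1 : (k * x)⁻¹ * (x * k) ∈ Subgroup.center G := by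
      rw [← hker, map_mul, map_inv, map_mul, map_mul, hcomm]
      simp
    have h2 : k⁻¹ * (x⁻¹ * k * x⁻¹⁻¹) ∈ Subgroup.center G := by
      have : k⁻¹ * (x⁻¹ * k * x⁻¹⁻¹) = ((k * x)⁻¹ * (x * k))⁻¹ := by group
      rw [this]
      exact Subgroup.inv_mem _ h1
    have h3 := conj_eq_of_central k x⁻¹ (cs b₀) (card_Wsub_dvd_max hmax hb₀ hT1)
      (coprime_of_T1_T2 hT1 hb₀) h2
    have h4 : k * x = x * k := by
      calc k * x = x * (x⁻¹ * k * x⁻¹⁻¹) := by group
        _ = x * k := by rw [h3]
    exact hkc (mem_center_of_commute_sylow_elt hd hmax hb₀ ha₀ hp P hxP hxc hk h4)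
  have hfpf : ∀ h ∈ H', h ≠ 1 → ∀ n ∈ N', n * h = h * n → n = 1 := by
    rintro h ⟨c, hc, rfl⟩ hh1
    have hcc : c ∉ Subgroup.center G := fun hc' => hh1 ((hker c).mpr hc')
    apply fpf_of_forall_exists N' (π c)
    intro n hn
    obtain ⟨n₀, ⟨k₀, hk₀, rfl⟩, hn₀⟩ := exists_commutator_eq N' (π x) hfpfx n hn
    obtain ⟨k', hk', z, hz, he⟩ := stepH (x := x) hd hmax hb₀ ha₀ hp P hc hcc hk₀
    refine ⟨π k', Subgroup.mem_map_of_mem _ hk', ?_⟩
    have h1 : n = π (k₀⁻¹ * x * k₀ * x⁻¹) := by
      rw [hn₀]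
      simp only [map_mul, map_inv]
    rw [h1, he, map_mul, (hker z).mpr hz, one_mul]
    simp only [map_mul, map_inv]
  have hN1 : N' ≠ ⊥ := by
    intro h
    have h1 : π a₀ ∈ N' := Subgroup.mem_map_of_mem _ (T1_mem_KK ha₀)
    rw [h, Subgroup.mem_bot, hker] at h1
    exact T1_not_center ha₀ h1
  have hH1 : H' ≠ ⊥ := by
    intro h
    have hle : Hc ≤ K := by
      intro c hc
      have h1 : π c ∈ H' := Subgroup.mem_map_of_mem _ hc
      rw [h, Subgroup.mem_bot, hker] at h1
      exact ClassGraph.center_le_KK h1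
    have h2 : K = ⊤ := by rw [← hsup]; exact (sup_eq_left.mpr hle).symm
    apply sylow_elt_not_mem_KK hmax hb₀ ha₀ hp P hxP hxc
    rw [← hK, h2]
    trivial
  obtain ⟨hfrob, hkernel⟩ := Cfsg.Agent.S4108.frob_aux N' H' hdec hint hfpf hN1 hH1
  have hCa : Subgroup.centralizer ({a₀} : Set G) = K := by
    apply le_antisymm
    · intro g hg
      rw [mem_centralizer_singleton] at hg
      by_contra hgK
      obtain ⟨k, hk, c, hc, rfl⟩ := hdecG g
      have hcK : c ∉ K := fun h => hgK (K.mul_mem hk h)
      have hcc : c ∉ Subgroup.center G := fun h => hcK (ClassGraph.center_le_KK h)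
      have h2 : a₀ * k = k * a₀ := ClassGraph.KK_comm hmax hb₀ (T1_mem_KK ha₀) hk
      have h1 : a₀ * c = c * a₀ := by
        have h3 : k * (a₀ * c) = k * (c * a₀) := by
          calc k * (a₀ * c) = (k * a₀) * c := by group
            _ = (a₀ * k) * c := by rw [h2]
            _ = a₀ * (k * c) := by group
            _ = k * c * a₀ := hg
            _ = k * (c * a₀) := by group
        exact mul_left_cancel h3
      have h4 : π a₀ = 1 := by
        apply hfpf (π c) (Subgroup.mem_map_of_mem _ hc) (fun h => hcc ((hker c).mp h)) (π a₀)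
          (Subgroup.mem_map_of_mem _ (T1_mem_KK ha₀))
        rw [← map_mul, ← map_mul, h1]
      exact T1_not_center ha₀ ((hker a₀).mp h4)
    · intro k hk
      rw [mem_centralizer_singleton]
      exact ClassGraph.KK_comm hmax hb₀ (T1_mem_KK ha₀) hk
  have hGK : ∀ g h : G, g * h * g⁻¹ * h⁻¹ ∈ K := by
    intro g h
    by_cases hg : g ∈ K
    · have : g * h * g⁻¹ * h⁻¹ = g * (h * g⁻¹ * h⁻¹) := by group
      rw [this]
      exact K.mul_mem hg (hKn.conj_mem _ (K.inv_mem hg) h)
    · have hT2 := T2_of_not_mem_KK hd hg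
      have htop : Subgroup.centralizer ({g} : Set G) ⊔ K = ⊤ := by
        rw [← Subgroup.index_eq_one]
        have h1 : (Subgroup.centralizer ({g} : Set G) ⊔ K).index ∣ cs g :=
          Subgroup.index_dvd_of_le le_sup_left
        have h2 : (Subgroup.centralizer ({g} : Set G) ⊔ K).index ∣ cs a₀ := by
          rw [hCa]
          exact Subgroup.index_dvd_of_le le_sup_right
        exact Nat.eq_one_of_dvd_coprimes (coprime_of_T1_T2 ha₀ hT2) h2 h1
      have hh : h ∈ ((Subgroup.centralizer ({g} : Set G) ⊔ K : Subgroup G) : Set G) := by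
        rw [htop]; trivial
      rw [Subgroup.mul_normal] at hh
      obtain ⟨c, hc, k, hk, rfl⟩ := hh
      rw [SetLike.mem_coe, mem_centralizer_singleton] at hc
      have h3 : g * (c * k) * g⁻¹ * (c * k)⁻¹ = c * (g * k * g⁻¹ * k⁻¹) * c⁻¹ := by
        calc g * (c * k) * g⁻¹ * (c * k)⁻¹ = (g * c) * k * g⁻¹ * k⁻¹ * c⁻¹ := by group
          _ = (c * g) * k * g⁻¹ * k⁻¹ * c⁻¹ := by rw [hc]
          _ = _ := by group
      rw [h3]
      apply hKn.conj_mem
      have h4 : g * k * g⁻¹ * k⁻¹ = (g * k * g⁻¹) * k⁻¹ := by group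
      rw [h4]
      exact K.mul_mem (hKn.conj_mem k hk g) (K.inv_mem hk)
  refine ⟨hdecG, hfpf, hfrob, hkernel, hCa, ?_⟩
  intro c hc c' hc'
  apply hinf
  rw [Subgroup.mem_inf]
  constructor
  · have : (c' * c)⁻¹ * (c * c') = c⁻¹ * c'⁻¹ * c⁻¹⁻¹ * c'⁻¹⁻¹ := by group
    rw [this]
    exact hGK _ _
  · exact Hc.mul_mem (Hc.inv_mem (Hc.mul_mem hc' hc)) (Hc.mul_mem hc hc')

end coreExt

section final

variable [Finite G] {m n : ℕ}

theorem main (h : Hyp G m n) {x y : G} (hx : cs x = n) (hy : cs y = m) :
    IsMulCommutative (Subgroup.centralizer ({x} : Set G)) ∧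
    IsMulCommutative (Subgroup.centralizer ({y} : Set G)) ∧
    Cfsg.IsFrobeniusComplement
      ((Subgroup.centralizer ({y} : Set G)).map (QuotientGroup.mk' (Subgroup.center G))) ∧
    Cfsg.frobeniusKernel
      ((Subgroup.centralizer ({y} : Set G)).map (QuotientGroup.mk' (Subgroup.center G))) =
      ((Subgroup.centralizer ({x} : Set G)).map (QuotientGroup.mk' (Subgroup.center G)) :
        Set (G ⧸ Subgroup.center G)) := by
  have hn1 : 1 < n := h.hn
  have hmn : n < m := h.hmn
  have hcs := class_sizes h hx hy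
  have hprime : ∀ r : ℕ, r.Prime → r ∣ m → r ∣ n → False := by
    intro r hr h1 h2
    have h5 : r ∣ Nat.gcd m n := Nat.dvd_gcd h1 h2
    rw [h.hcop.gcd_eq_one] at h5
    exact hr.one_lt.ne' (Nat.dvd_one.mp h5)
  set S : Set ℕ := {r | r ∣ n} with hS
  have hd : Dich G S := by
    intro g
    by_cases hgc : g ∈ Subgroup.center G
    · left
      intro r hr hdvd
      rw [(index_centralizer_eq_one_iff g).mpr hgc] at hdvd
      exact (hr.one_lt.ne' (Nat.dvd_one.mp hdvd)).elim
    · rcases hcs g hgc with h1 | h1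
      · left
        intro r hr hdvd
        rw [h1] at hdvd
        exact hdvd
      · right
        intro r hr hdvd hrS
        rw [h1] at hdvd
        exact hprime r hr hdvd hrS
  have hmax : ∀ g : G, cs g ≤ cs y := by
    intro g
    rw [hy]
    exact h.htop g
  have hb₀ : T2 S y := by
    refine ⟨by rw [hy]; omega, ?_⟩
    intro r hr hdvd hrS
    rw [hy] at hdvd
    exact hprime r hr hdvd hrS
  have ha₀ : T1 S x := by
    refine ⟨by rw [hx]; omega, ?_⟩
    intro r hr hdvd
    rw [hx] at hdvd
    exact hdvd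
  obtain ⟨p, hpp, hpn⟩ := Nat.exists_prime_and_dvd (show n ≠ 1 by omega)
  haveI : Fact p.Prime := ⟨hpp⟩
  have hp' : p ∣ cs x := by rw [hx]; exact hpn
  have hpy : ¬ p ∣ cs y := by
    rw [hy]
    intro hpm
    exact hprime p hpp hpm hpn
  obtain ⟨P, hPle, -⟩ := Cfsg.Agent.S4127.exists_sylow_mem_le_centralizer p y 1 hpy
    (Subgroup.one_mem _) ⟨0, by simp⟩
  obtain ⟨hdecG, hfpf, hfrob, hkernel, hCa, hHab⟩ := core_ext hd hmax hb₀ ha₀ p hp' P
  have hinf := KK_inf_centralizer_sylow_le hd hmax hb₀ ha₀ hp' P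
  set K := ClassGraph.KK G S with hK
  set Hc := Subgroup.centralizer ((P : Subgroup G) : Set G) with hHc
  set π := QuotientGroup.mk' (Subgroup.center G) with hπ
  haveI hKn : K.Normal := ClassGraph.KK_normal
  have hker : ∀ g : G, π g = 1 ↔ g ∈ Subgroup.center G := fun g => QuotientGroup.eq_one_iff g
  have hyHc : y ∈ Hc := by
    rw [hHc, Subgroup.mem_centralizer_iff]
    intro t ht
    have := hPle ht
    rw [mem_centralizer_singleton] at this
    exact this.symm
  have hyc : y ∉ Subgroup.center G := T2_not_center hb₀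
  have hKidx : K.index = n := by rw [← hCa, hx]
  have hpowc : ∀ c ∈ Hc, c ^ n ∈ Subgroup.center G := by
    intro c hc
    apply hinf
    rw [Subgroup.mem_inf]
    refine ⟨?_, Hc.pow_mem hc n⟩
    rw [← hKidx]
    exact K.pow_index_mem c
  have hcsHc : ∀ c ∈ Hc, c ∉ Subgroup.center G → cs c = m := by
    intro c hc hcc
    rcases hcs c hcc with h1 | h1
    · exfalso
      have hT1 : T1 S c := by
        refine ⟨by rw [h1]; omega, ?_⟩
        intro r hr hdvd
        rw [h1] at hdvd
        exact hdvd
      exact hcc (hinf (Subgroup.mem_inf.mpr ⟨T1_mem_KK hT1, hc⟩))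
    · exact h1
  have hHcomm : ∀ c ∈ Hc, ∀ c' ∈ Hc, c * c' = c' * c := by
    intro c hc c' hc'
    by_cases hc'c : c' ∈ Subgroup.center G
    · exact Subgroup.mem_center_iff.mp hc'c c
    set z := (c' * c)⁻¹ * (c * c') with hz
    have hzc : z ∈ Subgroup.center G := hHab c hc c' hc'
    have h1 : c * c' * c⁻¹ = c' * z := by
      have e1 : c * c' = c' * c * z := by rw [hz]; group
      have e2 : c * z = z * c := Subgroup.mem_center_iff.mp hzc c
      calc c * c' * c⁻¹ = c' * c * z * c⁻¹ := by rw [e1]
        _ = c' * (c * z) * c⁻¹ := by group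
        _ = c' * (z * c) * c⁻¹ := by rw [e2]
        _ = c' * z := by group
    have h2 : orderOf z ∣ cs c' := orderOf_dvd_index_of_central c' z hzc c h1
    rw [hcsHc c' hc' hc'c] at h2
    have hpow : ∀ j : ℕ, c ^ j * c' * (c ^ j)⁻¹ = c' * z ^ j := by
      intro j
      induction j with
      | zero => simp
      | succ j ih =>
        have e1 : c ^ (j + 1) * c' * (c ^ (j + 1))⁻¹ = c * (c ^ j * c' * (c ^ j)⁻¹) * c⁻¹ := by
          rw [pow_succ']; group
        have e2 : c * z ^ j = z ^ j * c :=
          Subgroup.mem_center_iff.mp (Subgroup.pow_mem _ hzc j) c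
        rw [e1, ih]
        calc c * (c' * z ^ j) * c⁻¹ = (c * c' * c⁻¹) * (c * z ^ j) * c⁻¹ := by group
          _ = (c' * z) * (z ^ j * c) * c⁻¹ := by rw [h1, e2]
          _ = c' * z ^ (j + 1) := by rw [pow_succ']; group
    have h3 : z ^ n = 1 := by
      have e1 := hpow n
      have e2 : c ^ n * c' = c' * c ^ n := (Subgroup.mem_center_iff.mp (hpowc c hc) c').symm
      rw [e2] at e1
      have e3 : c' * 1 = c' * z ^ n := by
        rw [← e1]; group
      exact (mul_left_cancel e3).symm
    have h4 : z ^ m = 1 := orderOf_dvd_iff_pow_eq_one.mp h2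
    have h5 : z = 1 := eq_one_of_pow h.hcop h4 h3
    have e1 : c * c' = c' * c * z := by rw [hz]; group
    rw [e1, h5, mul_one]
  have hCy : ∀ g ∈ Subgroup.centralizer ({y} : Set G),
      ∃ k ∈ Subgroup.center G, ∃ c ∈ Hc, g = k * c := by
    intro g hg
    obtain ⟨k, hk, c, hc, rfl⟩ := hdecG g
    refine ⟨k, ?_, c, hc, rfl⟩
    rw [mem_centralizer_singleton] at hg
    have hcy : c * y = y * c := hHcomm c hc y hyHc
    have hky : k * y = y * k := by
      have e1 : k * y * c = y * k * c := by
        calc k * y * c = k * (y * c) := by group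
          _ = k * (c * y) := by rw [hcy]
          _ = (k * c) * y := by group
          _ = y * (k * c) := hg.symm
          _ = y * k * c := by group
      exact mul_right_cancel e1
    rw [← hker]
    apply hfpf (π y) (Subgroup.mem_map_of_mem _ hyHc) (fun h1 => hyc ((hker y).mp h1)) (π k)
      (Subgroup.mem_map_of_mem _ hk)
    rw [← map_mul, ← map_mul, hky]
  have hHcle : Hc ≤ Subgroup.centralizer ({y} : Set G) := by
    intro c hc
    rw [mem_centralizer_singleton]
    exact hHcomm y hyHc c hc
  have hmap : (Subgroup.centralizer ({y} : Set G)).map π = Hc.map π := by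
    apply le_antisymm
    · rintro _ ⟨g, hg, rfl⟩
      obtain ⟨k, hk, c, hc, rfl⟩ := hCy g hg
      refine ⟨c, hc, ?_⟩
      rw [map_mul, (hker k).mpr hk, one_mul]
    · exact Subgroup.map_mono hHcle
  refine ⟨?_, ?_, ?_, ?_⟩
  · rw [hCa]
    refine ⟨⟨?_⟩⟩
    rintro ⟨a, ha⟩ ⟨b, hb⟩
    apply Subtype.ext
    exact ClassGraph.KK_comm hmax hb₀ ha hb
  · refine ⟨⟨?_⟩⟩
    rintro ⟨a, ha⟩ ⟨b, hb⟩
    apply Subtype.ext
    show a * b = b * a
    obtain ⟨k, hk, c, hc, rfl⟩ := hCy a ha
    obtain ⟨k', hk', c', hc', rfl⟩ := hCy b hb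
    have e1 := Subgroup.mem_center_iff.mp hk
    have e2 := Subgroup.mem_center_iff.mp hk'
    have e3 := hHcomm c hc c' hc'
    calc k * c * (k' * c') = k * (c * k') * c' := by group
      _ = k * (k' * c) * c' := by rw [e2 c]
      _ = (k * k') * (c * c') := by group
      _ = (k' * k) * (c' * c) := by rw [e3, e2 k]
      _ = k' * (k * c') * c := by group
      _ = k' * (c' * k) * c := by rw [e1 c']
      _ = k' * c' * (k * c) := by group
  · rw [hmap]
    exact hfrob
  · rw [hmap, hkernel, hCa]

end final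

end Cfsg.Agent.Helper55.TwoClass
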